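import Cfsg.Agent.Lib.J4Out38.Base

/-!
# The action of the model on the vectors and its decomposition
-/

set_option autoImplicit false
set_option maxRecDepth 20000

namespace Cfsg.Agent.Lib.J4Out38

open Cfsg.Agent.Lib.J4Dce59

/-- The right action of the model on the affine space, as numbers. -/
noncomputable def act (p : P) (r : ℕ) : ℕ :=
  if h : r < 4096 then ((rho p⁻¹) ⟨r, h⟩ : ℕ) else r

theorem act_eq {p : P} {A : ℕ} (hA : Code p A) {r : ℕ} (hr : r < 4096) : act p r = ap r A := by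
  rw [act, dif_pos hr]
  exact hA.apply ⟨r, hr⟩

theorem act_lt (p : P) {r : ℕ} (hr : r < 4096) : act p r < 4096 := by
  rw [act, dif_pos hr]
  exact Fin.isLt _

theorem act_one {r : ℕ} (hr : r < 4096) : act 1 r = r := by
  rw [act, dif_pos hr, inv_one, map_one]
  rfl

theorem act_mul (p q : P) {r : ℕ} (hr : r < 4096) : act (p * q) r = act q (act p r) := by
  rw [act, dif_pos hr, mul_inv_rev, map_mul, act, dif_pos (act_lt p hr)]
  simp [act, hr, Equiv.Perm.mul_apply]

theorem act_cancel (p : P) {r : ℕ} (hr : r < 4096) : act p⁻¹ (act p r) = r := by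
  rw [← act_mul p p⁻¹ hr, mul_inv_cancel, act_one hr]

/-- Induction along the generators of the model. -/
theorem PFacts.gen_induction (_F : PFacts) {Q : P → Prop} (h1 : Q 1)
    (hx : ∀ p, Q p → Q (p * px)) (hy : ∀ p, Q p → Q (p * py))
    (he : ∀ p i, Q p → Q (p * pe i)) (p : P) : Q p := by
  have hmem : p ∈ Subgroup.closure (Set.range (PresentedGroup.of (rels := rels))) := by
    rw [PresentedGroup.closure_range_of]; trivial
  induction hmem using Subgroup.closure_induction_right with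
  | one => exact h1
  | mul_right a _ z hz ih =>
    obtain ⟨g, rfl⟩ := hz
    cases g with
    | x => exact hx _ ih
    | y => exact hy _ ih
    | e i => exact he _ i ih
  | mul_inv_cancel a _ z hz ih =>
    obtain ⟨g, rfl⟩ := hz
    cases g with
    | x =>
      have : (px)⁻¹ = px := inv_eq_of_mul_eq_one_right (by rw [← pow_two]; exact hRel_P.m24.1)
      rw [this]; exact hx _ ih
    | y =>
      have : (py)⁻¹ = py * py :=
        inv_eq_of_mul_eq_one_right (by rw [← hRel_P.m24.2.1, pow_succ, pow_two, mul_assoc])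
      rw [this, ← mul_assoc]; exact hy _ (hy _ ih)
    | e i => rw [show (PresentedGroup.of (rels := rels) (Gen.e i))⁻¹ = pe i from pe_inv i]; exact he _ i ih

theorem PFacts.exists_code (F : PFacts) (p : P) : ∃ A, Code p A :=
  F.gen_induction (Q := fun p => ∃ A, Code p A) ⟨_, Code.one'⟩
    (fun _ ⟨A, h⟩ => ⟨_, h.mul code_x⟩) (fun _ ⟨A, h⟩ => ⟨_, h.mul code_y⟩)
    (fun _ i ⟨A, h⟩ => ⟨_, h.mul (code_e i)⟩) p

theorem PFacts.act_xor (F : PFacts) (p : P) {a b : ℕ} (ha : a < 4096) (hb : b < 4096) :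
    act p (a ^^^ b) = act p a ^^^ act p b := by
  obtain ⟨A, hA⟩ := F.exists_code p
  rw [act_eq hA (Nat.xor_lt_two_pow (n := 12) ha hb), act_eq hA ha, act_eq hA hb, ap_xor]

theorem act_zero (F : PFacts) (p : P) : act p 0 = 0 := by
  obtain ⟨A, hA⟩ := F.exists_code p
  rw [act_eq hA (by norm_num), ap_zero]

theorem gen_checks : ((List.range 2048).all fun v =>
    Nat.blt (ap v MX) 2048 && Nat.beq (mm (tr v) MX) (mm MX (tr (ap v MX))) &&
      (Nat.blt (ap v MY) 2048 && Nat.beq (mm (tr v) MY) (mm MY (tr (ap v MY)))) &&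
        (List.range 11).all fun i => Nat.beq (ap v (tr (2 ^ i))) v) = true := by decide +kernel

theorem gen_check {v : ℕ} (hv : v < 2048) :
    (ap v MX < 2048 ∧ mm (tr v) MX = mm MX (tr (ap v MX))) ∧
      (ap v MY < 2048 ∧ mm (tr v) MY = mm MY (tr (ap v MY))) ∧
        ∀ i : Fin 11, ap v (tr (2 ^ (i : ℕ))) = v := by
  have h := List.all_eq_true.1 gen_checks v (List.mem_range.2 hv)
  simp only [Bool.and_eq_true, List.all_eq_true, Nat.blt_eq] at h
  exact ⟨⟨h.1.1.1, Nat.eq_of_beq_eq_true h.1.1.2⟩, ⟨h.1.2.1, Nat.eq_of_beq_eq_true h.1.2.2⟩,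
    fun i => Nat.eq_of_beq_eq_true (h.2 (i : ℕ) (List.mem_range.2 i.isLt))⟩

/-- Conjugation of translations is the linear part of the action. -/
theorem PFacts.conj_pv (F : PFacts) (p : P) : ∀ v, v < 2048 →
    act p v < 2048 ∧ pv v * p = p * pv (act p v) := by
  refine F.gen_induction (Q := fun p => ∀ v, v < 2048 → act p v < 2048 ∧
    pv v * p = p * pv (act p v)) ?_ ?_ ?_ ?_ p
  · intro v hv
    rw [act_one (by omega), mul_one, one_mul]
    exact ⟨hv, rfl⟩
  · intro q ih v hv
    obtain ⟨h1, h2⟩ := ih v hv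
    obtain ⟨⟨hlt, heq⟩, -, -⟩ := gen_check h1
    rw [act_mul q px (by omega), act_eq code_x (by omega)]
    refine ⟨hlt, ?_⟩
    rw [← mul_assoc, h2, mul_assoc, mul_assoc]
    congr 1
    exact F.eq_of_code (heq ▸ (code_pv h1).mul code_x) (code_x.mul (code_pv hlt))
  · intro q ih v hv
    obtain ⟨h1, h2⟩ := ih v hv
    obtain ⟨-, ⟨hlt, heq⟩, -⟩ := gen_check h1
    rw [act_mul q py (by omega), act_eq code_y (by omega)]
    refine ⟨hlt, ?_⟩
    rw [← mul_assoc, h2, mul_assoc, mul_assoc]
    congr 1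
    exact F.eq_of_code (heq ▸ (code_pv h1).mul code_y) (code_y.mul (code_pv hlt))
  · intro q i ih v hv
    obtain ⟨h1, h2⟩ := ih v hv
    obtain ⟨-, -, he⟩ := gen_check h1
    rw [act_mul q (pe i) (by omega), act_eq (code_e i) (by omega), he i]
    refine ⟨h1, ?_⟩
    rw [← mul_assoc, h2, mul_assoc, mul_assoc]
    congr 1
    have hi : 2 ^ (i : ℕ) < 2048 := by
      have := Nat.pow_lt_pow_right (show 1 < 2 by norm_num) i.isLt
      norm_num at this; exact this
    rw [F.pe_eq, F.pv_mul hi h1, F.pv_mul h1 hi, Nat.xor_comm]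

theorem PFacts.act_lt' (F : PFacts) (p : P) {v : ℕ} (hv : v < 2048) : act p v < 2048 :=
  (F.conj_pv p v hv).1

theorem PFacts.pv_mul_right (F : PFacts) (p : P) {v : ℕ} (hv : v < 2048) :
    pv v * p = p * pv (act p v) := (F.conj_pv p v hv).2

theorem fix_checks : (Nat.beq (ap 2048 MX) 2048 && Nat.beq (ap 2048 MY) 2048) = true := by
  decide +kernel

theorem PFacts.act_M (F : PFacts) {m : P} (hm : m ∈ Msub) : act m 2048 = 2048 := by
  have hfx := fix_checks
  rw [Bool.and_eq_true] at hfx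
  induction hm using Subgroup.closure_induction with
  | mem a ha =>
    rcases ha with rfl | rfl
    · rw [act_eq code_x (by norm_num)]; exact Nat.eq_of_beq_eq_true hfx.1
    · rw [act_eq code_y (by norm_num)]; exact Nat.eq_of_beq_eq_true hfx.2
  | one => exact act_one (by norm_num)
  | mul a b _ _ ha hb => rw [act_mul a b (by norm_num), ha, hb]
  | inv a _ ha =>
    have := act_cancel a (show 2048 < 4096 by norm_num)
    rwa [ha] at this

theorem act_pv {v : ℕ} (hv : v < 2048) : act (pv v) 2048 = 2048 ^^^ v := by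
  rw [act_eq (code_pv hv) (by norm_num), ap_2048_tr hv]
  have h : ((List.range 2048).all fun a => Nat.beq (2048 + a) (2048 ^^^ a)) = true := by
    decide +kernel
  exact Nat.eq_of_beq_eq_true (List.all_eq_true.1 h v (List.mem_range.2 hv))

theorem PFacts.exists_decomp (F : PFacts) (p : P) : ∃ m ∈ Msub, ∃ v < 2048, p = m * pv v := by
  refine F.gen_induction (Q := fun p => ∃ m ∈ Msub, ∃ v < 2048, p = m * pv v)
    ⟨1, one_mem _, 0, by norm_num, by rw [pv_zero, one_mul]⟩ ?_ ?_ ?_ p
  · rintro _ ⟨m, hm, v, hv, rfl⟩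
    exact ⟨m * px, mul_mem hm (Subgroup.subset_closure (by simp)), _, F.act_lt' px hv,
      by rw [mul_assoc, F.pv_mul_right px hv, mul_assoc]⟩
  · rintro _ ⟨m, hm, v, hv, rfl⟩
    exact ⟨m * py, mul_mem hm (Subgroup.subset_closure (by simp)), _, F.act_lt' py hv,
      by rw [mul_assoc, F.pv_mul_right py hv, mul_assoc]⟩
  · rintro _ i ⟨m, hm, v, hv, rfl⟩
    have hi : 2 ^ (i : ℕ) < 2048 := by
      have := Nat.pow_lt_pow_right (show 1 < 2 by norm_num) i.isLt
      norm_num at this; exact this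
    exact ⟨m, hm, _, bits_lt hv _ hi, by rw [mul_assoc, F.pv_mul_e hv]⟩

/-- The translation part of an element. -/
noncomputable def vpart (p : P) : ℕ := act p 2048 ^^^ 2048

theorem PFacts.vpart_mul_pv (F : PFacts) {m : P} (hm : m ∈ Msub) {v : ℕ} (hv : v < 2048) :
    vpart (m * pv v) = v := by
  rw [vpart, act_mul _ _ (by norm_num), F.act_M hm, act_pv hv, Nat.xor_comm, ← Nat.xor_assoc,
    Nat.xor_self, Nat.zero_xor]

/-- The projection to the complement. -/
noncomputable def mpart (p : P) : P := p * pv (vpart p)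

theorem PFacts.decomp (F : PFacts) (p : P) :
    mpart p ∈ Msub ∧ vpart p < 2048 ∧ p = mpart p * pv (vpart p) := by
  obtain ⟨m, hm, v, hv, rfl⟩ := F.exists_decomp p
  rw [mpart, F.vpart_mul_pv hm hv]
  have h : pv v * pv v = 1 := by rw [F.pv_mul hv hv, Nat.xor_self, pv_zero]
  rw [mul_assoc, h, mul_one]
  exact ⟨hm, hv, rfl⟩

theorem PFacts.mpart_eq (F : PFacts) {m : P} (hm : m ∈ Msub) {v : ℕ} (hv : v < 2048) :
    mpart (m * pv v) = m := by
  rw [mpart, F.vpart_mul_pv hm hv, mul_assoc, F.pv_mul hv hv, Nat.xor_self, pv_zero, mul_one]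

/-- The projection to the complement, as a homomorphism. -/
noncomputable def PFacts.proj (F : PFacts) : P →* P :=
  MonoidHom.mk' mpart fun p q => by
    obtain ⟨m, hm, v, hv, rfl⟩ := F.exists_decomp p
    obtain ⟨n, hn, w, hw, rfl⟩ := F.exists_decomp q
    have hv' := F.act_lt' n hv
    rw [F.mpart_eq hm hv, F.mpart_eq hn hw,
      show m * pv v * (n * pv w) = m * n * pv (act n v ^^^ w) by
        rw [← F.pv_mul hw hv', mul_assoc, ← mul_assoc (pv v), F.pv_mul_right n hv]
        simp only [mul_assoc],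
      F.mpart_eq (mul_mem hm hn) (bits_lt hv' _ hw)]

theorem PFacts.proj_M (F : PFacts) {m : P} (hm : m ∈ Msub) : F.proj m = m := by
  have := F.mpart_eq hm (v := 0) (by norm_num)
  rwa [pv_zero, mul_one] at this

theorem PFacts.proj_V (F : PFacts) {v : ℕ} (hv : v < 2048) : F.proj (pv v) = 1 := by
  have := F.mpart_eq (one_mem Msub) hv
  rwa [one_mul] at this

theorem PFacts.proj_eq_one (F : PFacts) {p : P} (h : F.proj p = 1) : p ∈ Vsub := by
  obtain ⟨-, hv, hp⟩ := F.decomp p
  rw [hp, show mpart p = 1 from h, one_mul]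
  exact pv_mem _

theorem PFacts.card_Vsub (F : PFacts) : Nat.card Vsub = 2 ^ 11 := by
  have e : Fin 2048 ≃ Vsub := Equiv.ofBijective (fun v => ⟨pv v, pv_mem _⟩)
    ⟨fun a b h => Fin.ext (pv_inj a.2 b.2 (congrArg Subtype.val h)),
      fun ⟨p, hp⟩ => by
        obtain ⟨v, hv, rfl⟩ := F.mem_Vsub.1 hp
        exact ⟨⟨v, hv⟩, rfl⟩⟩
  rw [← Nat.card_congr e, Nat.card_fin]; norm_num

theorem PFacts.card_Msub (F : PFacts) : Nat.card Msub = 244823040 := by
  have e : Msub × Fin 2048 ≃ P := Equiv.ofBijective (fun mv => (mv.1 : P) * pv mv.2)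
    ⟨fun a b h => by
      have h1 := congrArg vpart h
      simp only [F.vpart_mul_pv a.1.2 a.2.2, F.vpart_mul_pv b.1.2 b.2.2] at h1
      have h2 := congrArg mpart h
      simp only [F.mpart_eq a.1.2 a.2.2, F.mpart_eq b.1.2 b.2.2] at h2
      exact Prod.ext (Subtype.ext h2) (Fin.ext h1),
      fun p => ⟨(⟨mpart p, (F.decomp p).1⟩, ⟨vpart p, (F.decomp p).2.1⟩), (F.decomp p).2.2.symm⟩⟩
  have h := Nat.card_congr e
  rw [Nat.card_prod, Nat.card_fin, F.card] at h
  norm_num at h
  omega

theorem split4096 : ((List.range 4096).all fun w => Nat.beq w 0 ||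
    (List.range 12).any fun i => Nat.blt (w ^^^ 2 ^ i) w) = true := by decide +kernel

theorem PFacts.act_eq_self (F : PFacts) {p : P} (h : ∀ i, i < 12 → act p (2 ^ i) = 2 ^ i) :
    ∀ r, r < 4096 → act p r = r := by
  intro r
  induction r using Nat.strong_induction_on with
  | _ r ih =>
    intro hr
    have hs := List.all_eq_true.1 split4096 r (List.mem_range.2 hr)
    rw [Bool.or_eq_true, List.any_eq_true] at hs
    rcases hs with hs | ⟨i, hi, hlt⟩
    · rw [Nat.eq_of_beq_eq_true hs, act_zero F]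
    · have hi' := List.mem_range.1 hi
      have hlt' := Nat.blt_eq.mp hlt
      have h2 : 2 ^ i < 4096 := by
        have := Nat.pow_lt_pow_right (show 1 < 2 by norm_num) hi'
        norm_num at this; exact this
      have he : r = (r ^^^ 2 ^ i) ^^^ 2 ^ i := by rw [Nat.xor_assoc, Nat.xor_self, Nat.xor_zero]
      conv_lhs => rw [he, F.act_xor p (hlt'.trans hr) h2, ih _ hlt' (hlt'.trans hr), h i hi']
      exact he.symm

/-- An element of the complement fixing all vectors is trivial. -/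
theorem PFacts.M_faithful (F : PFacts) {m : P} (hm : m ∈ Msub)
    (h : ∀ i, i < 11 → act m (2 ^ i) = 2 ^ i) : m = 1 := by
  have h' : ∀ i, i < 12 → act m (2 ^ i) = 2 ^ i := fun i hi => by
    rcases Nat.lt_or_ge i 11 with h1 | h1
    · exact h i h1
    · rw [show i = 11 by omega]; exact F.act_M hm
  have hall := F.act_eq_self h'
  have h1 : rho m⁻¹ = 1 := Equiv.ext fun r => Fin.ext (by
    have := hall r r.isLt
    rw [act, dif_pos r.isLt] at this
    exact this)
  have : m⁻¹ = 1 := F.inj (h1.trans (map_one rho).symm)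
  simpa using this

theorem PFacts.act_inj (F : PFacts) {m n : P} (hm : m ∈ Msub) (hn : n ∈ Msub)
    (h : ∀ i, i < 11 → act m (2 ^ i) = act n (2 ^ i)) : m = n := by
  refine mul_inv_eq_one.1 (F.M_faithful (mul_mem hm (inv_mem hn)) fun i hi => ?_)
  have h2 : 2 ^ i < 4096 := by
    have := Nat.pow_lt_pow_right (show 1 < 2 by norm_num) hi
    norm_num at this; omega
  rw [act_mul _ _ h2, h i hi, act_cancel n h2]

end Cfsg.Agent.Lib.J4Out38
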