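import Cfsg.Agent.Lib.J4Out38.Action

/-!
# The canonical code of an element
-/

set_option autoImplicit false
set_option maxRecDepth 20000

namespace Cfsg.Agent.Lib.J4Out38

open Cfsg.Agent.Lib.J4Dce59

theorem apN_zero_left : ∀ n B, apN n 0 B = 0
  | 0, _ => rfl
  | n + 1, B => by
    show (0 % 2 * (B % 4096)) ^^^ apN n (0 / 2) (B / 4096) = 0
    rw [Nat.zero_div, apN_zero_left n]
    simp

theorem apN_pow : ∀ n i B, i < n → apN n (2 ^ i) B = B / 4096 ^ i % 4096
  | 0, _, _, h => absurd h (Nat.not_lt_zero _)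
  | n + 1, 0, B, _ => by
    show ((2 ^ 0) % 2 * (B % 4096)) ^^^ apN n ((2 ^ 0) / 2) (B / 4096) = _
    rw [show (2 ^ 0) / 2 = 0 from rfl, apN_zero_left]
    simp
  | n + 1, i + 1, B, h => by
    show ((2 ^ (i + 1)) % 2 * (B % 4096)) ^^^ apN n ((2 ^ (i + 1)) / 2) (B / 4096) = _
    rw [show (2 ^ (i + 1)) % 2 = 0 by rw [pow_succ]; omega, Nat.zero_mul, Nat.zero_xor,
      show (2 ^ (i + 1)) / 2 = 2 ^ i by rw [pow_succ]; omega, apN_pow n i _ (by omega),
      Nat.div_div_eq_div_mul, ← pow_succ']

theorem rowsMul_congr : ∀ (n A B C : ℕ), (∀ i, i < n → A / 4096 ^ i % 4096 = B / 4096 ^ i % 4096) →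
    rowsMul n A C = rowsMul n B C
  | 0, _, _, _, _ => rfl
  | n + 1, A, B, C, h => by
    show ap (A % 4096) C + 4096 * rowsMul n (A / 4096) C =
      ap (B % 4096) C + 4096 * rowsMul n (B / 4096) C
    have h0 := h 0 (Nat.succ_pos n)
    simp only [pow_zero, Nat.div_one] at h0
    rw [h0, rowsMul_congr n (A / 4096) (B / 4096) C fun i hi => by
      have := h (i + 1) (by omega)
      rwa [pow_succ', ← Nat.div_div_eq_div_mul, ← Nat.div_div_eq_div_mul] at this]

theorem rowsMul_one : ∀ (n A B : ℕ), rowsMul n (rowsMul n A B) one = rowsMul n A B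
  | 0, _, _ => rfl
  | n + 1, A, B => by
    show ap ((ap (A % 4096) B + 4096 * rowsMul n (A / 4096) B) % 4096) one +
      4096 * rowsMul n ((ap (A % 4096) B + 4096 * rowsMul n (A / 4096) B) / 4096) one =
      ap (A % 4096) B + 4096 * rowsMul n (A / 4096) B
    have hlt := ap_lt (A % 4096) B
    rw [Nat.add_mul_mod_self_left, Nat.mod_eq_of_lt hlt, Nat.add_mul_div_left _ _ (by norm_num),
      Nat.div_eq_of_lt hlt, Nat.zero_add, ap_one hlt, rowsMul_one n]

theorem mm_canon (A B : ℕ) : mm (mm A B) one = mm A B := by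
  rw [mm_eq A B, mm_eq, rowsMul_one]

theorem mm_one_eq {p : P} {A B : ℕ} (hA : Code p A) (hB : Code p B) : mm A one = mm B one := by
  rw [mm_eq, mm_eq]
  refine rowsMul_congr 12 A B one fun i hi => ?_
  have h2 : 2 ^ i < 4096 := by
    have := Nat.pow_lt_pow_right (show 1 < 2 by norm_num) hi
    norm_num at this; exact this
  rw [← apN_pow 12 i A hi, ← apN_pow 12 i B hi]
  show ap (2 ^ i) A = ap (2 ^ i) B
  rw [← act_eq hA h2, ← act_eq hB h2]

/-- The canonical code of an element. -/
noncomputable def cd (p : P) : ℕ :=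
  open Classical in if h : ∃ A, Code p A then mm h.choose one else 0

theorem cd_eq {p : P} {A : ℕ} (hA : Code p A) : cd p = mm A one := by
  have he : ∃ A, Code p A := ⟨A, hA⟩
  rw [cd, dif_pos he]
  exact mm_one_eq he.choose_spec hA

theorem PFacts.code_cd (F : PFacts) (p : P) : Code p (cd p) := by
  obtain ⟨A, hA⟩ := F.exists_code p
  rw [cd_eq hA]
  have := hA.mul Code.one'
  rwa [mul_one] at this

theorem PFacts.cd_inj (F : PFacts) {p q : P} (h : cd p = cd q) : p = q :=
  F.eq_of_code (F.code_cd p) (h ▸ F.code_cd q)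

theorem PFacts.cd_mul (F : PFacts) (p q : P) : cd (p * q) = mm (cd p) (cd q) := by
  rw [cd_eq ((F.code_cd p).mul (F.code_cd q)), mm_canon]

theorem cd_one : cd (1 : P) = one := by
  rw [cd_eq Code.one']
  decide +kernel

theorem PFacts.act_cd (F : PFacts) (p : P) {r : ℕ} (hr : r < 4096) : act p r = ap r (cd p) :=
  act_eq (F.code_cd p) hr

/-- A word in the generators of the complement: `0` for `px`, any other letter for `py`. -/
def mword : List ℕ → P
  | [] => 1
  | a :: l => cond (Nat.beq a 0) px py * mword l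

/-- The code of a word in the generators of the complement. -/
def mcode : List ℕ → ℕ
  | [] => one
  | a :: l => mm (cond (Nat.beq a 0) MX MY) (mcode l)

theorem mword_mem : ∀ l, mword l ∈ Msub
  | [] => one_mem _
  | a :: l => by
    refine mul_mem ?_ (mword_mem l)
    cases Nat.beq a 0
    · exact Subgroup.subset_closure (by simp)
    · exact Subgroup.subset_closure (by simp)

theorem PFacts.cd_mword (F : PFacts) : ∀ l, cd (mword l) = mcode l
  | [] => cd_one
  | a :: l => by
    have hx : cd (px : P) = MX := by rw [cd_eq code_x]; decide +kernel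
    have hy : cd (py : P) = MY := by rw [cd_eq code_y]; decide +kernel
    rw [mword, F.cd_mul, F.cd_mword l, mcode]
    cases Nat.beq a 0 <;> simp [hx, hy]

end Cfsg.Agent.Lib.J4Out38
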