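import Cfsg.Agent.Lib.J4Out38.SylData
import Cfsg.Agent.Lib.J4Out38.Code

/-! Kernel checks of the Sylow data. -/

set_option autoImplicit false
set_option maxRecDepth 100000

namespace Cfsg.Agent.Lib.J4Out38

open Cfsg.Agent.Lib.J4Dce59

/-- The code of element `i`. -/
def elc (i : ℕ) : ℕ := sylEl.get i

/-- The index of element `i` times generator `j`. -/
def sucIdx (i j : ℕ) : ℕ := sylSucc.get i / 1024 ^ j % 1024

def genc (j : ℕ) : ℕ := sylGens.getD j one

def okWords : Bool :=
  Nat.beq (sylWords.length) 4 && Nat.beq (elc 0) one &&
    (List.range 4).all fun j => Nat.beq (mcode (sylWords.getD j [])) (genc j)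

def okClosed : Bool :=
  (List.range 1024).all fun i => (List.range 4).all fun j =>
    Nat.beq (mm (elc i) (genc j)) (elc (sucIdx i j))

def okReach : Bool :=
  (List.range 1024).all fun i => Nat.beq i 0 ||
    (Nat.blt (sylPar.get i / 4) i && Nat.beq (sucIdx (sylPar.get i / 4) (sylPar.get i % 4)) i)

def okOrd : Bool :=
  ((List.range 1024).all fun i => Nat.blt (sylRank.get i) 1024 &&
    Nat.beq (sylOrd.get (sylRank.get i)) i) &&
  (List.range 1023).all fun r => Nat.blt (elc (sylOrd.get r)) (elc (sylOrd.get (r + 1)))

def okInv : Bool :=
  (List.range 1024).all fun i =>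
    !(Nat.beq (mm (elc i) (elc i)) one) || Nat.beq i 0 || sylInv.any fun k => Nat.beq k i

/-- `c` is the code of an element of the list. -/
def inSet (A : List ℕ) (c : ℕ) : Bool := A.any fun a => Nat.beq (elc a) c

def okBig (A T : List ℕ) (i : ℕ) : Bool :=
  (inSet T (elc i) && A.all fun a => inSet T (elc a)) && T.all fun t =>
    inSet A (elc t) || A.any fun a => Nat.beq (mm (elc a) (elc i)) (elc t)

def okExt (A : List ℕ) : Bool :=
  sylInv.all fun i => inSet A (elc i) ||
    !(A.all fun a => Nat.beq (mm (elc i) (elc a)) (mm (elc a) (elc i))) ||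
    !((List.range 4).all fun j => A.any fun a =>
      Nat.beq (mm (elc i) (genc j)) (mm (genc j) (mm (elc a) (elc i)))) ||
    sylEA.any fun T => okBig A T i

def okStable (A : List ℕ) : Bool :=
  A.all fun a => Nat.blt a 1024 && (List.range 4).all fun j => A.any fun b =>
    Nat.beq (mm (elc a) (genc j)) (mm (genc j) (elc b))

def okGroup (A : List ℕ) : Bool :=
  inSet A one && A.all fun a => A.all fun b => inSet A (mm (elc a) (elc b))

def fixCount (A : List ℕ) : ℕ :=
  ((List.range 2048).filter fun v => A.all fun a => Nat.beq (ap v (elc a)) v).length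

def okFix (A : List ℕ) : Bool :=
  Nat.beq A.length 1 || Nat.blt (A.length * fixCount A) 2048

theorem words_ok : okWords = true := by decide +kernel
theorem closed_ok : okClosed = true := by decide +kernel
theorem reach_ok : okReach = true := by decide +kernel
theorem ord_ok : okOrd = true := by decide +kernel
theorem inv_ok : okInv = true := by decide +kernel
theorem ext_ok : sylEA.all okExt = true := by decide +kernel
theorem stable_ok : sylEA.all okStable = true := by decide +kernel
theorem group_ok : sylEA.all okGroup = true := by decide +kernel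
theorem fix_ok : sylEA.all okFix = true := by decide +kernel
theorem triv_mem : sylEA.contains [0] = true := by decide +kernel

end Cfsg.Agent.Lib.J4Out38
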