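import Mathlib
import Cfsg.Agent.Lib.J4Out38.SylCheck

/-!
# A Sylow two-subgroup of the model has one normal elementary abelian subgroup of order `2 ^ 11`
-/

set_option autoImplicit false
set_option maxRecDepth 100000

namespace Cfsg.Agent.Lib.J4Out38

open Cfsg.Agent.Lib.J4Dce59

/-- In a two-group, a normal subgroup larger than a normal subgroup has a fixed coset outside it. -/
theorem exists_fixed_coset {S : Type*} [Group S] [Finite S] (hS : IsPGroup 2 S) {A N : Subgroup S}
    [A.Normal] [N.Normal] (hAN : A ≤ N) (hne : A ≠ N) :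
    ∃ g ∈ N, g ∉ A ∧ ∀ s : S, ∃ a ∈ A, s⁻¹ * g * s = a * g := by
  let L : Subgroup (S ⧸ A) := N.map (QuotientGroup.mk' A)
  haveI : L.Normal := Subgroup.Normal.map inferInstance _ (QuotientGroup.mk'_surjective A)
  have hQ : IsPGroup 2 (S ⧸ A) := hS.to_quotient A
  letI : MulAction (S ⧸ A) L := MulAction.compHom L (MulAut.conjNormal (H := L))
  obtain ⟨n, hn, hnA⟩ : ∃ n ∈ N, n ∉ A := by
    by_contra h
    push Not at h
    exact hne (le_antisymm hAN h)
  have hL : (⟨QuotientGroup.mk' A n, n, hn, rfl⟩ : L) ≠ 1 := by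
    intro h
    exact hnA ((QuotientGroup.eq_one_iff n).1 (congrArg Subtype.val h))
  haveI : Nontrivial L := ⟨_, _, hL⟩
  obtain ⟨k, hk⟩ := IsPGroup.iff_card.1 (hQ.to_subgroup L)
  have hdvd : 2 ∣ Nat.card L := by
    rw [hk]
    refine dvd_pow_self 2 fun h => ?_
    rw [h, pow_zero] at hk
    have := Finite.one_lt_card (α := L)
    omega
  have h1 : (1 : L) ∈ MulAction.fixedPoints (S ⧸ A) L := fun q => by
    show MulAut.conjNormal q (1 : L) = 1
    exact map_one _
  obtain ⟨⟨b, g, hg, rfl⟩, hb, hb1⟩ :=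
    hQ.exists_fixed_point_of_prime_dvd_card_of_fixed_point L hdvd h1
  refine ⟨g, hg, fun h => hb1 (Subtype.ext ?_), fun s => ⟨s⁻¹ * g * s * g⁻¹, ?_, by group⟩⟩
  · show (1 : S ⧸ A) = QuotientGroup.mk' A g
    exact ((QuotientGroup.eq_one_iff g).2 h).symm
  · rw [← QuotientGroup.eq_one_iff (N := A)]
    have := congrArg Subtype.val (hb (QuotientGroup.mk' A s⁻¹))
    have e : QuotientGroup.mk' A s⁻¹ * QuotientGroup.mk' A g * (QuotientGroup.mk' A s⁻¹)⁻¹ =
        QuotientGroup.mk' A g := this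
    rw [map_inv, inv_inv] at e
    simp only [QuotientGroup.mk'_apply] at e
    simp only [QuotientGroup.mk_mul, QuotientGroup.mk_inv]
    rw [e, mul_inv_cancel]

/-- The generators of the chosen two-subgroup of the complement. -/
def sgen (j : ℕ) : P := mword (sylWords.getD j [])

/-- The chosen two-subgroup of the complement. -/
def Sbar : Subgroup P := Subgroup.closure {p | ∃ j, j < 4 ∧ p = sgen j}

theorem Sbar_le : Sbar ≤ Msub := by
  rw [Sbar, Subgroup.closure_le]
  rintro p ⟨j, -, rfl⟩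
  exact mword_mem _

theorem PFacts.cd_sgen (F : PFacts) {j : ℕ} (hj : j < 4) : cd (sgen j) = genc j := by
  have h := words_ok
  simp only [okWords, Bool.and_eq_true, List.all_eq_true] at h
  rw [sgen, F.cd_mword]
  exact Nat.eq_of_beq_eq_true (h.2 j (List.mem_range.2 hj))

theorem elc_zero : elc 0 = one := by
  have h := words_ok
  simp only [okWords, Bool.and_eq_true] at h
  exact Nat.eq_of_beq_eq_true h.1.2

theorem sucIdx_lt (i j : ℕ) : sucIdx i j < 1024 := Nat.mod_lt _ (by norm_num)

theorem closed_spec {i j : ℕ} (hi : i < 1024) (hj : j < 4) :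
    mm (elc i) (genc j) = elc (sucIdx i j) := by
  have h := closed_ok
  simp only [okClosed, List.all_eq_true] at h
  exact Nat.eq_of_beq_eq_true (h i (List.mem_range.2 hi) j (List.mem_range.2 hj))

theorem PFacts.exists_elem (F : PFacts) : ∀ i, i < 1024 → ∃ p ∈ Sbar, cd p = elc i := by
  intro i
  induction i using Nat.strong_induction_on with
  | _ i ih =>
    intro hi
    have h := reach_ok
    simp only [okReach, List.all_eq_true] at h
    have h2 := h i (List.mem_range.2 hi)
    rw [Bool.or_eq_true, Bool.and_eq_true] at h2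
    rcases h2 with h2 | ⟨h2, h3⟩
    · exact ⟨1, one_mem _, by rw [Nat.eq_of_beq_eq_true h2, elc_zero, cd_one]⟩
    · have hlt := Nat.blt_eq.mp h2
      obtain ⟨p, hp, hpc⟩ := ih _ hlt (hlt.trans hi)
      have hj : sylPar.get i % 4 < 4 := Nat.mod_lt _ (by norm_num)
      refine ⟨p * sgen (sylPar.get i % 4), mul_mem hp (Subgroup.subset_closure ⟨_, hj, rfl⟩), ?_⟩
      rw [F.cd_mul, hpc, F.cd_sgen hj, closed_spec (hlt.trans hi) hj, Nat.eq_of_beq_eq_true h3]

theorem PFacts.mem_Sbar (F : PFacts) {p : P} (hp : p ∈ Sbar) : ∃ i, i < 1024 ∧ cd p = elc i := by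
  have hfin := F.finite
  let T : Set P := {p | ∃ i, i < 1024 ∧ cd p = elc i}
  have h1 : (1 : P) ∈ T := ⟨0, by norm_num, by rw [cd_one, elc_zero]⟩
  have hmul : ∀ a ∈ T, ∀ j, j < 4 → a * sgen j ∈ T := by
    rintro a ⟨i, hi, ha⟩ j hj
    exact ⟨sucIdx i j, sucIdx_lt i j, by rw [F.cd_mul, ha, F.cd_sgen hj, closed_spec hi hj]⟩
  have hdiv : ∀ a ∈ T, ∀ j, j < 4 → a * (sgen j)⁻¹ ∈ T := by
    intro a ha j hj
    have hpow : ∀ n : ℕ, a * sgen j ^ n ∈ T := fun n => by
      induction n with
      | zero => rwa [pow_zero, mul_one]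
      | succ n ih => rw [pow_succ, ← mul_assoc]; exact hmul _ ih j hj
    have h : (sgen j)⁻¹ = sgen j ^ (orderOf (sgen j) - 1) :=
      inv_eq_of_mul_eq_one_right (by
        rw [← pow_succ', Nat.sub_add_cancel (orderOf_pos _), pow_orderOf_eq_one])
    rw [h]; exact hpow _
  show p ∈ T
  induction hp using Subgroup.closure_induction_right with
  | one => exact h1
  | mul_right a _ y hy ih => obtain ⟨j, hj, rfl⟩ := hy; exact hmul a ih j hj
  | mul_inv_cancel a _ y hy ih => obtain ⟨j, hj, rfl⟩ := hy; exact hdiv a ih j hj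

theorem elc_inj {i k : ℕ} (hi : i < 1024) (hk : k < 1024) (h : elc i = elc k) : i = k := by
  have ho := ord_ok
  simp only [okOrd, Bool.and_eq_true, List.all_eq_true, Nat.blt_eq] at ho
  obtain ⟨hr, hs⟩ := ho
  have hmono : ∀ r r', r < r' → r' < 1024 → elc (sylOrd.get r) < elc (sylOrd.get r') := by
    intro r r' h1 h2
    induction r' with
    | zero => omega
    | succ n ih =>
      have hn := hs n (List.mem_range.2 (by omega))
      rcases Nat.lt_or_ge r n with h3 | h3
      · exact (ih h3 (by omega)).trans hn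
      · rwa [show r = n by omega]
  obtain ⟨hi1, hi2⟩ := hr i (List.mem_range.2 hi)
  obtain ⟨hk1, hk2⟩ := hr k (List.mem_range.2 hk)
  rw [← Nat.eq_of_beq_eq_true hi2, ← Nat.eq_of_beq_eq_true hk2] at h ⊢
  rcases lt_trichotomy (sylRank.get i) (sylRank.get k) with h3 | h3 | h3
  · exact absurd h (hmono _ _ h3 hk1).ne
  · rw [h3]
  · exact absurd h.symm (hmono _ _ h3 hi1).ne

/-- The element with a given index. -/
noncomputable def PFacts.elem (F : PFacts) (i : ℕ) : P :=
  if h : i < 1024 then (F.exists_elem i h).choose else 1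

theorem PFacts.elem_spec (F : PFacts) {i : ℕ} (hi : i < 1024) :
    F.elem i ∈ Sbar ∧ cd (F.elem i) = elc i := by
  rw [PFacts.elem, dif_pos hi]
  exact (F.exists_elem i hi).choose_spec

theorem PFacts.card_Sbar (F : PFacts) : Nat.card Sbar = 1024 := by
  have e : Fin 1024 ≃ Sbar := Equiv.ofBijective (fun i => ⟨F.elem i, (F.elem_spec i.2).1⟩)
    ⟨fun a b h => Fin.ext (elc_inj a.2 b.2 (by
      rw [← (F.elem_spec a.2).2, ← (F.elem_spec b.2).2, show F.elem a = F.elem b from
        congrArg Subtype.val h])),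
      fun ⟨p, hp⟩ => by
        obtain ⟨i, hi, hc⟩ := F.mem_Sbar hp
        exact ⟨⟨i, hi⟩, Subtype.ext (F.cd_inj ((F.elem_spec hi).2.trans hc.symm))⟩⟩
  rw [← Nat.card_congr e, Nat.card_fin]

/-- The set of elements with codes in the list. -/
def inList (A : List ℕ) : Set P := {p | p ∈ Sbar ∧ inSet A (cd p) = true}

theorem inSet_iff {A : List ℕ} {c : ℕ} : inSet A c = true ↔ ∃ a ∈ A, elc a = c := by
  simp only [inSet, List.any_eq_true]
  exact ⟨fun ⟨a, ha, h⟩ => ⟨a, ha, Nat.eq_of_beq_eq_true h⟩, fun ⟨a, ha, h⟩ => ⟨a, ha, h ▸ Nat.beq_refl _⟩⟩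

theorem lt_of_mem {A : List ℕ} (hA : A ∈ sylEA) {a : ℕ} (ha : a ∈ A) : a < 1024 := by
  have h := List.all_eq_true.1 stable_ok A hA
  simp only [okStable, List.all_eq_true, Bool.and_eq_true, Nat.blt_eq] at h
  exact (h a ha).1

theorem group_spec {A : List ℕ} (hA : A ∈ sylEA) :
    inSet A one = true ∧ ∀ a ∈ A, ∀ b ∈ A, inSet A (mm (elc a) (elc b)) = true := by
  have h := List.all_eq_true.1 group_ok A hA
  simp only [okGroup, Bool.and_eq_true, List.all_eq_true] at h
  exact h

/-- A listed subgroup, inside the two-group. -/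
noncomputable def PFacts.eaSub (F : PFacts) {A : List ℕ} (hA : A ∈ sylEA) : Subgroup Sbar where
  carrier := {s | inSet A (cd (s : P)) = true}
  one_mem' := by
    show inSet A (cd (1 : P)) = true
    rw [cd_one]; exact (group_spec hA).1
  mul_mem' := by
    intro s t hs ht
    obtain ⟨a, ha, hac⟩ := inSet_iff.1 hs
    obtain ⟨b, hb, hbc⟩ := inSet_iff.1 ht
    show inSet A (cd ((s : P) * t)) = true
    rw [F.cd_mul, ← hac, ← hbc]
    exact (group_spec hA).2 a ha b hb
  inv_mem' := by
    intro s hs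
    haveI := F.finite
    have hpow : ∀ n : ℕ, inSet A (cd ((s : P) ^ n)) = true := fun n => by
      induction n with
      | zero => rw [pow_zero, cd_one]; exact (group_spec hA).1
      | succ n ih =>
        obtain ⟨a, ha, hac⟩ := inSet_iff.1 hs
        obtain ⟨b, hb, hbc⟩ := inSet_iff.1 ih
        rw [pow_succ, F.cd_mul, ← hbc, ← hac]
        exact (group_spec hA).2 b hb a ha
    show inSet A (cd ((s : P)⁻¹)) = true
    rw [show (s : P)⁻¹ = (s : P) ^ (orderOf (s : P) - 1) from inv_eq_of_mul_eq_one_right (by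
      rw [← pow_succ', Nat.sub_add_cancel (orderOf_pos _), pow_orderOf_eq_one])]
    exact hpow _

theorem PFacts.mem_eaSub (F : PFacts) {A : List ℕ} (hA : A ∈ sylEA) {s : Sbar} :
    s ∈ F.eaSub hA ↔ inSet A (cd (s : P)) = true := Iff.rfl

theorem PFacts.eaSub_normal (F : PFacts) {A : List ℕ} (hA : A ∈ sylEA) : (F.eaSub hA).Normal := by
  haveI := F.finite
  rw [← Subgroup.normalizer_eq_top_iff, eq_top_iff]
  rintro ⟨x, hx⟩ -
  have key : x ∈ {y : P | y ∈ Sbar ∧ ∀ a ∈ A, ∃ b ∈ A,
      mm (elc a) (cd y) = mm (cd y) (elc b)} := by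
    induction hx using Subgroup.closure_induction_right with
    | one =>
      refine ⟨one_mem _, fun a ha => ⟨a, ha, ?_⟩⟩
      have hc := (F.elem_spec (lt_of_mem hA ha)).2
      rw [← hc, ← F.cd_mul, ← F.cd_mul, mul_one, one_mul]
    | mul_right y hy g hg ih =>
      obtain ⟨j, hj, rfl⟩ := hg
      refine ⟨mul_mem ih.1 (Subgroup.subset_closure ⟨j, hj, rfl⟩), fun a ha => ?_⟩
      obtain ⟨b, hb, hbe⟩ := ih.2 a ha
      have h := List.all_eq_true.1 stable_ok A hA
      simp only [okStable, List.all_eq_true, Bool.and_eq_true, List.any_eq_true] at h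
      obtain ⟨c, hc, hce⟩ := (h b hb).2 j (List.mem_range.2 hj)
      refine ⟨c, hc, ?_⟩
      have hca := (F.elem_spec (lt_of_mem hA ha)).2
      have hcb := (F.elem_spec (lt_of_mem hA hb)).2
      have hcc := (F.elem_spec (lt_of_mem hA hc)).2
      have e1 : F.elem a * y = y * F.elem b := F.cd_inj (by rw [F.cd_mul, F.cd_mul, hca, hcb, hbe])
      have e2 : F.elem b * sgen j = sgen j * F.elem c := F.cd_inj (by
        rw [F.cd_mul, F.cd_mul, hcb, hcc, F.cd_sgen hj]; exact Nat.eq_of_beq_eq_true hce)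
      rw [← hca, ← hcc, ← F.cd_mul, ← F.cd_mul, ← mul_assoc, e1, mul_assoc, e2, ← mul_assoc]
    | mul_inv_cancel y hy g hg ih =>
      obtain ⟨j, hj, rfl⟩ := hg
      refine ⟨mul_mem ih.1 (inv_mem (Subgroup.subset_closure ⟨j, hj, rfl⟩)), ?_⟩
      have hpow : ∀ n : ℕ, ∀ a ∈ A, ∃ b ∈ A,
          mm (elc a) (cd (y * sgen j ^ n)) = mm (cd (y * sgen j ^ n)) (elc b) := fun n => by
        induction n with
        | zero => rw [pow_zero, mul_one]; exact ih.2
        | succ n ih2 =>
          intro a ha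
          obtain ⟨b, hb, hbe⟩ := ih2 a ha
          have h := List.all_eq_true.1 stable_ok A hA
          simp only [okStable, List.all_eq_true, Bool.and_eq_true, List.any_eq_true] at h
          obtain ⟨c, hc, hce⟩ := (h b hb).2 j (List.mem_range.2 hj)
          refine ⟨c, hc, ?_⟩
          have hca := (F.elem_spec (lt_of_mem hA ha)).2
          have hcb := (F.elem_spec (lt_of_mem hA hb)).2
          have hcc := (F.elem_spec (lt_of_mem hA hc)).2
          have e1 : F.elem a * (y * sgen j ^ n) = y * sgen j ^ n * F.elem b :=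
            F.cd_inj (by rw [F.cd_mul, F.cd_mul _ (F.elem b), hca, hcb, hbe])
          have e2 : F.elem b * sgen j = sgen j * F.elem c := F.cd_inj (by
            rw [F.cd_mul, F.cd_mul, hcb, hcc, F.cd_sgen hj]; exact Nat.eq_of_beq_eq_true hce)
          rw [← hca, ← hcc, ← F.cd_mul, ← F.cd_mul _ (F.elem c), pow_succ, ← mul_assoc y,
            ← mul_assoc (F.elem a), e1, mul_assoc, e2, ← mul_assoc]
      intro a ha
      have h := hpow (orderOf (sgen j) - 1) a ha
      rwa [show sgen j ^ (orderOf (sgen j) - 1) = (sgen j)⁻¹ from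
        (inv_eq_of_mul_eq_one_right (by
          rw [← pow_succ', Nat.sub_add_cancel (orderOf_pos _), pow_orderOf_eq_one])).symm] at h
  have hconj : ∀ n ∈ F.eaSub hA, (⟨x, hx⟩ : Sbar)⁻¹ * n * ⟨x, hx⟩ ∈ F.eaSub hA := by
    intro n hn
    obtain ⟨a, ha, hac⟩ := inSet_iff.1 ((F.mem_eaSub hA).1 hn)
    obtain ⟨b, hb, hbe⟩ := key.2 a ha
    have hca := (F.elem_spec (lt_of_mem hA ha)).2
    have hcb := (F.elem_spec (lt_of_mem hA hb)).2
    have e0 : (n : P) = F.elem a := F.cd_inj (by rw [hca, hac])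
    have e1 : F.elem a * x = x * F.elem b := F.cd_inj (by rw [F.cd_mul, F.cd_mul, hca, hcb, hbe])
    rw [F.mem_eaSub hA, Subgroup.coe_mul, Subgroup.coe_mul, Subgroup.coe_inv]
    simp only [e0, mul_assoc, e1, inv_mul_cancel_left]
    exact inSet_iff.2 ⟨b, hb, hcb.symm⟩
  rw [← inv_inv (⟨x, hx⟩ : Sbar)]
  refine inv_mem (Subgroup.mem_normalizer_fintype fun n hn => ?_)
  rw [inv_inv]
  exact hconj n hn

/-- A normal elementary abelian subgroup of the two-group is in the list. -/
theorem PFacts.exists_list (F : PFacts) (N : Subgroup Sbar) [N.Normal]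
    (hcomm : ∀ a ∈ N, ∀ b ∈ N, a * b = b * a) (hsq : ∀ a ∈ N, a * a = 1) :
    ∃ A, ∃ hA : A ∈ sylEA, F.eaSub hA = N := by
  classical
  haveI := F.finite
  have hS : IsPGroup 2 Sbar := IsPGroup.of_card (n := 10) (by rw [F.card_Sbar]; norm_num)
  have h0 : ([0] : List ℕ) ∈ sylEA := by
    have := triv_mem
    simpa using this
  have step : ∀ k, ∀ A (hA : A ∈ sylEA), F.eaSub hA ≤ N →
      Nat.card N ≤ Nat.card (F.eaSub hA) + k → ∃ B, ∃ hB : B ∈ sylEA, F.eaSub hB = N := by
    intro k
    induction k with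
    | zero =>
      intro A hA hle hk
      exact ⟨A, hA, Subgroup.eq_of_le_of_card_ge hle (by omega)⟩
    | succ k ih =>
      intro A hA hle hk
      by_cases he : F.eaSub hA = N
      · exact ⟨A, hA, he⟩
      haveI := F.eaSub_normal hA
      obtain ⟨g, hg, hgA, hfix⟩ := exists_fixed_coset hS hle he
      obtain ⟨i, hi, hic⟩ := F.mem_Sbar g.2
      have hge : (g : P) = F.elem i := F.cd_inj (hic.trans (F.elem_spec hi).2.symm)
      -- `i` is a listed involution
      have hsqg : (g : P) * g = 1 := by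
        have := congrArg Subtype.val (hsq g hg)
        exact this
      have hinv := inv_ok
      simp only [okInv, List.all_eq_true] at hinv
      have hi2 := hinv i (List.mem_range.2 hi)
      have hi3 : mm (elc i) (elc i) = one := by rw [← hic, ← F.cd_mul, hsqg, cd_one]
      have hi0 : i ≠ 0 := by
        rintro rfl
        apply hgA
        rw [F.mem_eaSub hA, hic, elc_zero]
        exact (group_spec hA).1
      rw [hi3, Nat.beq_refl, Bool.not_true, Bool.false_or, Bool.or_eq_true] at hi2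
      rcases hi2 with hi2 | hi2
      · exact absurd (Nat.eq_of_beq_eq_true hi2) hi0
      obtain ⟨i', hi', hii⟩ := List.any_eq_true.1 hi2
      rw [Nat.eq_of_beq_eq_true hii] at hi'
      have hext := List.all_eq_true.1 ext_ok A hA
      simp only [okExt, List.all_eq_true] at hext
      have hx := hext i hi'
      simp only [Bool.or_eq_true, Bool.not_eq_true'] at hx
      rcases hx with ((hx | hx) | hx) | hx
      · exact absurd ((F.mem_eaSub hA).2 (by rw [hic]; exact hx)) hgA
      · rw [List.all_eq_false] at hx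
        obtain ⟨a, ha, hax⟩ := hx
        have hmemA : (⟨F.elem a, (F.elem_spec (lt_of_mem hA ha)).1⟩ : Sbar) ∈ F.eaSub hA := by
          rw [F.mem_eaSub hA]
          exact inSet_iff.2 ⟨a, ha, (F.elem_spec (lt_of_mem hA ha)).2.symm⟩
        refine absurd ?_ hax
        have := congrArg (fun z : Sbar => cd (z : P)) (hcomm g hg _ (hle hmemA))
        simp only [Subgroup.coe_mul, F.cd_mul, hic, (F.elem_spec (lt_of_mem hA ha)).2] at this
        rw [this]; exact Nat.beq_refl _
      · rw [List.all_eq_false] at hx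
        obtain ⟨j, hj, hjx⟩ := hx
        have hj' := List.mem_range.1 hj
        obtain ⟨a, ha, hae⟩ := hfix ⟨sgen j, Subgroup.subset_closure ⟨j, hj', rfl⟩⟩
        obtain ⟨a', ha', hac⟩ := inSet_iff.1 ((F.mem_eaSub hA).1 ha)
        refine absurd (List.any_eq_true.2 ⟨a', ha', ?_⟩) hjx
        have e := congrArg Subtype.val hae
        simp only [Subgroup.coe_mul, Subgroup.coe_inv] at e
        have e2 : (g : P) * sgen j = sgen j * ((a : P) * g) := by rw [← e]; group
        have := congrArg cd e2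
        rw [F.cd_mul, F.cd_mul, F.cd_mul, hic, F.cd_sgen hj', ← hac] at this
        rw [this]; exact Nat.beq_refl _
      · obtain ⟨T, hT, hTi⟩ := List.any_eq_true.1 hx
        simp only [okBig, Bool.and_eq_true, List.all_eq_true] at hTi
        obtain ⟨⟨hiT, hAT⟩, hTi⟩ := hTi
        have hsub : F.eaSub hT ≤ N := by
          intro t ht
          obtain ⟨t', ht', htc⟩ := inSet_iff.1 ((F.mem_eaSub hT).1 ht)
          have h := hTi t' ht'
          rw [Bool.or_eq_true, List.any_eq_true] at h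
          rcases h with h | ⟨a, ha, hae⟩
          · exact hle ((F.mem_eaSub hA).2 (by rw [← htc]; exact h))
          · have hca := F.elem_spec (lt_of_mem hA ha)
            have hmemA : (⟨F.elem a, hca.1⟩ : Sbar) ∈ F.eaSub hA := by
              rw [F.mem_eaSub hA]; exact inSet_iff.2 ⟨a, ha, hca.2.symm⟩
            have : t = ⟨F.elem a, hca.1⟩ * g := Subtype.ext (F.cd_inj (by
              rw [Subgroup.coe_mul, F.cd_mul, hca.2, hic, Nat.eq_of_beq_eq_true hae, htc]))
            rw [this]; exact mul_mem (hle hmemA) hg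
        have hAle : F.eaSub hA ≤ F.eaSub hT := fun t ht => by
          obtain ⟨a, ha, hac⟩ := inSet_iff.1 ((F.mem_eaSub hA).1 ht)
          rw [F.mem_eaSub hT, ← hac]
          exact hAT a ha
        have hgT : g ∈ F.eaSub hT := by rw [F.mem_eaSub hT, hic]; exact hiT
        have hlt : Nat.card (F.eaSub hA) < Nat.card (F.eaSub hT) := by
          by_contra h
          exact hgA (Subgroup.eq_of_le_of_card_ge hAle (Nat.le_of_not_lt h) ▸ hgT)
        exact ih T hT hsub (by omega)
  exact step (Nat.card N) [0] h0 (fun s hs => by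
    obtain ⟨a, ha, hac⟩ := inSet_iff.1 ((F.mem_eaSub h0).1 hs)
    rw [List.mem_singleton] at ha
    subst ha
    have : s = 1 := Subtype.ext (F.cd_inj (by rw [← hac, elc_zero, Subgroup.coe_one, cd_one]))
    rw [this]; exact one_mem N) (Nat.le_add_left _ _)

/-- The chosen two-subgroup of the model. -/
noncomputable def PFacts.Syl (F : PFacts) : Subgroup P := Sbar.comap F.proj

theorem PFacts.card_Syl (F : PFacts) : Nat.card F.Syl = 2 ^ 21 := by
  have e : Sbar × Fin 2048 ≃ F.Syl := Equiv.ofBijective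
    (fun sv => ⟨(sv.1 : P) * pv sv.2, by
      show F.proj ((sv.1 : P) * pv sv.2) ∈ Sbar
      rw [map_mul, F.proj_M (Sbar_le sv.1.2), F.proj_V sv.2.2, mul_one]; exact sv.1.2⟩)
    ⟨fun a b h => by
      have h' := congrArg Subtype.val h
      have h1 := congrArg vpart h'
      simp only [F.vpart_mul_pv (Sbar_le a.1.2) a.2.2, F.vpart_mul_pv (Sbar_le b.1.2) b.2.2] at h1
      have h2 := congrArg mpart h'
      simp only [F.mpart_eq (Sbar_le a.1.2) a.2.2, F.mpart_eq (Sbar_le b.1.2) b.2.2] at h2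
      exact Prod.ext (Subtype.ext h2) (Fin.ext h1),
    fun ⟨p, hp⟩ => ⟨(⟨mpart p, hp⟩, ⟨vpart p, (F.decomp p).2.1⟩),
      Subtype.ext (F.decomp p).2.2.symm⟩⟩
  rw [← Nat.card_congr e, Nat.card_prod, F.card_Sbar, Nat.card_fin]
  norm_num

theorem PFacts.Vsub_le_Syl (F : PFacts) : Vsub ≤ F.Syl := fun p hp => by
  obtain ⟨v, hv, rfl⟩ := F.mem_Vsub.1 hp
  show F.proj (pv v) ∈ Sbar
  rw [F.proj_V hv]; exact one_mem _

/-- The translations are the only normal elementary abelian subgroup of order `2 ^ 11`. -/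
theorem PFacts.eq_Vsub (F : PFacts) {A : Subgroup P} (hA : A ≤ F.Syl)
    (hnorm : ∀ s ∈ F.Syl, ∀ a ∈ A, s * a * s⁻¹ ∈ A) (hcomm : ∀ a ∈ A, ∀ b ∈ A, a * b = b * a)
    (hsq : ∀ a ∈ A, a * a = 1) (hcard : Nat.card A = 2 ^ 11) : A = Vsub := by
  classical
  haveI := F.finite
  let N : Subgroup Sbar := (A.map F.proj).subgroupOf Sbar
  haveI : N.Normal := ⟨fun n hn s => by
    obtain ⟨a, ha, han⟩ := hn
    refine ⟨(s : P) * a * (s : P)⁻¹, hnorm s ?_ a ha, ?_⟩
    · show F.proj s ∈ Sbar
      rw [F.proj_M (Sbar_le s.2)]; exact s.2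
    · rw [map_mul, map_mul, map_inv, F.proj_M (Sbar_le s.2), han]; rfl⟩
  have hNc : ∀ a ∈ N, ∀ b ∈ N, a * b = b * a := by
    rintro a ⟨x, hx, hxa⟩ b ⟨y, hy, hyb⟩
    refine Subtype.ext ?_
    rw [Subgroup.coe_mul, Subgroup.coe_mul]
    show Sbar.subtype a * Sbar.subtype b = Sbar.subtype b * Sbar.subtype a
    rw [← hxa, ← hyb, ← map_mul, hcomm x hx y hy, map_mul]
  have hNs : ∀ a ∈ N, a * a = 1 := by
    rintro a ⟨x, hx, hxa⟩
    refine Subtype.ext ?_
    show Sbar.subtype a * Sbar.subtype a = 1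
    rw [← hxa, ← map_mul, hsq x hx, map_one]
  obtain ⟨L, hL, hLN⟩ := F.exists_list N hNc hNs
  have hmemL : ∀ a ∈ A, ∃ l ∈ L, cd (F.proj a) = elc l := fun a ha => by
    have hpa : (⟨F.proj a, hA ha⟩ : Sbar) ∈ F.eaSub hL := hLN ▸ (⟨a, ha, rfl⟩ : _ ∈ N)
    obtain ⟨l, hl, hlc⟩ := inSet_iff.1 ((F.mem_eaSub hL).1 hpa)
    exact ⟨l, hl, hlc.symm⟩
  have hfix := List.all_eq_true.1 fix_ok L hL
  simp only [okFix, Bool.or_eq_true] at hfix
  rcases hfix with hfix | hfix
  · obtain ⟨l0, rfl⟩ := List.length_eq_one_iff.1 (Nat.eq_of_beq_eq_true hfix)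
    have h1 := (group_spec hL).1
    obtain ⟨x, hx, hxc⟩ := inSet_iff.1 h1
    rw [List.mem_singleton] at hx
    subst hx
    have hle : A ≤ Vsub := fun a ha => F.proj_eq_one <| by
      obtain ⟨l, hl, hlc⟩ := hmemL a ha
      rw [List.mem_singleton] at hl
      subst hl
      exact F.cd_inj (by rw [hlc, hxc, cd_one])
    exact Subgroup.eq_of_le_of_card_ge hle (by rw [F.card_Vsub, hcard])
  · exfalso
    have hlt := Nat.blt_eq.mp hfix
    let fixL : Finset ℕ := ((List.range 2048).filter fun v =>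
      L.all fun a => Nat.beq (ap v (elc a)) v).toFinset
    have hker : ∀ a ∈ A, F.proj a = 1 → vpart a ∈ fixL := by
      intro a ha h1
      obtain ⟨-, hv, he⟩ := F.decomp a
      rw [show mpart a = 1 from h1, one_mul] at he
      simp only [fixL, List.mem_toFinset, List.mem_filter, List.mem_range, List.all_eq_true]
      refine ⟨hv, fun l hl => ?_⟩
      have hl' := F.elem_spec (lt_of_mem hL hl)
      have hlN : (⟨F.elem l, hl'.1⟩ : Sbar) ∈ N := hLN ▸ ((F.mem_eaSub hL).2
        (inSet_iff.2 ⟨l, hl, hl'.2.symm⟩))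
      obtain ⟨b, hb, hbl⟩ := hlN
      obtain ⟨-, hw, heb⟩ := F.decomp b
      have hbl' : mpart b = F.elem l := hbl
      have hc := hcomm a ha b hb
      rw [he, heb, hbl'] at hc
      have hact := F.act_lt' (F.elem l) hv
      rw [← mul_assoc, F.pv_mul_right (F.elem l) hv, mul_assoc, mul_assoc, F.pv_mul hw hact,
        F.pv_mul hv hw] at hc
      have hcc := pv_inj (bits_lt hact _ hw) (bits_lt hw _ hv) (mul_left_cancel hc)
      rw [Nat.xor_comm (vpart b) (vpart a)] at hcc
      have h2 := congrArg (· ^^^ vpart b) hcc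
      simp only [Nat.xor_assoc, Nat.xor_self, Nat.xor_zero] at h2
      rw [F.act_cd _ (by omega), hl'.2] at h2
      rw [h2]; exact Nat.beq_refl _
    have hb1 : ∀ a ∈ A, ∃ l ∈ L.toFinset, cd (F.proj a) = elc l := fun a ha => by
      obtain ⟨l, hl, h⟩ := hmemL a ha
      exact ⟨l, List.mem_toFinset.2 hl, h⟩
    let Af : Finset P := (Set.toFinite (A : Set P)).toFinset
    have hAf : Af.card = 2 ^ 11 := by
      rw [← hcard, ← Set.ncard_eq_toFinset_card _ (Set.toFinite (A : Set P))]
      exact (Nat.card_coe_set_eq _).symm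
    have hbound : Af.card ≤ fixL.card * (Af.image fun a => F.proj a).card := by
      refine Finset.card_le_mul_card_image _ _ fun q hq => ?_
      obtain ⟨a0, ha0, rfl⟩ := Finset.mem_image.1 hq
      have ha0' : a0 ∈ A := by simpa [Af] using ha0
      refine Finset.card_le_card_of_injOn (fun a => vpart (a * a0⁻¹)) (fun a ha => ?_) ?_
      · rw [Finset.mem_coe, Finset.mem_filter] at ha
        have ha' : a ∈ A := by simpa [Af] using ha.1
        exact hker _ (mul_mem ha' (inv_mem ha0')) (by rw [map_mul, map_inv, ha.2, mul_inv_cancel])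
      · intro a ha b hb hab
        rw [Finset.mem_coe, Finset.mem_filter] at ha hb
        have e1 : mpart (a * a0⁻¹) = 1 := by
          show F.proj (a * a0⁻¹) = 1
          rw [map_mul, map_inv, ha.2, mul_inv_cancel]
        have e2 : mpart (b * a0⁻¹) = 1 := by
          show F.proj (b * a0⁻¹) = 1
          rw [map_mul, map_inv, hb.2, mul_inv_cancel]
        simp only at hab
        refine mul_right_cancel (b := a0⁻¹) ?_
        rw [(F.decomp (a * a0⁻¹)).2.2, (F.decomp (b * a0⁻¹)).2.2, e1, e2, hab]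
    have himg : (Af.image fun a => F.proj a).card ≤ L.length := by
      refine le_trans (Finset.card_le_card_of_injOn (t := L.toFinset.image elc) cd ?_ ?_)
        (le_trans Finset.card_image_le (List.toFinset_card_le L))
      · intro q hq
        obtain ⟨a, ha, rfl⟩ := Finset.mem_image.1 hq
        obtain ⟨l, hl, h⟩ := hb1 a (by simpa [Af] using ha)
        exact Finset.mem_image.2 ⟨l, hl, h.symm⟩
      · exact fun p _ q _ h => F.cd_inj h
    have hfl : fixL.card ≤ fixCount L := List.toFinset_card_le _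
    have := Nat.mul_le_mul hfl himg
    rw [Nat.mul_comm (fixCount L)] at this
    omega

end Cfsg.Agent.Lib.J4Out38
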