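import Cfsg.Agent.Lib.J4Out38.Setting
import Cfsg.Agent.Lib.J4Out38.Sylow

/-!
# Every automorphism of the presented group is inner
-/

set_option autoImplicit false
set_option maxRecDepth 100000

namespace Cfsg.Agent.Lib.J4Out38

open Cfsg.Agent.Lib.J4Dce59
open Cfsg.Agent.Lib.J4Dce59.Data

universe u

variable {G : Type u} [Group G] {V : Env G} (J : JFacts V)

/-- The image of the translations. -/
def vImg (V : Env G) : Subgroup G := Vsub.map V.φ

include J

theorem JFacts.card_vImg : Nat.card (vImg V) = 2 ^ 11 := by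
  rw [vImg, Subgroup.card_map_of_injective J.inj, J.pf.card_Vsub]

/-- The normaliser of the image of the translations is the image of the model. -/
theorem JFacts.normalizer_vImg : Subgroup.normalizer (vImg V : Set G) = V.H := by
  classical
  have := J.fin
  have hP := J.pf.finite
  set N := Subgroup.normalizer (vImg V : Set G)
  have hHN : V.H ≤ N := by
    rintro _ ⟨p, rfl⟩
    refine Subgroup.mem_normalizer_fintype fun n hn => ?_
    obtain ⟨v, hv, rfl⟩ := hn
    exact ⟨p * v * p⁻¹, J.pf.Vsub_normal.conj_mem v hv p, by rw [map_mul, map_mul, map_inv]⟩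
  -- the cosets inside the normaliser
  let T : Set V.Pts := {x | ∃ n ∈ N, x = ((n : G) : V.Pts)}
  let K : Finset ℕ := (Finset.range 7).filter fun j => V.pt D j ∈ T
  have hTinv : ∀ j, ∀ x ∈ V.orb D j, x ∈ T ↔ V.pt D j ∈ T := by
    rintro j _ ⟨h, hh, rfl⟩
    constructor
    · rintro ⟨n, hn, e⟩
      refine ⟨h⁻¹ * n, mul_mem (inv_mem (hHN hh)) hn, ?_⟩
      have := congrArg (fun z => h⁻¹ • z) e
      simpa [inv_smul_smul] using this
    · rintro ⟨n, hn, e⟩
      exact ⟨h * n, mul_mem (hHN hh) hn, by rw [e]; rfl⟩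
  have hT : T = ⋃ j ∈ K, V.orb D j := by
    refine Set.ext fun x => ⟨fun hx => ?_, fun hx => ?_⟩
    · obtain ⟨j, hj, hxj⟩ := J.orbits.2.2 x
      exact Set.mem_iUnion₂.2 ⟨j, Finset.mem_filter.2
        ⟨Finset.mem_range.2 hj, (hTinv j x hxj).1 hx⟩, hxj⟩
    · obtain ⟨j, hj, hxj⟩ := Set.mem_iUnion₂.1 hx
      exact (hTinv j x hxj).2 (Finset.mem_filter.1 hj).2
  have hTc : T.ncard = ∑ j ∈ K, sizes j := by
    rw [hT, ← Finset.set_biUnion_coe, Set.Finite.ncard_biUnion (Finset.finite_toSet K) (fun j _ => Set.toFinite _),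
      finsum_mem_coe_finset]
    · exact Finset.sum_congr rfl fun j hj =>
        (J.orbits.1 j (Finset.mem_range.1 (Finset.mem_filter.1 hj).1)).2
    · intro i hi j hj hij
      rw [Function.onFun, Set.disjoint_left]
      intro x hxi hxj
      exact hij (J.orbits.2.1 i (Finset.mem_range.1 (Finset.mem_filter.1 hi).1) j
        (Finset.mem_range.1 (Finset.mem_filter.1 hj).1) x hxi hxj)
  have hTN : T.ncard = V.H.relIndex N := by
    rw [Subgroup.relIndex, Subgroup.index, ← Nat.card_coe_set_eq]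
    refine (Nat.card_congr (Equiv.ofBijective
      (Quotient.lift (fun n : N => (⟨((n : G) : V.Pts), n, n.2, rfl⟩ : T)) fun a b hab => ?_) ⟨?_, ?_⟩)).symm
    · refine Subtype.ext ?_
      show ((a : G) : V.Pts) = ((b : G) : V.Pts)
      exact QuotientGroup.eq.2 ((QuotientGroup.leftRel_apply (s := V.H.subgroupOf N)).1 hab)
    · intro x y
      induction x using Quotient.inductionOn with
      | _ a => induction y using Quotient.inductionOn with
        | _ b =>
          intro h
          exact Quotient.sound ((QuotientGroup.leftRel_apply (s := V.H.subgroupOf N)).2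
            (Subgroup.mem_subgroupOf.2 (QuotientGroup.eq.1
            (show ((a : G) : V.Pts) = ((b : G) : V.Pts) from congrArg Subtype.val h))))
    · rintro ⟨_, n, hn, rfl⟩
      exact ⟨Quotient.mk'' ⟨n, hn⟩, rfl⟩
  have hdiv : ∑ j ∈ K, sizes j ∣ 173067389 := by
    rw [← hTc, hTN, ← J.index_H]
    exact Subgroup.relIndex_dvd_index_of_le hHN
  have h0 : 0 ∈ K := Finset.mem_filter.2 ⟨by simp, 1, one_mem _, pt_zero⟩
  have hdec : ∀ S ∈ (Finset.range 7).powerset, 0 ∈ S → ∑ j ∈ S, sizes j ∣ 173067389 →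
      S = {0} ∨ S = Finset.range 7 := by decide +kernel
  rcases hdec K (Finset.mem_powerset.2 (Finset.filter_subset _ _)) h0 hdiv with hK | hK
  · refine le_antisymm (fun n hn => ?_) hHN
    have h1 : V.H.relIndex N = 1 := by
      rw [← hTN, hTc, hK, Finset.sum_singleton]; rfl
    exact Subgroup.relIndex_eq_one.1 h1 hn
  · exfalso
    have h1 : (1 : ℕ) ∈ K := by rw [hK]; simp
    obtain ⟨-, n, hn, e⟩ := Finset.mem_filter.1 h1
    rw [pt_one, QuotientGroup.eq] at e
    have ht : V.t ∈ N := by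
      have h2 := mul_mem hn (inv_mem (hHN e))
      rwa [mul_inv_rev, inv_inv, mul_inv_cancel_left] at h2
    have hV : ∀ v, v < 2048 → pv v ∈ stab V 1 := by
      intro v hv
      have hm : V.t * V.φ (pv v) * V.t⁻¹ ∈ vImg V :=
        (Subgroup.mem_normalizer_iff.1 ht _).1 ⟨pv v, pv_mem v, rfl⟩
      obtain ⟨w, -, hw⟩ := hm
      rw [mem_stab, pt_one]
      show ((V.φ (pv v) * V.t : G) : V.Pts) = _
      rw [QuotientGroup.eq, mul_inv_rev, mul_assoc]
      refine ⟨w⁻¹, ?_⟩
      rw [map_inv, hw, mul_inv_rev, mul_inv_rev, inv_inv, inv_eq_of_mul_eq_one_right V.t_sq]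
    obtain ⟨-, hK0, hS⟩ := J.proj_stab_one
    let f : K0 × Fin 2048 → stab V 1 := fun kv =>
      ⟨(kv.1 : P) * pv kv.2, mul_mem (K0_le_stab kv.1.2) (hV _ kv.2.2)⟩
    have hf : Function.Injective f := fun a b h => by
      have h' := congrArg Subtype.val h
      have h1 := congrArg vpart h'
      simp only [f, J.pf.vpart_mul_pv (K0_le a.1.2) a.2.2, J.pf.vpart_mul_pv (K0_le b.1.2) b.2.2] at h1
      have h2 := congrArg mpart h'
      simp only [f, J.pf.mpart_eq (K0_le a.1.2) a.2.2, J.pf.mpart_eq (K0_le b.1.2) b.2.2] at h2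
      exact Prod.ext (Subtype.ext h2) (Fin.ext h1)
    have := Nat.card_le_card_of_injective f hf
    rw [Nat.card_prod, hK0, Nat.card_fin, hS] at this
    norm_num at this

/-- An automorphism can be changed by an inner one so that it preserves the image of the model. -/
theorem JFacts.exists_preserve (α : G ≃* G) :
    ∃ g : G, ∀ p ∈ Vsub, ∃ q ∈ Vsub, MulAut.conj g (α (V.φ p)) = V.φ q := by
  classical
  have := J.fin
  have hP := J.pf.finite
  have := Fact.mk Nat.prime_two
  set S := (J.pf.Syl).map V.φ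
  have hS : Nat.card S = 2 ^ 21 := by
    rw [Subgroup.card_map_of_injective J.inj, J.pf.card_Syl]
  have syl : ∀ T : Subgroup G, Nat.card T = 2 ^ 21 → ∃ Q : Sylow 2 G, (Q : Subgroup G) = T := by
    intro T hT
    obtain ⟨Q, hQ⟩ := (IsPGroup.of_card hT).exists_le_sylow
    refine ⟨Q, (Subgroup.eq_of_le_of_card_ge hQ ?_).symm⟩
    obtain ⟨m, hm⟩ := IsPGroup.iff_card.1 Q.isPGroup'
    have hd := Subgroup.card_subgroup_dvd_card (Q : Subgroup G)
    rw [hm, J.card] at hd
    rw [hm, hT]
    rcases Nat.lt_or_ge m 22 with h | h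
    · exact Nat.pow_le_pow_right (by norm_num) (by omega)
    · exact absurd ((Nat.pow_dvd_pow 2 h).trans hd) (by norm_num)
  obtain ⟨Q1, h1⟩ := syl (S.map α.toMonoidHom) (by
    rw [Subgroup.card_map_of_injective α.injective, hS])
  obtain ⟨Q2, h2⟩ := syl S hS
  obtain ⟨g, hg⟩ := MulAction.exists_smul_eq G Q1 Q2
  refine ⟨g, ?_⟩
  let β : G ≃* G := α.trans (MulAut.conj g)
  have hβS : S.map β.toMonoidHom = S := by
    conv_rhs => rw [← h2, ← hg, Sylow.coe_subgroup_smul, h1]
    exact (Subgroup.map_map S (MulAut.conj g).toMonoidHom α.toMonoidHom).symm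
  let A : Subgroup P := ((vImg V).map β.toMonoidHom).comap V.φ
  have hle : (vImg V).map β.toMonoidHom ≤ S := by
    rw [← hβS]; exact Subgroup.map_mono (Subgroup.map_mono J.pf.Vsub_le_Syl)
  have hsurj : ∀ x ∈ (vImg V).map β.toMonoidHom, ∃ a ∈ A, V.φ a = x := fun x hx => by
    obtain ⟨s, -, rfl⟩ := hle hx
    exact ⟨s, hx, rfl⟩
  have hAS : A ≤ J.pf.Syl := fun a ha => by
    obtain ⟨s, hs, he⟩ := hle ha
    exact J.inj he ▸ hs
  have hAv : ∀ a ∈ A, ∃ v ∈ Vsub, β (V.φ v) = V.φ a := fun a ha => by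
    obtain ⟨_, ⟨v, hv, rfl⟩, he⟩ := ha
    exact ⟨v, hv, he⟩
  have hA : A = Vsub := by
    refine J.pf.eq_Vsub hAS ?_ ?_ ?_ ?_
    · intro s hs a ha
      obtain ⟨v, hv, hva⟩ := hAv a ha
      obtain ⟨_, ⟨r, -, rfl⟩, hr⟩ : V.φ s ∈ S.map β.toMonoidHom := hβS.symm ▸ ⟨s, hs, rfl⟩
      refine ⟨_, ⟨r * v * r⁻¹, J.pf.Vsub_normal.conj_mem v hv r, rfl⟩, ?_⟩
      show β (V.φ (r * v * r⁻¹)) = _
      rw [map_mul, map_mul, map_inv, map_mul, map_mul, map_inv, hva, map_mul, map_mul, map_inv]
      rw [show β (V.φ r) = V.φ s from hr]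
    · intro a ha b hb
      obtain ⟨v, hv, hva⟩ := hAv a ha
      obtain ⟨w, hw, hwb⟩ := hAv b hb
      obtain ⟨i, hi, rfl⟩ := J.pf.mem_Vsub.1 hv
      obtain ⟨k, hk, rfl⟩ := J.pf.mem_Vsub.1 hw
      refine J.inj ?_
      rw [map_mul, map_mul, ← hva, ← hwb, ← map_mul, ← map_mul, ← map_mul, ← map_mul,
        J.pf.pv_mul hk hi, J.pf.pv_mul hi hk, Nat.xor_comm]
    · intro a ha
      obtain ⟨v, hv, hva⟩ := hAv a ha
      obtain ⟨i, hi, rfl⟩ := J.pf.mem_Vsub.1 hv
      refine J.inj ?_
      rw [map_mul, ← hva, ← map_mul, ← map_mul, J.pf.pv_mul hi hi, Nat.xor_self, pv_zero, map_one,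
        map_one]
    · have e : A.map V.φ = (vImg V).map β.toMonoidHom :=
        le_antisymm (Subgroup.map_le_iff_le_comap.2 le_rfl) fun x hx => by
          obtain ⟨a, ha, rfl⟩ := hsurj x hx; exact ⟨a, ha, rfl⟩
      rw [← Subgroup.card_map_of_injective (K := A) J.inj, e,
        Subgroup.card_map_of_injective β.injective, J.card_vImg]
  intro p hp
  obtain ⟨a, ha, hae⟩ := hsurj _ ⟨V.φ p, ⟨p, hp, rfl⟩, rfl⟩
  exact ⟨a, hA ▸ ha, hae.symm⟩

/-- An automorphism preserving the image of the translations restricts to the model. -/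
theorem JFacts.exists_restrict (α : G ≃* G)
    (hα : ∀ p ∈ Vsub, ∃ q ∈ Vsub, α (V.φ p) = V.φ q) :
    ∃ θ : P ≃* P, (∀ p ∈ Vsub, θ p ∈ Vsub) ∧ ∀ p, α (V.φ p) = V.φ (θ p) := by
  classical
  have := J.fin
  have hP := J.pf.finite
  have himg : (vImg V).map α.toMonoidHom = vImg V := by
    refine Subgroup.eq_of_le_of_card_ge ?_ ?_
    · rintro _ ⟨_, ⟨p, hp, rfl⟩, rfl⟩
      obtain ⟨q, hq, he⟩ := hα p hp
      exact ⟨q, hq, he.symm⟩
    · rw [Subgroup.card_map_of_injective α.injective]
  have hH : ∀ p, α (V.φ p) ∈ V.H := by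
    intro p
    rw [← J.normalizer_vImg]
    refine Subgroup.mem_normalizer_fintype fun n hn => ?_
    rw [SetLike.mem_coe, ← himg] at hn
    obtain ⟨_, ⟨v, hv, rfl⟩, rfl⟩ := hn
    rw [SetLike.mem_coe, ← himg]
    exact ⟨_, ⟨p * v * p⁻¹, J.pf.Vsub_normal.conj_mem v hv p, rfl⟩, by simp⟩
  choose f hf using hH
  have hfm : ∀ a b, f (a * b) = f a * f b := fun a b => J.inj (by
    rw [map_mul, hf, hf, hf, map_mul, map_mul])
  have hinj : Function.Injective (MonoidHom.mk' f hfm) := fun a b h => by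
    refine J.inj (α.injective ?_)
    rw [← hf a, ← hf b]
    exact congrArg V.φ h
  refine ⟨MulEquiv.ofBijective _ (Finite.injective_iff_bijective.1 hinj), fun p hp => ?_,
    fun p => (hf p).symm⟩
  obtain ⟨q, hq, he⟩ := hα p hp
  show f p ∈ Vsub
  rwa [J.inj ((hf p).trans he)]

/-- The outer class does not extend. -/
theorem JFacts.not_outer (α : G ≃* G) {β : P ≃* P} (h : ∀ p, α (V.φ p) = V.φ (β p))
    (hv : ∀ v, v < 2048 → β (pv v) = pv v) (hx : β px = px * pv zOut) (hy : β py = py) : False := by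
  classical
  have := J.fin
  have hP := J.pf.finite
  have hH : ∀ g ∈ V.H, α g ∈ V.H := by
    rintro _ ⟨p, rfl⟩; exact ⟨β p, (h p).symm⟩
  have hsymm : ∀ g ∈ V.H, α.symm g ∈ V.H := by
    rintro _ ⟨p, rfl⟩
    refine ⟨β.symm p, α.injective ?_⟩
    rw [h, β.apply_symm_apply, α.apply_symm_apply]
  -- the induced permutation of the cosets
  let a : V.Pts → V.Pts := Quotient.lift (fun g => ((α g : G) : V.Pts)) fun g g' hgg => by
    show ((α g : G) : V.Pts) = ((α g' : G) : V.Pts)
    rw [QuotientGroup.eq, ← map_inv, ← map_mul]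
    exact hH _ (QuotientGroup.leftRel_apply.1 hgg)
  have ha : ∀ (g : G) (x : V.Pts), a (g • x) = α g • a x := by
    intro g x
    induction x using QuotientGroup.induction_on with
    | _ z =>
      show ((α (g * z) : G) : V.Pts) = ((α g * α z : G) : V.Pts)
      rw [map_mul]
  have hainj : Function.Injective a := by
    intro x y
    induction x using QuotientGroup.induction_on with
    | _ z => induction y using QuotientGroup.induction_on with
      | _ z' =>
        intro e
        have e' := hsymm _ (QuotientGroup.eq.1 (e : ((α z : G) : V.Pts) = ((α z' : G) : V.Pts)))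
        rw [← map_inv, ← map_mul, α.symm_apply_apply] at e'
        exact QuotientGroup.eq.2 e'
  obtain ⟨j, hj, hmem⟩ := J.orbits.2.2 (a (V.pt D 6))
  have himg : a '' V.orb D 6 = V.orb D j := by
    obtain ⟨g, hg, hge⟩ := hmem
    refine Set.ext fun x => ⟨?_, ?_⟩
    · rintro ⟨_, ⟨k, hk, rfl⟩, rfl⟩
      exact ⟨α k * g, mul_mem (hH k hk) hg, by rw [ha, hge, mul_smul]⟩
    · rintro ⟨k, hk, rfl⟩
      refine ⟨_, ⟨α.symm (k * g⁻¹), hsymm _ (mul_mem hk (inv_mem hg)), rfl⟩, ?_⟩
      rw [ha, α.apply_symm_apply, hge, mul_smul, inv_smul_smul]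
  have hsz : sizes j = sizes 6 := by
    rw [← (J.orbits.1 j hj).2, ← himg, Set.ncard_image_of_injective _ hainj,
      (J.orbits.1 6 (by norm_num)).2]
  have hdec : ∀ i, i < 7 → sizes i = sizes 6 → i = 6 := by decide +kernel
  obtain rfl := hdec j hj hsz
  obtain ⟨_, ⟨h', rfl⟩, hpt⟩ := hmem
  obtain ⟨hA, hB⟩ := J.stA_mem
  have hc := J.card_stab (j := 6) (by norm_num)
  simp only [sizes, List.getD_cons_zero, List.getD_cons_succ] at hc
  refine J.pf.no_beta (S := stab V 6) (by omega) hA hB (β := β.toMonoidHom) hv hx hy (h := h') ?_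
  intro s hs
  show h'⁻¹ * β s * h' ∈ stab V 6
  rw [mem_stab, map_mul, map_mul, map_inv, mul_smul, mul_smul, ← hpt, ← h s, ← ha, mem_stab.1 hs,
    hpt, inv_smul_smul]

/-- Every automorphism is inner. -/
theorem JFacts.inner (α : G ≃* G) (hgen : Subgroup.closure {V.φ px, V.φ py, V.t} = ⊤) :
    ∃ g : G, ∀ z, α z = MulAut.conj g z := by
  obtain ⟨g, hg⟩ := J.exists_preserve α
  obtain ⟨θ, hθ, hθe⟩ := J.exists_restrict (α.trans (MulAut.conj g)) hg
  obtain ⟨c, hcv, hcy, hcx⟩ := J.pf.two_classes hθ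
  let α2 : G ≃* G := α.trans (MulAut.conj (V.φ c * g))
  have hα2 : ∀ p, α2 (V.φ p) = V.φ (MulAut.conj c (θ p)) := fun p => by
    show MulAut.conj (V.φ c * g) (α (V.φ p)) = _
    rw [map_mul, MulAut.mul_apply]
    have := hθe p
    change MulAut.conj g (α (V.φ p)) = _ at this
    rw [this, MulAut.conj_apply, MulAut.conj_apply, map_mul, map_mul, map_inv]
  rcases hcx with hcx | hcx
  · have hkk : MulAut.conj c (θ kk) = kk := by
      have key : ∀ l, MulAut.conj c (θ (mword l)) = mword l := by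
        intro l
        induction l with
        | nil => simp [mword]
        | cons a l ih =>
          rw [mword, map_mul, map_mul, ih]
          cases Nat.beq a 0
          · simp only [cond_false]; rw [hcy]
          · simp only [cond_true]; rw [hcx]
      exact key kWord
    have hx2 : α2 (V.φ px) = V.φ px := by rw [hα2, hcx]
    have hy2 : α2 (V.φ py) = V.φ py := by rw [hα2, hcy]
    have hk2 : α2 (V.φ kk) = V.φ kk := by rw [hα2, hkk]
    have ht2 : α2 V.t = V.t := by
      have hcomm : ∀ k ∈ ({px, kk} : Set P), Commute V.t (V.φ k) := fun k hk =>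
        (comm_K0 (Subgroup.subset_closure hk)).symm
      refine J.centraliser ?_ ?_ ?_
      · rw [← hx2]; exact (hcomm px (by simp)).map α2.toMonoidHom
      · rw [← hk2]; exact (hcomm kk (by simp)).map α2.toMonoidHom
      · intro h1
        have ht : V.t = 1 := α2.injective (h1.trans (map_one _).symm)
        have := J.orbits.2.1 0 (by norm_num) 1 (by norm_num) (V.pt D 0)
          ⟨1, one_mem _, (one_smul _ _).symm⟩
          ⟨1, one_mem _, by rw [one_smul, pt_zero, pt_one, ht]⟩
        norm_num at this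
    have hid : ∀ z, α2 z = z := by
      intro z
      have hz : z ∈ Subgroup.closure {V.φ px, V.φ py, V.t} := by rw [hgen]; trivial
      induction hz using Subgroup.closure_induction with
      | mem a ha =>
        rcases ha with rfl | rfl | rfl
        · exact hx2
        · exact hy2
        · exact ht2
      | one => exact map_one _
      | mul a b _ _ ha hb => rw [map_mul, ha, hb]
      | inv a _ ha => rw [map_inv, ha]
    refine ⟨(V.φ c * g)⁻¹, fun z => ?_⟩
    have := hid z
    change MulAut.conj (V.φ c * g) (α z) = z at this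
    conv_rhs => rw [← this]
    simp [MulAut.conj_apply, mul_assoc]
  · exact (J.not_outer α2 (β := θ.trans (MulAut.conj c)) hα2 hcv hcx hcy).elim

end Cfsg.Agent.Lib.J4Out38
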