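import Cfsg.Agent.Lib.J4Dce59.Group

/-!
# The translations and the complement in the model of `2^11:M24`
-/

set_option autoImplicit false
set_option maxRecDepth 20000

namespace Cfsg.Agent.Lib.J4Out38

open Cfsg.Agent.Lib.J4Dce59

/-- What is used about the model: its action is faithful and it has the expected order. -/
structure PFacts : Prop where
  inj : Function.Injective rho
  card : Nat.card P = 2 ^ 11 * 244823040

theorem PFacts.finite (F : PFacts) : Finite P :=
  Nat.finite_of_card_ne_zero (by rw [F.card]; norm_num)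

/-- Two elements with the same code are equal. -/
theorem PFacts.eq_of_code (F : PFacts) {p q : P} {A : ℕ} (hp : Code p A) (hq : Code q A) : p = q :=
  F.inj (Cd.eq hp hq)

/-- The translation by the vector `v`. -/
def pv (v : ℕ) : P := bitsProd pe v

theorem bitsCode_eq : ((List.range 2048).all fun v => Nat.beq (bitsCode v) (tr v)) = true := by
  decide +kernel

theorem code_pv {v : ℕ} (hv : v < 2048) : Code (pv v) (tr v) := by
  have h := List.all_eq_true.1 bitsCode_eq v (List.mem_range.2 hv)
  rw [← Nat.eq_of_beq_eq_true h]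
  unfold Code
  rw [pv, map_bitsProd]
  exact cd_bits (fun i => code_e i) _

theorem bits_lt {v : ℕ} (hv : v < 2048) (w : ℕ) (hw : w < 2048) : v ^^^ w < 2048 :=
  Nat.xor_lt_two_pow (n := 11) hv hw

theorem ap_tr_all : ((List.range 2048).all fun v => Nat.beq (ap 2048 (tr v)) (2048 + v) &&
    ((List.range 11).all fun i => Nat.beq (mm (tr v) (tr (2 ^ i))) (tr (v ^^^ 2 ^ i)) &&
      Nat.beq (ap (2 ^ i) (tr v)) (2 ^ i))) = true := by decide +kernel

theorem ap_2048_tr {v : ℕ} (hv : v < 2048) : ap 2048 (tr v) = 2048 + v := by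
  have h := List.all_eq_true.1 ap_tr_all v (List.mem_range.2 hv)
  rw [Bool.and_eq_true] at h
  exact Nat.eq_of_beq_eq_true h.1

theorem pv_inj {v w : ℕ} (hv : v < 2048) (hw : w < 2048) (h : pv v = pv w) : v = w := by
  have h1 := (code_pv hv).apply ⟨2048, by norm_num⟩
  have h2 := (code_pv hw).apply ⟨2048, by norm_num⟩
  simp only [h] at h1
  rw [h1, ap_2048_tr hv, ap_2048_tr hw] at h2
  omega

theorem PFacts.pv_mul_e (F : PFacts) {v : ℕ} (hv : v < 2048) (i : Fin 11) :
    pv v * pe i = pv (v ^^^ 2 ^ (i : ℕ)) := by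
  have hi : 2 ^ (i : ℕ) < 2048 :=
    lt_of_lt_of_eq (Nat.pow_lt_pow_right (by norm_num) i.isLt) (by norm_num : 2 ^ 11 = 2048)
  refine F.eq_of_code ((code_pv hv).mul (code_e i)) ?_
  have h := List.all_eq_true.1 ap_tr_all v (List.mem_range.2 hv)
  rw [Bool.and_eq_true, List.all_eq_true] at h
  have h2 := h.2 (i : ℕ) (List.mem_range.2 i.isLt)
  rw [Bool.and_eq_true] at h2
  rw [Nat.eq_of_beq_eq_true h2.1]
  exact code_pv (bits_lt hv _ hi)

theorem pv_zero : pv 0 = 1 := by simp [pv, bitsProd]

theorem PFacts.pe_eq (F : PFacts) (i : Fin 11) : pe i = pv (2 ^ (i : ℕ)) := by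
  have h := F.pv_mul_e (v := 0) (by norm_num) i
  rwa [pv_zero, one_mul, Nat.zero_xor] at h

/-- The translations. -/
def Vsub : Subgroup P := Subgroup.closure (Set.range pe)

theorem pv_mem (v : ℕ) : pv v ∈ Vsub := by
  refine Subgroup.list_prod_mem _ fun a ha => ?_
  obtain ⟨i, -, rfl⟩ := List.mem_map.1 ha
  exact Subgroup.subset_closure ⟨i, rfl⟩

theorem pe_inv (i : Fin 11) : (pe i)⁻¹ = pe i :=
  inv_eq_of_mul_eq_one_right (hRel_P.sq i)

theorem PFacts.mem_Vsub (F : PFacts) {p : P} : p ∈ Vsub ↔ ∃ v < 2048, pv v = p := by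
  refine ⟨fun hp => ?_, fun ⟨v, _, h⟩ => h ▸ pv_mem v⟩
  have hi : ∀ i : Fin 11, 2 ^ (i : ℕ) < 2048 := by decide
  induction hp using Subgroup.closure_induction_right with
  | one => exact ⟨0, by norm_num, pv_zero⟩
  | mul_right a _ y hy ih =>
    obtain ⟨i, rfl⟩ := hy
    obtain ⟨v, hv, rfl⟩ := ih
    exact ⟨_, bits_lt hv _ (hi i), (F.pv_mul_e hv i).symm⟩
  | mul_inv_cancel a _ y hy ih =>
    obtain ⟨i, rfl⟩ := hy
    obtain ⟨v, hv, rfl⟩ := ih
    exact ⟨_, bits_lt hv _ (hi i), by rw [pe_inv, F.pv_mul_e hv i]⟩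

theorem split_all : ((List.range 2048).all fun w => Nat.beq w 0 ||
    (List.range 11).any fun i => Nat.blt (w ^^^ 2 ^ i) w) = true := by decide +kernel

theorem PFacts.pv_mul (F : PFacts) : ∀ {w : ℕ}, w < 2048 → ∀ {v : ℕ}, v < 2048 →
    pv v * pv w = pv (v ^^^ w) := by
  intro w
  induction w using Nat.strong_induction_on with
  | _ w ih =>
    intro hw v hv
    have h := List.all_eq_true.1 split_all w (List.mem_range.2 hw)
    rw [Bool.or_eq_true, List.any_eq_true] at h
    rcases h with h | ⟨i, hi, hlt⟩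
    · rw [Nat.eq_of_beq_eq_true h, pv_zero, mul_one, Nat.xor_zero]
    · have hi' := List.mem_range.1 hi
      have hlt' := Nat.blt_eq.mp hlt
      set b := w ^^^ 2 ^ i with hb
      have hbw : b < 2048 := hlt'.trans hw
      have he : pv w = pv b * pe ⟨i, hi'⟩ := by
        rw [F.pv_mul_e hbw]; simp only [hb, Nat.xor_assoc, Nat.xor_self, Nat.xor_zero]
      rw [he, ← mul_assoc, ih b hlt' hbw hv, F.pv_mul_e (bits_lt hv _ hbw)]
      simp only [hb, Nat.xor_assoc, Nat.xor_self, Nat.xor_zero]

/-- The complement. -/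
def Msub : Subgroup P := Subgroup.closure {px, py}

theorem conj_all : ((List.range 11).all fun i =>
    Nat.beq (mm (tr (2 ^ i)) MX) (mm MX (tr (mxRows.getD i 0))) &&
      Nat.beq (mm (tr (2 ^ i)) MY) (mm MY (tr (myRows.getD i 0)))) = true := by decide +kernel

theorem PFacts.Vsub_normal (F : PFacts) : Vsub.Normal := by
  have hfin := F.finite
  rw [← Subgroup.normalizer_eq_top_iff, eq_top_iff,
    ← PresentedGroup.closure_range_of (rels := rels), Subgroup.closure_le]
  rintro _ ⟨g, rfl⟩
  refine Subgroup.mem_normalizer_fintype fun n hn => ?_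
  rw [SetLike.mem_coe] at hn ⊢
  induction hn using Subgroup.closure_induction with
  | mem a ha =>
    obtain ⟨i, rfl⟩ := ha
    cases g with
    | x =>
      have hxi : (px)⁻¹ = px := inv_eq_of_mul_eq_one_right (by rw [← pow_two]; exact hRel_P.m24.1)
      have := hRel_P.conj_x i
      rw [hxi] at this ⊢
      rw [this]
      exact pv_mem _
    | y =>
      have h3 := hRel_P.m24.2.1
      have hy : (py)⁻¹ = py * py := inv_eq_of_mul_eq_one_right (by rw [← h3, pow_succ, pow_two, mul_assoc])
      have hc : ∀ a ∈ Vsub, py⁻¹ * a * py ∈ Vsub := by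
        intro a ha
        induction ha using Subgroup.closure_induction with
        | mem b hb => obtain ⟨j, rfl⟩ := hb; rw [hRel_P.conj_y j]; exact pv_mem _
        | one => simp
        | mul b c _ _ hb hc =>
          have := mul_mem hb hc
          convert this using 1; group
        | inv b _ hb =>
          have := inv_mem hb
          convert this using 1; group
      have := hc _ (hc _ (Subgroup.subset_closure ⟨i, rfl⟩))
      convert this using 1
      rw [show (py : P) * pe i * (py)⁻¹ = (py * py)⁻¹ * pe i * (py * py) by rw [← hy, inv_inv]]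
      group
    | e j =>
      refine mul_mem (mul_mem (Subgroup.subset_closure ⟨j, rfl⟩) (Subgroup.subset_closure ⟨i, rfl⟩)) ?_
      exact inv_mem (Subgroup.subset_closure ⟨j, rfl⟩)
  | one => simp
  | mul a b _ _ ha hb =>
    have := mul_mem ha hb
    convert this using 1; group
  | inv a _ ha =>
    have := inv_mem ha
    convert this using 1; group

end Cfsg.Agent.Lib.J4Out38
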