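import Cfsg.Agent.Lib.J4Out38.Cocycle

/-!
# The outer class moves a stabiliser of order 6072
-/

set_option autoImplicit false
set_option maxRecDepth 100000

namespace Cfsg.Agent.Lib.J4Out38

open Cfsg.Agent.Lib.J4Dce59

def wA : List ℕ := [1, 0, 1, 0, 1, 1, 0, 1, 0, 1, 0, 1, 1, 0, 1, 1, 0, 1, 1, 0, 1, 1, 0, 1, 1, 0, 1, 1, 0, 1, 1, 0, 1, 1, 0, 1, 0, 1, 0, 1, 0, 1, 0, 1, 1, 0, 1, 0, 1, 0, 1, 0, 1, 0, 1, 1, 0, 1, 0, 1, 0, 1, 0, 1, 0]

def vA : ℕ := 0

def codA : ℕ := 11152126064925880360734015206142730029217366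

def twA : ℕ := 13814495303715302898871458134688884515649110

def wB : List ℕ := [0, 1, 0, 1, 0, 1, 0, 1, 1, 0, 1, 1, 0, 1, 0, 1, 0, 1, 0, 1, 1, 0, 1, 0, 1, 1, 0, 1, 1, 0, 1, 1, 0, 1, 1, 0, 1, 1, 0, 1, 0, 1, 0, 1, 1, 0, 1, 1, 0, 1, 1, 0, 1, 1, 0, 1, 1, 0, 1, 0, 1, 1, 0, 1, 1, 0]

def vB : ℕ := 841

def codB : ℕ := 15729996890786855919003706967891661433635803

def twB : ℕ := 15838887248201556227311986842269827261301723

/-- The code of the image of a word under the outer class. -/
def twCode : List ℕ → ℕ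
  | [] => one
  | a :: l => mm (cond (Nat.beq a 0) (mm MX (tr zOut)) MY) (twCode l)

def okStab : Bool :=
  Nat.beq (mm (mcode wA) (tr vA)) codA && Nat.beq (mm (mcode wB) (tr vB)) codB &&
    Nat.beq (mm (twCode wA) (tr vA)) twA && Nat.beq (mm (twCode wB) (tr vB)) twB

def okNoTrans : Bool :=
  (List.range 2048).all fun c =>
    !(Nat.beq (mm (mm (tr c) twA) (tr c)) codA && Nat.beq (mm (mm (tr c) twB) (tr c)) codB)

def okNoFixed : Bool :=
  (List.range 2048).all fun w => Nat.beq w 0 || !Nat.beq (ap w gcode) w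

theorem stab_ok : okStab = true := by decide +kernel

theorem notrans_ok : okNoTrans = true := by decide +kernel

theorem nofixed_ok : okNoFixed = true := by decide +kernel

/-- The first generator of the stabiliser. -/
def stA : P := mword wA * pv vA

/-- The second generator of the stabiliser. -/
def stB : P := mword wB * pv vB

theorem PFacts.cd_stA (F : PFacts) : cd stA = codA := by
  have h := stab_ok
  simp only [okStab, Bool.and_eq_true] at h
  rw [stA, F.cd_twist (F.code_cd _) (by norm_num [vA]), F.cd_mword]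
  exact Nat.eq_of_beq_eq_true h.1.1.1

theorem PFacts.cd_stB (F : PFacts) : cd stB = codB := by
  have h := stab_ok
  simp only [okStab, Bool.and_eq_true] at h
  rw [stB, F.cd_twist (F.code_cd _) (by norm_num [vB]), F.cd_mword]
  exact Nat.eq_of_beq_eq_true h.1.1.2

theorem PFacts.cd_beta_mword (F : PFacts) {β : P →* P} (hx : β px = px * pv zOut) (hy : β py = py) :
    ∀ l, cd (β (mword l)) = twCode l
  | [] => by rw [mword, map_one, cd_one]; rfl
  | a :: l => by
    rw [mword, map_mul, F.cd_mul, F.cd_beta_mword hx hy l, twCode]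
    cases Nat.beq a 0
    · simp [hy, code_py]
    · simp [hx, F.cd_twist code_x (show zOut < 2048 by norm_num [zOut])]

theorem PFacts.exists_conj_gg (F : PFacts) {q : P} (hq : orderOf q = 23) :
    ∃ c : P, Subgroup.zpowers (MulAut.conj c q) = Subgroup.zpowers gg := by
  have := Fact.mk (show Nat.Prime 23 by norm_num)
  have := F.finite
  obtain ⟨Q1, h1⟩ := F.sylow_zpowers F.gg_order
  obtain ⟨Q2, h2⟩ := F.sylow_zpowers hq
  obtain ⟨a, ha⟩ := MulAction.exists_smul_eq P Q2 Q1
  refine ⟨a, ?_⟩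
  rw [← h1, ← ha, Sylow.coe_subgroup_smul, h2, Subgroup.pointwise_smul_def]
  exact (MonoidHom.map_zpowers (MulAut.conj a).toMonoidHom q).symm

/-- An element of order 23 centralises no nontrivial translation. -/
theorem PFacts.commute_pv (F : PFacts) {q : P} (hq : orderOf q = 23) {w : ℕ} (hw : w < 2048)
    (h : Commute q (pv w)) : w = 0 := by
  obtain ⟨c, hc⟩ := F.exists_conj_gg hq
  have hmem : gg ∈ Subgroup.zpowers (MulAut.conj c q) := hc ▸ Subgroup.mem_zpowers gg
  obtain ⟨k, hk⟩ := Subgroup.mem_zpowers_iff.1 hmem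
  obtain ⟨u, hu, hue⟩ := F.mem_Vsub.1 (F.Vsub_normal.conj_mem _ (pv_mem w) c)
  have h1 : Commute (MulAut.conj c q) (pv u) := by
    rw [hue, ← MulAut.conj_apply]
    exact h.map (MulAut.conj c).toMonoidHom
  have h2 : Commute gg (pv u) := hk ▸ h1.zpow_left k
  have h3 := F.pv_mul_right gg hu
  rw [← h2.eq] at h3
  have h4 := pv_inj hu (F.act_lt' gg hu) (mul_left_cancel h3)
  rw [F.act_cd gg (by omega), F.cd_gg] at h4
  have hf := List.all_eq_true.1 nofixed_ok u (List.mem_range.2 hu)
  rw [← h4, Nat.beq_refl, Bool.not_true, Bool.or_false] at hf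
  rw [Nat.eq_of_beq_eq_true hf, pv_zero] at hue
  have h5 : pv w = 1 := by
    have := congrArg (MulAut.conj c).symm (hue.trans (MulAut.conj_apply c (pv w)).symm)
    rw [map_one, MulEquiv.symm_apply_apply] at this
    exact this.symm
  exact pv_inj hw (by norm_num) (h5.trans pv_zero.symm)

theorem PFacts.act_comb (F : PFacts) {p : P} (hp : p * gg = gg * p) :
    ∀ k c v, v < 2048 → act p (comb gcode k c v) = comb gcode k c (act p v)
  | 0, _, _, _ => act_zero F p
  | k + 1, c, v, hv => by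
    have hav : ap v gcode < 2048 := by
      rw [← F.cd_gg, ← F.act_cd gg (by omega)]; exact F.act_lt' gg hv
    have e : act p (ap v gcode) = ap (act p v) gcode := by
      rw [← F.cd_gg, ← F.act_cd gg (by omega), ← F.act_cd gg (act_lt p (by omega)),
        ← act_mul gg p (by omega), ← act_mul p gg (by omega), hp]
    have hl : c % 2 * v < 4096 := by
      rcases Nat.mod_two_eq_zero_or_one c with h | h <;> rw [h] <;> omega
    have hc : comb gcode k (c / 2) (ap v gcode) < 2048 := by
      have := F.comb_lt (q := gg) k (c / 2) _ hav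
      rwa [F.cd_gg] at this
    rw [comb, comb, F.act_xor p hl (by omega), F.act_comb hp k _ _ hav, e]
    rcases Nat.mod_two_eq_zero_or_one c with h | h <;> simp [h, act_zero F p]

/-- The centraliser of the element of order 23 in the complement. -/
theorem PFacts.centraliser_gg (F : PFacts) {y : P} (hy : y ∈ Msub) (hc : MulAut.conj y gg = gg) :
    ∃ j, y⁻¹ = gg ^ j := by
  have hV : ∀ p ∈ Vsub, MulAut.conj y p ∈ Vsub := fun p hp => F.Vsub_normal.conj_mem p hp y
  have hv0 : v0 < 2048 := by norm_num [v0]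
  obtain ⟨j, hj⟩ := F.tv_good hV hc
  have ht : tv (MulAut.conj y) v0 = act y⁻¹ v0 := by
    refine F.tv_eq (F.act_lt' _ hv0) ?_
    rw [MulAut.conj_apply, mul_assoc, F.pv_mul_right y⁻¹ hv0, mul_inv_cancel_left]
  refine ⟨j, F.act_inj (inv_mem hy) (pow_mem (mword_mem _) j) fun i hi => ?_⟩
  have hb := basis_ok
  simp only [okBasis, List.all_eq_true] at hb
  rw [← Nat.eq_of_beq_eq_true (hb i (List.mem_range.2 hi))]
  have hcy : y⁻¹ * gg = gg * y⁻¹ := by
    rw [MulAut.conj_apply] at hc
    calc y⁻¹ * gg = y⁻¹ * (y * gg * y⁻¹) := by rw [hc]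
      _ = gg * y⁻¹ := by group
  have hcj : gg ^ j * gg = gg * gg ^ j := by rw [← pow_succ, pow_succ']
  rw [F.act_comb hcy 11 _ v0 hv0, F.act_comb hcj 11 _ v0 hv0, ← ht, ← hj, F.act_itA hv0]

/-- The normaliser of a subgroup of order 23 in the complement is small. -/
theorem PFacts.card_normalizer_le (F : PFacts) {q : P} (hq : orderOf q = 23) (hqM : q ∈ Msub) :
    Nat.card ↥(Subgroup.normalizer (Subgroup.zpowers q : Set P) ⊓ Msub) ≤ 253 := by
  classical
  have := F.finite
  obtain ⟨c, hc⟩ := F.exists_conj_gg hq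
  set d := F.proj c
  have hd : Subgroup.zpowers (MulAut.conj d q) = Subgroup.zpowers gg := by
    have h := congrArg (Subgroup.map F.proj) hc
    rw [MonoidHom.map_zpowers, MonoidHom.map_zpowers, F.proj_M (show gg ∈ Msub from mword_mem _),
      MulAut.conj_apply, map_mul, map_mul, map_inv, F.proj_M hqM, ← MulAut.conj_apply] at h
    exact h
  have hdM : d ∈ Msub := (F.decomp c).1
  let T : Set P := {x | x ∈ Msub ∧ MulAut.conj x gg ∈ Subgroup.zpowers gg}
  have hT : T ⊆ Set.range fun ij : Fin 11 × Fin 23 => mword nWord ^ (ij.1 : ℕ) * gg ^ (ij.2 : ℕ) := by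
    rintro x ⟨hxM, hx⟩
    obtain ⟨k, hk⟩ := Subgroup.mem_zpowers_iff.1 hx
    let e := (k % 23).toNat
    have he : gg ^ k = gg ^ e := by
      rw [← zpow_natCast gg e, Int.toNat_of_nonneg (Int.emod_nonneg _ (by norm_num))]
      exact (zpow_mod_orderOf gg k).symm.trans (by rw [F.gg_order]; rfl)
    have hconj : ∀ i, MulAut.conj ((mword nWord ^ i)⁻¹ * x) gg = gg ^ (e * 2 ^ i % 23) := fun i => by
      rw [map_mul, MulAut.mul_apply, ← hk, he, ← F.gg_order, pow_mod_orderOf, mul_comm e, pow_mul,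
        map_pow, MulAut.conj_apply, inv_inv, F.gg_conj i]
    have hex : ∀ e, e < 23 → e = 0 ∨
        ∃ i, i < 11 ∧ (e * 2 ^ i % 23 = 1 ∨ e * 2 ^ i % 23 = 22) := by decide +kernel
    rcases hex e (by omega) with h0 | ⟨i, hi, h | h⟩
    · exfalso
      rw [h0, pow_zero] at he
      rw [he] at hk
      exact F.gg_ne ((MulAut.conj x).injective (hk.symm.trans (map_one _).symm))
    · obtain ⟨j, hj⟩ := F.centraliser_gg (mul_mem (inv_mem (pow_mem (mword_mem _) i)) hxM)
        (by rw [hconj i, h, pow_one])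
      refine ⟨(⟨i, hi⟩, ⟨(22 * j) % 23, Nat.mod_lt _ (by norm_num)⟩), ?_⟩
      show mword nWord ^ i * gg ^ ((22 * j) % 23) = x
      rw [← F.gg_order, pow_mod_orderOf]
      have e2 : gg ^ (22 * j) = (gg ^ j)⁻¹ := by
        refine eq_inv_of_mul_eq_one_left ?_
        rw [← pow_add, show 22 * j + j = 23 * j by omega, pow_mul, gg_pow, one_pow]
      rw [e2, ← hj]
      group
    · exact absurd (by
        rw [hconj i, h]
        exact eq_inv_of_mul_eq_one_right (by rw [← pow_succ', gg_pow]))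
        (F.no_inv fun p hp => F.Vsub_normal.conj_mem p hp ((mword nWord ^ i)⁻¹ * x))
  refine le_trans (Nat.card_le_card_of_injective
    (fun x : ↥(Subgroup.normalizer (Subgroup.zpowers q : Set P) ⊓ Msub) =>
      (⟨MulAut.conj d (x : P), ?_, ?_⟩ : T))
    (fun a b h => Subtype.ext ((MulAut.conj d).injective (congrArg Subtype.val h)))) ?_
  · rw [MulAut.conj_apply]
    exact mul_mem (mul_mem hdM x.2.2) (inv_mem hdM)
  · have hgq : gg ∈ (Subgroup.zpowers q).map (MulAut.conj d).toMonoidHom := by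
      rw [MonoidHom.map_zpowers]
      show gg ∈ Subgroup.zpowers (MulAut.conj d q)
      rw [hd]; exact Subgroup.mem_zpowers _
    obtain ⟨z, hz, hze⟩ := hgq
    have hz' := (Subgroup.mem_normalizer_iff.1 x.2.1 z).1 hz
    rw [← hd]
    show MulAut.conj (MulAut.conj d (x : P)) gg ∈ _
    have e : MulAut.conj (MulAut.conj d (x : P)) gg = MulAut.conj d ((x : P) * z * (x : P)⁻¹) := by
      rw [← hze]
      show MulAut.conj (MulAut.conj d (x : P)) (MulAut.conj d z) = _
      simp only [MulAut.conj_apply]; group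
    rw [e]
    exact MonoidHom.map_zpowers (MulAut.conj d).toMonoidHom q ▸ ⟨_, hz', rfl⟩
  · rw [Nat.card_coe_set_eq]
    refine (Set.ncard_le_ncard hT (Set.finite_range _)).trans ?_
    rw [← Nat.card_coe_set_eq]
    refine (Finite.card_range_le _).trans ?_
    simp

/-- A subgroup of order 6072 of the complement is its own normaliser there. -/
theorem PFacts.self_norm (F : PFacts) {L : Subgroup P} (hL : L ≤ Msub) (hc : Nat.card L = 6072)
    {m : P} (hm : m ∈ Msub) (hmL : ∀ l ∈ L, m * l * m⁻¹ ∈ L) : m ∈ L := by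
  classical
  have := Fact.mk (show Nat.Prime 23 by norm_num)
  have := F.finite
  obtain ⟨q, hq⟩ := exists_prime_orderOf_dvd_card' (G := L) 23 (by rw [hc]; norm_num)
  have hqP : orderOf (q : P) = 23 := by rw [← hq]; exact Subgroup.orderOf_coe q
  have hqM : (q : P) ∈ Msub := hL q.2
  let N : Subgroup P := Subgroup.normalizer (Subgroup.zpowers (q : P) : Set P) ⊓ Msub
  have hN : Nat.card N ≤ 253 := F.card_normalizer_le hqP hqM
  have hp : IsPGroup 23 (Subgroup.zpowers q) :=
    IsPGroup.of_card (n := 1) (by rw [Nat.card_zpowers, hq, pow_one])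
  obtain ⟨Q, hQ⟩ := hp.exists_le_sylow
  have hQe : (Q : Subgroup L) = Subgroup.zpowers q := by
    refine (Subgroup.eq_of_le_of_card_ge hQ ?_).symm
    obtain ⟨k, hk⟩ := IsPGroup.iff_card.1 Q.isPGroup'
    rw [Nat.card_zpowers, hq, hk]
    have hd := Subgroup.card_subgroup_dvd_card (Q : Subgroup L)
    rw [hk, hc] at hd
    rcases Nat.lt_or_ge k 2 with h | h
    · calc 23 ^ k ≤ 23 ^ 1 := Nat.pow_le_pow_right (by norm_num) (by omega)
        _ = 23 := pow_one 23
    · exact absurd ((Nat.pow_dvd_pow 23 h).trans hd) (by norm_num)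
  have hmapq : (Subgroup.zpowers q).map L.subtype = Subgroup.zpowers (q : P) := by
    rw [MonoidHom.map_zpowers]; rfl
  set NL : Subgroup L := Subgroup.normalizer ((Q : Subgroup L) : Set L)
  have hNL : NL.map L.subtype ≤ N ⊓ L := by
    rintro _ ⟨y, hy, rfl⟩
    refine ⟨⟨Subgroup.mem_normalizer_iff.2 fun z => ?_, hL y.2⟩, y.2⟩
    have hy' := Subgroup.mem_normalizer_iff.1 hy
    rw [hQe] at hy'
    rw [← hmapq]
    constructor
    · rintro ⟨w, hw, rfl⟩
      exact ⟨_, (hy' w).1 hw, rfl⟩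
    · rintro ⟨w, hw, hwe⟩
      refine ⟨y⁻¹ * w * y, (hy' _).2 (by rwa [show y * (y⁻¹ * w * y) * y⁻¹ = w by group]), ?_⟩
      rw [map_mul, map_mul, map_inv, hwe]; group
  have hcard : Nat.card (NL.map L.subtype) = Nat.card NL :=
    Subgroup.card_map_of_injective L.subtype_injective
  have h1 : Nat.card NL ≤ 253 := hcard ▸ (Subgroup.card_le_of_le (hNL.trans inf_le_left)).trans hN
  have h2 : Nat.card NL = 253 := by
    have hs := card_sylow_modEq_one 23 L
    rw [Sylow.card_eq_index_normalizer Q] at hs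
    have hi : NL.index * Nat.card NL = 6072 := by rw [Subgroup.index_mul_card, hc]
    have hmem : NL.index ∈ Nat.divisors 6072 := Nat.mem_divisors.2 ⟨⟨_, hi.symm⟩, by norm_num⟩
    have hdec : ∀ d ∈ Nat.divisors 6072, d % 23 = 1 → 24 ≤ d → d = 24 := by decide +kernel
    have h24 : NL.index = 24 := by
      refine hdec _ hmem hs ?_
      by_contra h
      have := Nat.mul_le_mul (show NL.index ≤ 23 by omega) h1
      omega
    rw [h24] at hi
    omega
  have hNle : N ≤ L := by
    have : NL.map L.subtype = N := by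
      refine Subgroup.eq_of_le_of_card_ge (hNL.trans inf_le_left) ?_
      rw [hcard, h2]; exact hN
    rw [← this]
    rintro _ ⟨y, -, rfl⟩
    exact y.2
  let q' : L := ⟨m * q * m⁻¹, hmL _ q.2⟩
  have hq' : orderOf q' = 23 := by
    rw [← Subgroup.orderOf_coe]
    show orderOf (m * q * m⁻¹) = 23
    rw [← MulAut.conj_apply, MulEquiv.orderOf_eq, hqP]
  obtain ⟨Q', hQ'⟩ := (IsPGroup.of_card (p := 23) (n := 1) (G := Subgroup.zpowers q')
    (by rw [Nat.card_zpowers, hq', pow_one])).exists_le_sylow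
  obtain ⟨l, hl⟩ := MulAction.exists_smul_eq L Q' Q
  have hmem : MulAut.conj l q' ∈ (Q : Subgroup L) := by
    rw [← hl, Sylow.coe_subgroup_smul]
    exact ⟨q', hQ' (Subgroup.mem_zpowers _), rfl⟩
  rw [hQe] at hmem
  have hmemP : MulAut.conj ((l : P) * m) (q : P) ∈ Subgroup.zpowers (q : P) := by
    rw [← hmapq]
    refine ⟨_, hmem, ?_⟩
    show ((MulAut.conj l q' : L) : P) = _
    simp only [MulAut.conj_apply, Subgroup.coe_mul, Subgroup.coe_inv, q']
    group
  have hlm : (l : P) * m ∈ N := by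
    refine ⟨Subgroup.mem_normalizer_fintype fun z hz => ?_, mul_mem (hL l.2) hm⟩
    obtain ⟨k, rfl⟩ := Subgroup.mem_zpowers_iff.1 hz
    rw [SetLike.mem_coe, ← MulAut.conj_apply, map_zpow]
    exact zpow_mem hmemP k
  have := mul_mem (inv_mem l.2) (hNle hlm)
  rwa [inv_mul_cancel_left] at this

/-- A stabiliser of order 6072 containing the two elements is not preserved by the outer class. -/
theorem PFacts.no_beta (F : PFacts) {S : Subgroup P} (hS : Nat.card S = 6072) (hA : stA ∈ S)
    (hB : stB ∈ S) {β : P →* P} (hV : ∀ v, v < 2048 → β (pv v) = pv v)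
    (hx : β px = px * pv zOut) (hy : β py = py) {h : P} (hh : ∀ s ∈ S, h⁻¹ * β s * h ∈ S) :
    False := by
  classical
  have := Fact.mk (show Nat.Prime 23 by norm_num)
  have := F.finite
  -- the translations meet the stabiliser trivially
  have hSV : ∀ s ∈ S, F.proj s = 1 → s = 1 := by
    intro s hs hs1
    obtain ⟨w, hw, rfl⟩ := F.mem_Vsub.1 (F.proj_eq_one hs1)
    by_contra hne
    have hw0 : w ≠ 0 := fun h0 => hne (h0 ▸ pv_zero)
    obtain ⟨q, hq⟩ := exists_prime_orderOf_dvd_card' (G := S) 23 (by rw [hS]; norm_num)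
    have hqP : orderOf (q : P) = 23 := by rw [← hq]; exact Subgroup.orderOf_coe q
    let K : Subgroup P := S ⊓ Vsub
    have hK1 : Nat.card K ∣ 6072 := hS ▸ Subgroup.card_dvd_of_le inf_le_left
    have hK2 : Nat.card K ∣ 2 ^ 11 := F.card_Vsub ▸ Subgroup.card_dvd_of_le inf_le_right
    have hK8 : Nat.card K ≤ 8 := Nat.le_of_dvd (by norm_num)
      (by simpa using Nat.dvd_gcd hK1 hK2)
    let f : Fin 23 → K := fun i => ⟨MulAut.conj ((q : P) ^ (i : ℕ)) (pv w),
      Subgroup.mem_inf.2 ⟨mul_mem (mul_mem (pow_mem q.2 _) hs) (inv_mem (pow_mem q.2 _)),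
        F.Vsub_normal.conj_mem _ (pv_mem w) _⟩⟩
    have hf : Function.Injective f := by
      have key : ∀ i j : Fin 23, (i : ℕ) < j → f i ≠ f j := by
        intro i j hij he
        have e : MulAut.conj ((q : P) ^ (i : ℕ)) (pv w) =
            MulAut.conj ((q : P) ^ (i : ℕ)) (MulAut.conj ((q : P) ^ ((j : ℕ) - i)) (pv w)) := by
          rw [← MulAut.mul_apply, ← map_mul, ← pow_add, Nat.add_sub_cancel' hij.le]
          exact congrArg Subtype.val he
        have hcm : Commute ((q : P) ^ ((j : ℕ) - i)) (pv w) := by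
          have e1 := (MulAut.conj ((q : P) ^ (i : ℕ))).injective e
          rw [MulAut.conj_apply, eq_mul_inv_iff_mul_eq] at e1
          exact e1.symm
        have ho : orderOf ((q : P) ^ ((j : ℕ) - i)) = 23 := by
          rw [Nat.Coprime.orderOf_pow, hqP]
          rw [hqP]
          exact (Nat.Prime.coprime_iff_not_dvd (by norm_num)).2
            (Nat.not_dvd_of_pos_of_lt (by omega) (by omega))
        exact hw0 (F.commute_pv ho hw hcm)
      intro i j he
      rcases lt_trichotomy (i : ℕ) (j : ℕ) with h' | h' | h'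
      · exact absurd he (key i j h')
      · exact Fin.ext h'
      · exact absurd he.symm (key j i h')
    have := Nat.card_le_card_of_injective f hf
    rw [Nat.card_fin] at this
    omega
  have hinj : Function.Injective (F.proj.comp S.subtype) := by
    rw [injective_iff_map_eq_one]
    exact fun s hs => Subtype.ext (hSV s s.2 hs)
  have hproj : ∀ p, F.proj (β p) = F.proj p := by
    intro p
    have hz : zOut < 2048 := by norm_num [zOut]
    refine F.gen_induction (Q := fun p => F.proj (β p) = F.proj p) (by rw [map_one])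
      (fun a ha => by rw [map_mul, map_mul, hx, map_mul, ha, F.proj_V hz, mul_one, map_mul])
      (fun a ha => by rw [map_mul, map_mul, hy, ha, map_mul])
      (fun a i ha => ?_) p
    rw [map_mul, map_mul, ha, F.pe_eq, hV _ ?_, map_mul]
    exact lt_of_lt_of_eq (Nat.pow_lt_pow_right (by norm_num) i.isLt) (by norm_num)
  set L := S.map F.proj
  have hLc : Nat.card L = 6072 := by
    rw [← hS]
    refine (Nat.card_congr (Equiv.ofBijective (fun s : S => (⟨F.proj s, s, s.2, rfl⟩ : L))
      ⟨fun a b e => hinj (congrArg Subtype.val e), fun ⟨_, s, hs, rfl⟩ => ⟨⟨s, hs⟩, rfl⟩⟩)).symm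
  have hLM : L ≤ Msub := by
    rintro _ ⟨s, -, rfl⟩
    exact (F.decomp s).1
  have hm := F.self_norm hLM hLc (m := (F.proj h)⁻¹) (inv_mem (F.decomp h).1) (by
    rintro _ ⟨s, hs, rfl⟩
    exact ⟨_, hh s hs, by rw [map_mul, map_mul, map_inv, hproj, inv_inv]⟩)
  obtain ⟨s, hs, hse⟩ := hm
  obtain ⟨c, hc, hce⟩ := F.mem_Vsub.1 (F.proj_eq_one (p := h * s) (by
    rw [map_mul, hse, mul_inv_cancel]))
  have hci : (pv c)⁻¹ = pv c :=
    inv_eq_of_mul_eq_one_right (by rw [F.pv_mul hc hc, Nat.xor_self, pv_zero])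
  have hfix : ∀ a ∈ S, pv c * β a * pv c = a := by
    intro a ha
    have hm' : pv c * β a * pv c ∈ S := by
      nth_rewrite 1 [← hci]
      rw [hce, show (h * s)⁻¹ * β a * (h * s) = s⁻¹ * (h⁻¹ * β a * h) * s by group]
      exact mul_mem (mul_mem (inv_mem hs) (hh a ha)) hs
    have := hinj (a₁ := ⟨_, hm'⟩) (a₂ := ⟨a, ha⟩) (by
      show F.proj (pv c * β a * pv c) = F.proj a
      rw [map_mul, map_mul, F.proj_V hc, hproj, one_mul, mul_one])
    exact congrArg Subtype.val this
  have hn := List.all_eq_true.1 notrans_ok c (List.mem_range.2 hc)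
  have hst := stab_ok
  simp only [okStab, Bool.and_eq_true] at hst
  have key : ∀ l v, v < 2048 → mword l * pv v ∈ S →
      mm (mm (tr c) (mm (twCode l) (tr v))) (tr c) = cd (mword l * pv v) := by
    intro l v hv hl
    have e1 : cd (β (mword l * pv v)) = mm (twCode l) (tr v) := by
      rw [map_mul, hV v hv, F.cd_twist (F.code_cd _) hv, F.cd_beta_mword hx hy]
    conv_rhs => rw [← hfix _ hl]
    rw [cd_eq (((code_pv hc).mul (F.code_cd _)).mul (code_pv hc)), mm_canon, e1]
  have h1 := key wA vA (by norm_num [vA]) hA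
  have h2 := key wB vB (by norm_num [vB]) hB
  rw [Nat.eq_of_beq_eq_true hst.1.2, ← stA, F.cd_stA] at h1
  rw [Nat.eq_of_beq_eq_true hst.2, ← stB, F.cd_stB] at h2
  rw [h1, h2, Nat.beq_refl, Nat.beq_refl] at hn
  exact Bool.noConfusion hn

end Cfsg.Agent.Lib.J4Out38
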