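import Cfsg.Agent.Lib.J4Out38.Normaliser

/-!
# The automorphisms fixing the translations: two classes up to inner ones
-/

set_option autoImplicit false
set_option maxRecDepth 100000

namespace Cfsg.Agent.Lib.J4Out38

open Cfsg.Agent.Lib.J4Dce59

/-- A translation part giving the outer class. -/
def zOut : ℕ := 4

/-- The vectors fixed by the second generator. -/
def fixY : List ℕ := (List.range 2048).filter fun c => Nat.beq (ap c MY) c

/-- The seven relators at the twisted generators. -/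
def okRels (a : ℕ) : Bool :=
  let x := mm MX (tr a)
  let y := MY
  let Y := mm MY MY
  let w := mm (mm y x) y
  let wi := mm Y (mm x Y)
  Nat.beq (mm x x) one &&
    Nat.beq (mpow (mm x y) 23) one &&
    Nat.beq (mpow (mm (mm (mm x Y) x) y) 12) one &&
    Nat.beq (mpow (mm (mm (mm x wi) x) w) 5) one &&
    Nat.beq (mpow (mm (mm x y) (mpow (mm (mm (mm x y) x) Y) 3)) 4) one &&
    Nat.beq (mm (mpow (mm (mm (mm (mm (mm x y) x) y) x) Y) 3)
      (mpow (mm (mm (mm (mm (mm x y) x) Y) x) Y) 3)) one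

def okCube : Bool :=
  (List.range 2048).all fun b => !Nat.beq (mpow (mm MY (tr b)) 3) one ||
    Nat.beq ((ap (ap b MY) MY ^^^ b) ^^^ ap (ap (ap b MY) MY ^^^ b) MY) b

def okClass : Bool :=
  let cb := fixY.map fun c => c ^^^ ap c MX
  (List.range 2048).all fun a =>
    !okRels a || cb.any (fun d => Nat.beq d a || Nat.beq d (a ^^^ zOut))

theorem cube_ok : okCube = true := by decide +kernel

theorem class_ok : okClass = true := by decide +kernel

theorem code_px : cd (px : P) = MX := by rw [cd_eq code_x]; decide +kernel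

theorem code_py : cd (py : P) = MY := by rw [cd_eq code_y]; decide +kernel

theorem PFacts.cd_twist (_F : PFacts) {p : P} {A : ℕ} (hp : Code p A) {v : ℕ} (hv : v < 2048) :
    cd (p * pv v) = mm A (tr v) := by
  rw [cd_eq (hp.mul (code_pv hv)), mm_canon]

theorem PFacts.cd_pow (F : PFacts) (p : P) : ∀ n, cd (p ^ n) = mpow (cd p) n
  | 0 => by rw [pow_zero]; exact cd_one
  | n + 1 => by rw [pow_succ, F.cd_mul, F.cd_pow p n]; rfl

theorem PFacts.conj_twist (F : PFacts) (p : P) {a c : ℕ} (ha : a < 2048) (hc : c < 2048) :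
    MulAut.conj (pv c) (p * pv a) = p * pv (act p c ^^^ a ^^^ c) := by
  have hi : (pv c)⁻¹ = pv c :=
    inv_eq_of_mul_eq_one_right (by rw [F.pv_mul hc hc, Nat.xor_self, pv_zero])
  have h1 := F.act_lt' p hc
  rw [MulAut.conj_apply, hi, ← F.pv_mul hc (bits_lt h1 _ ha), ← F.pv_mul ha h1, ← mul_assoc,
    F.pv_mul_right p hc]
  simp only [mul_assoc]

/-- An automorphism normalising the translations is, up to an inner one, trivial or of one outer type. -/
theorem PFacts.two_classes (F : PFacts) {θ : P ≃* P} (hθ : ∀ p ∈ Vsub, θ p ∈ Vsub) :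
    ∃ c : P, (∀ v, v < 2048 → MulAut.conj c (θ (pv v)) = pv v) ∧ MulAut.conj c (θ py) = py ∧
      (MulAut.conj c (θ px) = px ∨ MulAut.conj c (θ px) = px * pv zOut) := by
  obtain ⟨c0, hV, ⟨a0, ha0, hx⟩, ⟨b, hb, hy⟩⟩ := F.normaliser hθ
  have hpvfix : ∀ {e v : ℕ}, e < 2048 → v < 2048 → MulAut.conj (pv e) (pv v) = pv v :=
    fun {e v} he hv => by
      rw [MulAut.conj_apply, F.pv_mul hv he, Nat.xor_comm e v, ← F.pv_mul he hv, mul_inv_cancel_right]
  have comp : ∀ e q, MulAut.conj (pv e * c0) (θ q) = MulAut.conj (pv e) (MulAut.conj c0 (θ q)) :=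
    fun e q => by rw [map_mul]; rfl
  -- the second generator
  have hy3 : (py * pv b) ^ 3 = 1 := by
    rw [← hy, ← map_pow, ← map_pow, hRel_P.m24.2.1, map_one, map_one]
  have hcd := F.cd_pow (py * pv b) 3
  rw [hy3, cd_one, F.cd_twist code_y hb] at hcd
  have hcb := List.all_eq_true.1 cube_ok b (List.mem_range.2 hb)
  rw [← hcd, Nat.beq_refl, Bool.not_true, Bool.false_or] at hcb
  set d := ap (ap b MY) MY ^^^ b
  have hd : d < 2048 :=
    bits_lt (gen_check (gen_check hb).2.1.1).2.1.1 _ hb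
  have hy1 : MulAut.conj (pv d * c0) (θ py) = py := by
    rw [comp, hy, F.conj_twist _ hb hd, act_eq code_y (by omega)]
    have he : d ^^^ ap d MY = b := Nat.eq_of_beq_eq_true hcb
    rw [show ap d MY ^^^ b ^^^ d = 0 by
      rw [Nat.xor_comm _ d, ← Nat.xor_assoc, he, Nat.xor_self], pv_zero, mul_one]
  -- the first generator
  set a := ap d MX ^^^ a0 ^^^ d
  have ha : a < 2048 := bits_lt (bits_lt (gen_check hd).1.1 _ ha0) _ hd
  have hx1 : MulAut.conj (pv d * c0) (θ px) = px * pv a := by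
    rw [comp, hx, F.conj_twist _ ha0 hd, act_eq code_x (by omega)]
  set f : P →* P := ((θ.trans (MulAut.conj (pv d * c0))) : P ≃* P).toMonoidHom
  have hfx : f px = px * pv a := hx1
  have hfy : f py = py := hy1
  have hyi : (py : P)⁻¹ = py * py :=
    inv_eq_of_mul_eq_one_right (by rw [← hRel_P.m24.2.1, pow_succ, pow_two, mul_assoc])
  have hxx : (px * pv a) * (px * pv a) = 1 := by
    rw [← hfx, ← map_mul, ← pow_two, hRel_P.m24.1, map_one]
  have hcX := F.cd_twist code_x ha
  generalize px * pv a = X at hfx hxx hcX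
  have hxi : X⁻¹ = X := inv_eq_of_mul_eq_one_right hxx
  obtain ⟨h1, -, h3, h4, h5, h6, h7⟩ := hRel_P.m24
  have k1 := congrArg cd (congrArg f h1)
  have k3 := congrArg cd (congrArg f h3)
  have k4 := congrArg cd (congrArg f h4)
  have k5 := congrArg cd (congrArg f h5)
  have k6 := congrArg cd (congrArg f h6)
  have k7 := congrArg cd (congrArg f h7)
  simp only [map_mul, map_inv, map_pow, map_one, mul_inv_rev, hfx, hfy] at k1 k3 k4 k5 k6 k7
  simp only [hxi, hyi] at k4 k5 k6 k7
  simp only [F.cd_mul, F.cd_pow, cd_one, hcX, code_py, pow_two] at k1 k3 k4 k5 k6 k7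
  have hok : okRels a = true := by
    simp only [okRels, Bool.and_eq_true]
    refine ⟨⟨⟨⟨⟨?_, ?_⟩, ?_⟩, ?_⟩, ?_⟩, ?_⟩
    · exact k1 ▸ Nat.beq_refl _
    · exact k3 ▸ Nat.beq_refl _
    · exact k4 ▸ Nat.beq_refl _
    · exact k5 ▸ Nat.beq_refl _
    · exact k6 ▸ Nat.beq_refl _
    · exact k7 ▸ Nat.beq_refl _
  have hcl := List.all_eq_true.1 class_ok a (List.mem_range.2 ha)
  rw [hok, Bool.not_true, Bool.false_or, List.any_eq_true] at hcl
  obtain ⟨_, hmem, hcl⟩ := hcl
  obtain ⟨e, he, rfl⟩ := List.mem_map.1 hmem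
  simp only [fixY, List.mem_filter, List.mem_range] at he
  obtain ⟨he, heY⟩ := he
  have hey : MulAut.conj (pv e * pv d * c0) (θ py) = py := by
    rw [mul_assoc, map_mul, MulAut.mul_apply, hy1]
    have := F.conj_twist py (a := 0) (by norm_num) he
    rw [pv_zero, mul_one, act_eq code_y (by omega), Nat.eq_of_beq_eq_true heY, Nat.xor_zero,
      Nat.xor_self, pv_zero, mul_one] at this
    exact this
  have hex : MulAut.conj (pv e * pv d * c0) (θ px) = px * pv (ap e MX ^^^ a ^^^ e) := by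
    rw [mul_assoc, map_mul, MulAut.mul_apply, hx1, F.conj_twist _ ha he, act_eq code_x (by omega)]
  refine ⟨_, fun v hv => ?_, hey, ?_⟩
  · rw [mul_assoc, map_mul, MulAut.mul_apply, map_mul, MulAut.mul_apply, hV v hv, hpvfix hd hv,
      hpvfix he hv]
  · have h : ap e MX ^^^ a ^^^ e = (e ^^^ ap e MX) ^^^ a := by
      rw [Nat.xor_comm _ e, Nat.xor_assoc]
    rw [Bool.or_eq_true] at hcl
    rcases hcl with hcl | hcl
    · left
      rw [hex, h, Nat.eq_of_beq_eq_true hcl, Nat.xor_self, pv_zero, mul_one]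
    · right
      rw [hex, h, Nat.eq_of_beq_eq_true hcl, Nat.xor_comm a zOut, Nat.xor_assoc, Nat.xor_self,
        Nat.xor_zero]

end Cfsg.Agent.Lib.J4Out38
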