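import Cfsg.Agent.Lib.J4Dce59.Chain
import Cfsg.Agent.Lib.J4Dce59.Rules
import Cfsg.Agent.Lib.J4Dce59.Sound
import Cfsg.Agent.Lib.J4Out38.K0Data

/-!
# The subgroup of the complement centralised by `t`
-/

set_option autoImplicit false
set_option maxRecDepth 100000

namespace Cfsg.Agent.Lib.J4Out38

open Cfsg.Agent.Lib.J4Dce59

/-- The second generator. -/
def kk : P := mword kWord

theorem wordP_kWord : wordP kWord = kk := by
  simp [wordP, kk, mword, kWord, genP]; rfl

/-- The code of the second generator. -/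
def kc : ℕ := mcode kWord

theorem PFacts.cd_kk (F : PFacts) : cd kk = kc := F.cd_mword _

/-- The group generated by `px` and `kk`. -/
def K0 : Subgroup P := Subgroup.closure {px, kk}

theorem K0_le : K0 ≤ Msub := by
  rw [K0, Subgroup.closure_le]
  rintro z (rfl | rfl)
  · exact Subgroup.subset_closure (by simp)
  · exact mword_mem _

/-- The listed codes. -/
def k0c (n : ℕ) : ℕ := k0Codes.getD n one

def okTable : Bool :=
  Nat.beq (k0c 0) one && (List.range k0Codes.length).all fun n =>
    Nat.beq n 0 || (Nat.blt (k0Par.getD n 0 / 2) n &&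
      Nat.beq (mm (k0c (k0Par.getD n 0 / 2)) (cond (Nat.beq (k0Par.getD n 0 % 2) 0) MX kc)) (k0c n))

def okChain : Bool :=
  chainOK k0c k0Levels && Nat.beq (chainProd k0Levels) 64512 &&
    k0Levels.all fun p => p.2.all fun n => Nat.blt n k0Codes.length

def okSeven : Bool :=
  Nat.beq k0Orbit.length 7 && !k0Orbit.contains 7 && k0Orbit.all (fun o =>
    Nat.blt o 2048 && !Nat.beq o 0 && k0Orbit.contains (ap o MX) && k0Orbit.contains (ap o kc)) &&
  k0Sep.all (fun n => Nat.blt n k0Codes.length) &&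
  (List.range 2048).all fun v => Nat.beq v 0 || k0Orbit.contains v ||
    Nat.ble 8 (k0Sep.map fun n => ap v (k0c n)).dedup.length

def okNoFix : Bool :=
  (List.range 2048).all fun v => Nat.beq v 0 || !(Nat.beq (ap v MX) v && Nat.beq (ap v kc) v)

/-- The parity of the bitwise product. -/
def par : ℕ → ℕ → ℕ → ℕ
  | 0, _, _ => 0
  | k + 1, f, v => (f % 2 * (v % 2)) ^^^ par k (f / 2) (v / 2)

def okNoDual : Bool :=
  (List.range 2048).all fun f => Nat.beq f 0 || (List.range 11).any fun i =>
    !(Nat.beq (par 11 f (ap (2 ^ i) MX)) (par 11 f (2 ^ i)) &&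
      Nat.beq (par 11 f (ap (2 ^ i) kc)) (par 11 f (2 ^ i)))

def okRigid : Bool :=
  (k0Pairs.all fun p => Nat.blt p.1 k0Codes.length && Nat.blt p.2 k0Codes.length) &&
  (k0Span.all fun l => l.all fun n => Nat.blt n k0Codes.length) &&
  ((List.range 11).all fun k =>
    Nat.beq ((k0Span.getD k []).foldr (fun n a => ap 7 (k0c n) ^^^ a) 0) (2 ^ k)) &&
  (List.range 2048).all fun u => Nat.beq u 7 || k0Pairs.any fun p =>
    !((Nat.beq (ap 7 (k0c p.1)) (ap 7 (k0c p.2))) == (Nat.beq (ap u (k0c p.1)) (ap u (k0c p.2))))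

theorem table_ok : okTable = true := by decide +kernel

theorem k0chain_ok : okChain = true := by decide +kernel

theorem seven_ok : okSeven = true := by decide +kernel

theorem nofix_ok : okNoFix = true := by decide +kernel

theorem nodual_ok : okNoDual = true := by decide +kernel

theorem rigid_ok : okRigid = true := by decide +kernel

theorem PFacts.k0_elem (F : PFacts) :
    ∀ n, n < k0Codes.length → ∃ p ∈ K0, cd p = k0c n := by
  have h := table_ok
  simp only [okTable, Bool.and_eq_true, List.all_eq_true, Bool.or_eq_true] at h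
  intro n
  induction n using Nat.strong_induction_on with
  | _ n ih =>
    intro hn
    rcases h.2 n (List.mem_range.2 hn) with h0 | ⟨hlt, he⟩
    · exact ⟨1, one_mem _, by rw [Nat.eq_of_beq_eq_true h0, cd_one, Nat.eq_of_beq_eq_true h.1]⟩
    · obtain ⟨p, hp, hpc⟩ := ih _ (Nat.blt_eq.mp hlt) ((Nat.blt_eq.mp hlt).trans hn)
      rcases hb : Nat.beq (k0Par.getD n 0 % 2) 0 with _ | _
      · rw [hb, cond_false] at he
        exact ⟨p * kk, mul_mem hp (Subgroup.subset_closure (by simp)),
          by rw [F.cd_mul, hpc, F.cd_kk, Nat.eq_of_beq_eq_true he]⟩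
      · rw [hb, cond_true] at he
        have hx : cd (px : P) = MX := by rw [cd_eq code_x]; decide +kernel
        exact ⟨p * px, mul_mem hp (Subgroup.subset_closure (by simp)),
          by rw [F.cd_mul, hpc, hx, Nat.eq_of_beq_eq_true he]⟩

theorem PFacts.card_K0_ge (F : PFacts) : 64512 ≤ Nat.card K0 := by
  have := F.finite
  have h := k0chain_ok
  simp only [okChain, Bool.and_eq_true, List.all_eq_true, Nat.blt_eq] at h
  obtain ⟨⟨h1, h2⟩, h3⟩ := h
  rw [← Nat.eq_of_beq_eq_true h2]
  refine (chain_le k0c k0Levels (K0.map rho) h1 fun p hp n hn => ?_).trans ?_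
  · obtain ⟨q, hq, hc⟩ := F.k0_elem n (h3 p hp n hn)
    exact ⟨rho q, ⟨q, hq, rfl⟩, hc ▸ F.code_cd q⟩
  · exact Nat.card_le_card_of_surjective (fun s : K0 => (⟨rho s, s, s.2, rfl⟩ : K0.map rho))
      fun ⟨_, q, hq, rfl⟩ => ⟨⟨q, hq⟩, rfl⟩

theorem PFacts.K0_induction (F : PFacts) {Q : P → Prop} (h1 : Q 1)
    (hx : ∀ p, Q p → Q (p * px)) (hk : ∀ p, Q p → Q (p * kk)) {p : P} (hp : p ∈ K0) : Q p := by
  have := F.finite
  have hp' : p ∈ Submonoid.closure ({px, kk} : Set P) := by
    rw [← Subgroup.closure_toSubmonoid_of_finite]; exact hp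
  induction hp' using Submonoid.closure_induction_right with
  | one => exact h1
  | mul_right a ha y hy ih =>
    have hmem : a ∈ K0 := by
      rw [K0, ← Subgroup.mem_toSubmonoid, Subgroup.closure_toSubmonoid_of_finite]; exact ha
    rcases hy with rfl | rfl
    · exact hx _ (ih hmem)
    · exact hk _ (ih hmem)

theorem PFacts.orbit_seven (F : PFacts) {o : ℕ} (ho : o ∈ k0Orbit) {k : P} (hk : k ∈ K0) :
    act k o ∈ k0Orbit := by
  have h := seven_ok
  simp only [okSeven, Bool.and_eq_true, List.all_eq_true, List.contains_iff_mem, Nat.blt_eq] at h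
  have hlt : ∀ q ∈ k0Orbit, q < 2048 := fun q hq => (h.1.1.2 q hq).1.1.1
  refine F.K0_induction (Q := fun p => act p o ∈ k0Orbit) ?_ (fun p hp => ?_) (fun p hp => ?_) hk
  · rw [act_one (by have := hlt o ho; omega)]; exact ho
  · rw [act_mul _ _ (by have := hlt o ho; omega), act_eq code_x (by have := hlt _ hp; omega)]
    exact (h.1.1.2 _ hp).1.2
  · rw [act_mul _ _ (by have := hlt o ho; omega), F.act_cd kk (by have := hlt _ hp; omega), F.cd_kk]
    exact (h.1.1.2 _ hp).2

/-- An element of the complement normalising `K0` permutes the orbit of length seven. -/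
theorem PFacts.norm_seven (F : PFacts) {m : P} (hn : ∀ k ∈ K0, m * k * m⁻¹ ∈ K0) {o : ℕ}
    (ho : o ∈ k0Orbit) : act m o ∈ k0Orbit := by
  classical
  have h := seven_ok
  simp only [okSeven, Bool.and_eq_true, List.all_eq_true, List.contains_iff_mem, Nat.blt_eq,
    Bool.or_eq_true, Bool.not_eq_true'] at h
  obtain ⟨⟨⟨⟨hlen, -⟩, horb⟩, hsep⟩, hall⟩ := h
  have ho2 := (horb o ho).1.1.1
  have hu := F.act_lt' m ho2
  rcases hall _ (List.mem_range.2 hu) with (h0 | h0) | h8
  · exfalso
    have := act_cancel m (r := o) (by omega)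
    rw [Nat.eq_of_beq_eq_true h0, act_zero F] at this
    exact Nat.ne_of_beq_eq_false (horb o ho).1.1.2 this.symm
  · exact h0
  · exfalso
    have hsub : (k0Sep.map fun n => ap (act m o) (k0c n)).dedup.toFinset ⊆
        k0Orbit.toFinset.image (act m) := by
      intro w hw
      rw [List.mem_toFinset, List.mem_dedup, List.mem_map] at hw
      obtain ⟨n, hn', rfl⟩ := hw
      obtain ⟨p, hp, hc⟩ := F.k0_elem n (hsep n hn')
      refine Finset.mem_image.2 ⟨act (m * p * m⁻¹) o, List.mem_toFinset.2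
        (F.orbit_seven ho (hn p hp)), ?_⟩
      rw [← hc, ← F.act_cd p (by omega), ← act_mul _ _ (by omega), inv_mul_cancel_right,
        act_mul m p (by omega)]
    have h1 := (Finset.card_le_card hsub).trans Finset.card_image_le
    rw [List.toFinset_card_of_nodup (List.nodup_dedup _)] at h1
    have h2 := List.toFinset_card_le k0Orbit
    have h3 := Nat.le_of_ble_eq_true h8
    have h4 : k0Orbit.length = 7 := Nat.eq_of_beq_eq_true hlen
    omega

/-- Only the trivial translation is fixed. -/
theorem PFacts.fix_vec (_F : PFacts) {v : ℕ} (hv : v < 2048) (hx : act px v = v) (hk : act kk v = v) :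
    v = 0 := by
  have h := List.all_eq_true.1 nofix_ok v (List.mem_range.2 hv)
  rw [act_eq code_x (by omega)] at hx
  rw [_F.act_cd kk (by omega), _F.cd_kk] at hk
  rw [hx, hk, Nat.beq_refl, Bool.and_self, Bool.not_true, Bool.or_false] at h
  exact Nat.eq_of_beq_eq_true h

/-- The centraliser of `K0` in the model is trivial. -/
theorem PFacts.centraliser_K0 (F : PFacts) {p : P} (hx : Commute p px) (hk : Commute p kk) :
    p = 1 := by
  obtain ⟨hm, hv, hp⟩ := F.decomp p
  have hxM : (px : P) ∈ Msub := Subgroup.subset_closure (by simp)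
  have hxm : Commute (F.proj p) px := by
    have h1 := hx.map F.proj; rwa [F.proj_M hxM] at h1
  have hkm : Commute (F.proj p) kk := by
    have h1 := hk.map F.proj; rwa [F.proj_M (show kk ∈ Msub from mword_mem _)] at h1
  have hcomm : ∀ k ∈ K0, Commute (F.proj p) k := fun k hk' =>
    F.K0_induction (Q := fun q => Commute (F.proj p) q) (Commute.one_right _)
      (fun q hq => hq.mul_right hxm) (fun q hq => hq.mul_right hkm) hk'
  set m := F.proj p with hmdef
  have hnorm : ∀ k ∈ K0, m * k * m⁻¹ ∈ K0 := fun k hk' => by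
    rwa [(hcomm k hk').eq, mul_inv_cancel_right]
  have hr := rigid_ok
  simp only [okRigid, Bool.and_eq_true, List.all_eq_true, Nat.blt_eq, Bool.or_eq_true,
    List.any_eq_true, Bool.not_eq_true'] at hr
  obtain ⟨⟨⟨hpairs, hspanlt⟩, hspan⟩, hall⟩ := hr
  have him : ∀ k ∈ K0, ∀ v, v < 2048 → act k (act m v) = act m (act k v) := fun k hk' v hv => by
    rw [← act_mul _ _ (by omega), (hcomm k hk').eq, act_mul _ _ (by omega)]
  have hu := F.act_lt' m (show 7 < 2048 by norm_num)
  have hu7 : act m 7 = 7 := by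
    rcases hall _ (List.mem_range.2 hu) with h7 | ⟨q, hq, hne⟩
    · exact Nat.eq_of_beq_eq_true h7
    · exfalso
      obtain ⟨a, ha, hac⟩ := F.k0_elem _ (hpairs q hq).1
      obtain ⟨b, hb, hbc⟩ := F.k0_elem _ (hpairs q hq).2
      rw [← hac, ← hbc, ← F.act_cd a (by norm_num), ← F.act_cd b (by norm_num),
        ← F.act_cd a (by omega), ← F.act_cd b (by omega), him a ha 7 (by norm_num),
        him b hb 7 (by norm_num)] at hne
      have e : act m (act a 7) = act m (act b 7) ↔ act a 7 = act b 7 := ⟨fun e => by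
        have := congrArg (act m⁻¹) e
        rwa [act_cancel m (act_lt a (by norm_num)), act_cancel m (act_lt b (by norm_num))] at this,
        fun e => by rw [e]⟩
      have e2 : Nat.beq (act m (act a 7)) (act m (act b 7)) = Nat.beq (act a 7) (act b 7) := by
        rw [Bool.eq_iff_iff]
        exact ⟨fun h => by rw [e.1 (Nat.eq_of_beq_eq_true h)]; exact Nat.beq_refl _,
          fun h => by rw [Nat.eq_of_beq_eq_true h]; exact Nat.beq_refl _⟩
      rw [e2, beq_self_eq_true] at hne
      exact Bool.noConfusion hne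
  have hfix : ∀ i, i < 11 → act m (2 ^ i) = 2 ^ i := by
    intro i hi
    rw [← Nat.eq_of_beq_eq_true (hspan i (List.mem_range.2 hi))]
    have hl : ∀ n ∈ k0Span.getD i [], n < k0Codes.length := fun n hn => by
      rcases Nat.lt_or_ge i k0Span.length with h' | h'
      · rw [List.getD_eq_getElem _ _ h'] at hn
        exact hspanlt _ (List.getElem_mem h') n hn
      · rw [List.getD_eq_default _ _ h'] at hn
        exact absurd hn List.not_mem_nil
    generalize k0Span.getD i [] = l at hl
    suffices H : l.foldr (fun n a => ap 7 (k0c n) ^^^ a) 0 < 2048 ∧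
        act m (l.foldr (fun n a => ap 7 (k0c n) ^^^ a) 0) = l.foldr (fun n a => ap 7 (k0c n) ^^^ a) 0 from H.2
    induction l with
    | nil => exact ⟨by norm_num, act_zero F m⟩
    | cons n l ih =>
      obtain ⟨h1, h2⟩ := ih fun q hq => hl q (List.mem_cons_of_mem _ hq)
      obtain ⟨a, ha, hac⟩ := F.k0_elem n (hl n List.mem_cons_self)
      have h3 := F.act_lt' a (show 7 < 2048 by norm_num)
      rw [F.act_cd a (by norm_num), hac] at h3
      refine ⟨bits_lt h3 _ h1, ?_⟩
      rw [List.foldr_cons, F.act_xor m (by omega) (by omega), h2]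
      congr 1
      rw [← hac, ← F.act_cd a (by norm_num), ← him a ha 7 (by norm_num), hu7]
  have hm1 : m = 1 := F.M_faithful hm hfix
  have hp1 : p = pv (vpart p) := by
    rw [show mpart p = 1 from hm1, one_mul] at hp; exact hp
  have hfixv : ∀ q : P, Commute p q → act q (vpart p) = vpart p := fun q hq => by
    generalize vpart p = w at hp1 hv ⊢
    have h1 := F.pv_mul_right q hv
    subst hp1
    rw [hq.eq] at h1
    exact (pv_inj hv (F.act_lt' q hv) (mul_left_cancel h1)).symm
  rw [hp1, F.fix_vec hv (hfixv px hx) (hfixv kk hk), pv_zero]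

theorem par_xor : ∀ k f a b, par k f (a ^^^ b) = par k f a ^^^ par k f b
  | 0, _, _, _ => (Nat.xor_self 0).symm
  | k + 1, f, a, b => by
    have h1 : (a ^^^ b) % 2 = a % 2 ^^^ b % 2 := by
      simpa using Nat.xor_mod_two_pow (a := a) (b := b) (n := 1)
    have h2 : (a ^^^ b) / 2 = a / 2 ^^^ b / 2 := by
      simpa using Nat.xor_div_two_pow (a := a) (b := b) (n := 1)
    rw [par, par, par, h1, h2, par_xor k]
    have h3 : f % 2 * (a % 2 ^^^ b % 2) = f % 2 * (a % 2) ^^^ f % 2 * (b % 2) := by
      rcases Nat.mod_two_eq_zero_or_one f with h | h <;> simp [h]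
    rw [h3]
    generalize f % 2 * (a % 2) = x, f % 2 * (b % 2) = y
    generalize par k (f / 2) (a / 2) = z, par k (f / 2) (b / 2) = w
    rw [Nat.xor_assoc, Nat.xor_assoc]
    congr 1
    rw [← Nat.xor_assoc, Nat.xor_comm y z, Nat.xor_assoc]

theorem par_zero : ∀ k f, par k f 0 = 0
  | 0, _ => rfl
  | k + 1, f => by simp [par, par_zero k]

theorem par_zero_left : ∀ k v, par k 0 v = 0
  | 0, _ => rfl
  | k + 1, v => by simp [par, par_zero_left k]

theorem par_lt : ∀ k f v, par k f v < 2
  | 0, _, _ => by norm_num [par]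
  | k + 1, f, v => by
    refine Nat.xor_lt_two_pow (n := 1) ?_ (par_lt k _ _)
    rcases Nat.mod_two_eq_zero_or_one f with h | h <;> rw [h] <;> omega

/-- A subgroup of index two of the vectors is given by a functional. -/
theorem index_two_functional {H : ℕ → Prop} (h0 : H 0)
    (hadd : ∀ a b, a < 2048 → b < 2048 → (H (a ^^^ b) ↔ (H a ↔ H b))) :
    ∃ f, f < 2048 ∧ ∀ v, v < 2048 → (H v ↔ par 11 f v = 0) := by
  classical
  have hb : ∀ g : Fin 11 → Bool, ∃ f, f < 2048 ∧ ∀ i : Fin 11,
      (par 11 f (2 ^ (i : ℕ)) = 0 ↔ g i = false) := by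
    intro g
    refine ⟨(Nat.ofBits g), Nat.ofBits_lt_two_pow g, fun i => ?_⟩
    have h : ∀ f, f < 2048 → ∀ i, i < 11 → (par 11 f (2 ^ i) = 0 ↔ Nat.testBit f i = false) := by
      decide +kernel
    rw [h _ (Nat.ofBits_lt_two_pow g) i i.2, Nat.testBit_ofBits_lt g i i.2]
  obtain ⟨f, hf, hf2⟩ := hb fun i => decide (¬ H (2 ^ (i : ℕ)))
  refine ⟨f, hf, fun v => ?_⟩
  induction v using Nat.strong_induction_on with
  | _ v ih =>
    intro hv
    have hs := List.all_eq_true.1 split_all v (List.mem_range.2 hv)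
    rw [Bool.or_eq_true, List.any_eq_true] at hs
    rcases hs with hs | ⟨i, hi, hlt⟩
    · rw [Nat.eq_of_beq_eq_true hs]
      exact iff_of_true h0 (par_zero 11 f)
    · have hi' := List.mem_range.1 hi
      have hlt' := Nat.blt_eq.mp hlt
      have h2 : 2 ^ i < 2048 := lt_of_lt_of_eq (Nat.pow_lt_pow_right (by norm_num) hi') (by norm_num)
      have he : v = (v ^^^ 2 ^ i) ^^^ 2 ^ i := by rw [Nat.xor_assoc, Nat.xor_self, Nat.xor_zero]
      have e2 : H (2 ^ i) ↔ par 11 f (2 ^ i) = 0 := by
        have := hf2 ⟨i, hi'⟩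
        simp only [decide_eq_false_iff_not, not_not] at this
        exact this.symm
      have hh : H v ↔ (H (v ^^^ 2 ^ i) ↔ H (2 ^ i)) := by
        rw [← hadd _ _ (hlt'.trans hv) h2, ← he]
      have hp : par 11 f v = par 11 f (v ^^^ 2 ^ i) ^^^ par 11 f (2 ^ i) := by rw [← par_xor, ← he]
      rw [hh, ih _ hlt' (hlt'.trans hv), e2, hp]
      have := par_lt 11 f (v ^^^ 2 ^ i)
      have := par_lt 11 f (2 ^ i)
      generalize par 11 f (v ^^^ 2 ^ i) = x at *
      generalize par 11 f (2 ^ i) = y at *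
      interval_cases x <;> interval_cases y <;> decide

/-- No hyperplane of vectors is invariant. -/
theorem PFacts.no_hyperplane (F : PFacts) {H : ℕ → Prop} (h0 : H 0)
    (hadd : ∀ a b, a < 2048 → b < 2048 → (H (a ^^^ b) ↔ (H a ↔ H b)))
    (hx : ∀ v, v < 2048 → (H (act px v) ↔ H v)) (hk : ∀ v, v < 2048 → (H (act kk v) ↔ H v)) :
    ∀ v, v < 2048 → H v := by
  obtain ⟨f, hf, hH⟩ := index_two_functional h0 hadd
  intro v hv
  rw [hH v hv]
  have h := List.all_eq_true.1 nodual_ok f (List.mem_range.2 hf)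
  rw [Bool.or_eq_true, List.any_eq_true] at h
  rcases h with h | ⟨i, hi, hne⟩
  · rw [Nat.eq_of_beq_eq_true h]
    exact par_zero_left 11 v
  · exfalso
    have hi' := List.mem_range.1 hi
    have h2 : 2 ^ i < 2048 := lt_of_lt_of_eq (Nat.pow_lt_pow_right (by norm_num) hi') (by norm_num)
    have key : ∀ w, w < 2048 → ∀ u, u < 2048 → (H w ↔ H u) → par 11 f w = par 11 f u := by
      intro w hw u hu e
      rw [hH w hw, hH u hu] at e
      have := par_lt 11 f w; have := par_lt 11 f u
      omega
    have e1 := key _ (F.act_lt' px h2) _ h2 (hx _ h2)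
    have e2 := key _ (F.act_lt' kk h2) _ h2 (hk _ h2)
    rw [act_eq code_x (by omega)] at e1
    rw [F.act_cd kk (by omega), F.cd_kk] at e2
    rw [e1, e2, Nat.beq_refl, Bool.and_self, Bool.not_true] at hne
    exact Bool.noConfusion hne

end Cfsg.Agent.Lib.J4Out38
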