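import Mathlib.GroupTheory.Sylow
import Cfsg.Agent.Lib.J4Out38.NormData

/-!
# Automorphisms of the model which normalise the translations
-/

set_option autoImplicit false
set_option maxRecDepth 100000

namespace Cfsg.Agent.Lib.J4Out38

open Cfsg.Agent.Lib.J4Dce59

/-- The combination of the images of `v` under the powers of `A` picked by the bits of `c`. -/
def comb (A : ℕ) : ℕ → ℕ → ℕ → ℕ
  | 0, _, _ => 0
  | k + 1, c, v => (c % 2 * v) ^^^ comb A k (c / 2) (ap v A)

/-- The image of `v` under a power of `A`. -/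
def itA (A : ℕ) : ℕ → ℕ → ℕ
  | 0, v => v
  | j + 1, v => ap (itA A j v) A

/-- Membership in the orbit of size 276. -/
def inS (v : ℕ) : Bool := Nat.testBit orbSet v

/-- The code of the element of order 23. -/
def gcode : ℕ := mcode [0, 1]

/-- A word for the inverse of the element of order 23. -/
def ginvWord : List ℕ := (List.replicate 22 [0, 1]).flatten

def okOrbit : Bool :=
  (List.range 2048).all fun v =>
    cond (inS v)
      (inS (ap v MX) && inS (ap v MY) && !Nat.beq v 0)
      (Nat.beq v 0 || Nat.beq v w1 ||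
        Nat.blt ((orbRank >>> (8 * ap v (cond (Nat.beq ((orbRank >>> (8 * v)) % 2) 0) MX MY))) % 256 / 2)
          ((orbRank >>> (8 * v)) % 256 / 2) &&
        !Nat.beq (ap v (cond (Nat.beq ((orbRank >>> (8 * v)) % 2) 0) MX MY)) 0)

def okCount : Bool :=
  Nat.beq ((List.range 2048).filter inS).length 276 &&
    Nat.beq ((List.range 2048).filter fun v => !inS v && !Nat.beq v 0).length 1771

def okWitness : Bool :=
  inS v0 && witCoord.all (fun c => inS (comb gcode 11 c v0)) &&
    (List.range 2048).all fun u => !inS u ||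
      (List.range 23).any (fun j => Nat.beq (itA gcode j v0) u) ||
        witCoord.any fun c => !inS (comb gcode 11 c u)

def okBasis : Bool :=
  (List.range 11).all fun k => Nat.beq (comb gcode 11 (basCoord.getD k 0) v0) (2 ^ k)

def okPoly : Bool :=
  Nat.beq (comb gcode 12 minPoly 1) 0 &&
    (List.range 2048).all fun w => Nat.beq w 0 || !Nat.beq (comb (mcode ginvWord) 12 minPoly w) 0

def okNormWords : Bool :=
  Nat.beq (mm gcode (mcode nWord)) (mm (mm (mcode nWord) gcode) gcode) &&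
    Nat.beq (mm gcode (mcode ginvWord)) one && !Nat.beq gcode one

theorem orbit_ok : okOrbit = true := by decide +kernel

theorem count_ok : okCount = true := by decide +kernel

theorem witness_ok : okWitness = true := by decide +kernel

theorem basis_ok : okBasis = true := by decide +kernel

theorem poly_ok : okPoly = true := by decide +kernel

theorem norm_words_ok : okNormWords = true := by decide +kernel

/-- The element of order 23. -/
def gg : P := mword [0, 1]

theorem gg_pow : gg ^ 23 = 1 := by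
  have h : gg = px * py := by simp [gg, mword]; rfl
  rw [h]; exact hRel_P.m24.2.2.1

theorem PFacts.cd_gg (F : PFacts) : cd gg = gcode := F.cd_mword _

theorem PFacts.gg_ne (F : PFacts) : gg ≠ 1 := by
  intro h
  have hw := norm_words_ok
  simp only [okNormWords, Bool.and_eq_true, Bool.not_eq_true'] at hw
  rw [← F.cd_gg, h, cd_one, Nat.beq_refl] at hw
  exact Bool.noConfusion hw.2

theorem PFacts.gg_order (F : PFacts) : orderOf gg = 23 := by
  have := Fact.mk (show Nat.Prime 23 by norm_num)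
  exact orderOf_eq_prime gg_pow F.gg_ne

theorem PFacts.ginv_eq (F : PFacts) : mword ginvWord = gg⁻¹ := by
  have hw := norm_words_ok
  simp only [okNormWords, Bool.and_eq_true] at hw
  refine eq_inv_of_mul_eq_one_right (F.cd_inj ?_)
  rw [F.cd_mul, F.cd_gg, F.cd_mword, cd_one]
  exact Nat.eq_of_beq_eq_true hw.1.2

theorem PFacts.gg_conj (F : PFacts) : ∀ i, (mword nWord ^ i)⁻¹ * gg * mword nWord ^ i = gg ^ 2 ^ i := by
  have hw := norm_words_ok
  simp only [okNormWords, Bool.and_eq_true] at hw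
  have h : gg * mword nWord = mword nWord * gg * gg := F.cd_inj (by
    rw [F.cd_mul, F.cd_mul, F.cd_mul, F.cd_gg, F.cd_mword]; exact Nat.eq_of_beq_eq_true hw.1.1)
  have h1 : (mword nWord)⁻¹ * gg * mword nWord = gg ^ 2 := by
    rw [mul_assoc, h, pow_two]; group
  intro i
  induction i with
  | zero => simp
  | succ i ih =>
    have h2 : ∀ k : ℕ, (mword nWord)⁻¹ * gg ^ k * mword nWord = gg ^ (2 * k) := fun k => by
      rw [pow_mul, ← h1]
      have := conj_pow (i := k) (a := (mword nWord)⁻¹) (b := gg)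
      rw [inv_inv] at this
      exact this.symm
    rw [show 2 ^ (i + 1) = 2 * 2 ^ i by rw [pow_succ, mul_comm], ← h2, ← ih, pow_succ]
    group

theorem PFacts.sylow_zpowers (F : PFacts) {g : P} (hg : orderOf g = 23) :
    ∃ Q : Sylow 23 P, (Q : Subgroup P) = Subgroup.zpowers g := by
  have := Fact.mk (show Nat.Prime 23 by norm_num)
  have := F.finite
  have hp : IsPGroup 23 (Subgroup.zpowers g) :=
    IsPGroup.of_card (n := 1) (by rw [Nat.card_zpowers, hg, pow_one])
  obtain ⟨Q, hQ⟩ := hp.exists_le_sylow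
  refine ⟨Q, (Subgroup.eq_of_le_of_card_ge hQ ?_).symm⟩
  obtain ⟨m, hm⟩ := IsPGroup.iff_card.1 Q.isPGroup'
  rw [Nat.card_zpowers, hg, hm]
  have hd := Subgroup.card_subgroup_dvd_card (Q : Subgroup P)
  rw [hm, F.card] at hd
  rcases Nat.lt_or_ge m 2 with h | h
  · calc 23 ^ m ≤ 23 ^ 1 := Nat.pow_le_pow_right (by norm_num) (by omega)
      _ = 23 := pow_one 23
  · exact absurd ((Nat.pow_dvd_pow 23 h).trans hd) (by norm_num)

theorem PFacts.act_pv_fix (F : PFacts) {v w : ℕ} (hv : v < 2048) (hw : w < 2048) :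
    act (pv w) v = v := by
  obtain ⟨h1, h2⟩ := F.conj_pv (pv w) v hv
  rw [F.pv_mul hw hv, F.pv_mul h1 hw] at h2
  have h := pv_inj (bits_lt hv _ hw) (bits_lt hw _ h1) h2
  rw [Nat.xor_comm v w] at h
  exact (Nat.xor_right_injective h).symm

theorem PFacts.act_proj (F : PFacts) (p : P) {v : ℕ} (hv : v < 2048) :
    act (F.proj p) v = act p v := by
  obtain ⟨-, hw, he⟩ := F.decomp p
  conv_rhs => rw [he]
  rw [act_mul _ _ (by omega), F.act_pv_fix (F.act_lt' _ hv) hw]
  rfl

theorem PFacts.inS_orbit (F : PFacts) {v : ℕ} (hv : v < 2048) (hS : inS v = true) (p : P) :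
    inS (act p v) = true := by
  refine F.gen_induction (Q := fun p => inS (act p v) = true) ?_ ?_ ?_ ?_ p
  · rw [act_one (by omega)]; exact hS
  all_goals
    intro q
  · intro hq
    have hlt := F.act_lt' q hv
    have h := List.all_eq_true.1 orbit_ok _ (List.mem_range.2 hlt)
    rw [hq] at h
    simp only [cond_true, Bool.and_eq_true] at h
    rw [act_mul _ _ (by omega), act_eq code_x (by omega)]
    exact h.1.1
  · intro hq
    have hlt := F.act_lt' q hv
    have h := List.all_eq_true.1 orbit_ok _ (List.mem_range.2 hlt)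
    rw [hq] at h
    simp only [cond_true, Bool.and_eq_true] at h
    rw [act_mul _ _ (by omega), act_eq code_y (by omega)]
    exact h.1.2
  · intro i hq
    rw [act_mul _ _ (by omega), F.pe_eq, F.act_pv_fix (F.act_lt' q hv) ?_]
    · exact hq
    · exact lt_of_lt_of_eq (Nat.pow_lt_pow_right (by norm_num) i.isLt) (by norm_num)

theorem PFacts.reach_w1 (F : PFacts) : ∀ {v : ℕ}, v < 2048 → v ≠ 0 → inS v = false →
    ∃ p, act p v = w1 := by
  suffices h : ∀ r v, (orbRank >>> (8 * v)) % 256 / 2 = r → v < 2048 → v ≠ 0 → inS v = false →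
      ∃ p, act p v = w1 from fun {v} => h _ v rfl
  intro r
  induction r using Nat.strong_induction_on with
  | _ r ih =>
    intro v hr hv h0 hS
    have h := List.all_eq_true.1 orbit_ok v (List.mem_range.2 hv)
    rw [hS, cond_false, Bool.or_eq_true, Bool.or_eq_true, Bool.and_eq_true, Bool.not_eq_true'] at h
    rcases h with (h | h) | ⟨h, h2⟩
    · exact absurd (Nat.eq_of_beq_eq_true h) h0
    · exact ⟨1, by rw [act_one (by omega), Nat.eq_of_beq_eq_true h]⟩
    · obtain ⟨q, hq⟩ : ∃ q : P, act q v =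
          ap v (cond (Nat.beq ((orbRank >>> (8 * v)) % 2) 0) MX MY) := by
        cases Nat.beq ((orbRank >>> (8 * v)) % 2) 0
        · exact ⟨py, act_eq code_y (by omega)⟩
        · exact ⟨px, act_eq code_x (by omega)⟩
      rw [← hq] at h h2
      have hlt := Nat.blt_eq.mp h
      have hS' : inS (act q v) = false := by
        rcases hb : inS (act q v) with _ | _
        · rfl
        · have := F.inS_orbit (F.act_lt' q hv) hb q⁻¹
          rw [act_cancel q (by omega), hS] at this
          exact Bool.noConfusion this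
      obtain ⟨p, hp⟩ := ih _ (by omega) _ rfl (F.act_lt' q hv) (Nat.ne_of_beq_eq_false h2) hS'
      exact ⟨q * p, by rw [act_mul _ _ (by omega), hp]⟩

/-- The orbit of a vector. -/
noncomputable def orbV (u : ℕ) : Set ℕ := Set.range fun p : P => act p u

theorem PFacts.orbV_big (F : PFacts) {u : ℕ} (hu : u < 2048) (h0 : u ≠ 0) (hS : inS u = false) :
    1771 ≤ (orbV u).ncard := by
  have hc := count_ok
  simp only [okCount, Bool.and_eq_true] at hc
  obtain ⟨p, hp⟩ := F.reach_w1 hu h0 hS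
  let L := (List.range 2048).filter fun v => !inS v && !Nat.beq v 0
  have hn : L.toFinset.card = 1771 := by
    rw [List.toFinset_card_of_nodup (List.nodup_range.filter _)]
    exact Nat.eq_of_beq_eq_true hc.2
  rw [← hn, ← Set.ncard_coe_finset]
  refine Set.ncard_le_ncard ?_ ((Set.finite_Iio 2048).subset ?_)
  · intro v hv
    simp only [L, Finset.mem_coe, List.mem_toFinset, List.mem_filter, List.mem_range,
      Bool.and_eq_true, Bool.not_eq_true'] at hv
    obtain ⟨q, hq⟩ := F.reach_w1 hv.1 (Nat.ne_of_beq_eq_false hv.2.2) hv.2.1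
    refine ⟨p * q⁻¹, ?_⟩
    show act (p * q⁻¹) u = v
    rw [act_mul _ _ (by omega), hp, ← hq, act_cancel q (by omega)]
  · rintro _ ⟨q, rfl⟩
    exact F.act_lt' q hu

/-- The map induced on vectors. -/
noncomputable def tv (θ : P ≃* P) (v : ℕ) : ℕ := vpart (θ (pv v))

variable {θ : P ≃* P}

theorem PFacts.tv_spec (F : PFacts) (hθ : ∀ p ∈ Vsub, θ p ∈ Vsub) (v : ℕ) :
    tv θ v < 2048 ∧ θ (pv v) = pv (tv θ v) := by
  obtain ⟨w, hw, he⟩ := F.mem_Vsub.1 (hθ _ (pv_mem v))
  have h : tv θ v = w := by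
    rw [tv, ← he, ← one_mul (pv w), F.vpart_mul_pv (one_mem _) hw]
  rw [h]
  exact ⟨hw, he.symm⟩

theorem PFacts.tv_eq (F : PFacts) {v w : ℕ} (hw : w < 2048) (h : θ (pv v) = pv w) : tv θ v = w := by
  rw [tv, h, ← one_mul (pv w), F.vpart_mul_pv (one_mem _) hw]

theorem PFacts.tv_xor (F : PFacts) (hθ : ∀ p ∈ Vsub, θ p ∈ Vsub) {v w : ℕ} (hv : v < 2048)
    (hw : w < 2048) : tv θ (v ^^^ w) = tv θ v ^^^ tv θ w := by
  obtain ⟨h1, e1⟩ := F.tv_spec hθ v
  obtain ⟨h2, e2⟩ := F.tv_spec hθ w
  refine F.tv_eq (bits_lt h1 _ h2) ?_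
  rw [← F.pv_mul hw hv, map_mul, e1, e2, F.pv_mul h2 h1]

theorem PFacts.tv_zero (F : PFacts) : tv θ 0 = 0 := by
  refine F.tv_eq (by norm_num) ?_
  rw [pv_zero, map_one]

theorem PFacts.tv_inj (F : PFacts) (hθ : ∀ p ∈ Vsub, θ p ∈ Vsub) {v w : ℕ} (hv : v < 2048)
    (hw : w < 2048) (h : tv θ v = tv θ w) : v = w := by
  obtain ⟨-, e1⟩ := F.tv_spec hθ v
  obtain ⟨-, e2⟩ := F.tv_spec hθ w
  exact pv_inj hv hw (θ.injective (by rw [e1, e2, h]))

theorem PFacts.tv_act (F : PFacts) (hθ : ∀ p ∈ Vsub, θ p ∈ Vsub) (p : P) {v : ℕ} (hv : v < 2048) :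
    tv θ (act p v) = act (θ p) (tv θ v) := by
  obtain ⟨h1, e1⟩ := F.tv_spec hθ v
  refine F.tv_eq (F.act_lt' _ h1) ?_
  have h := congrArg θ (F.pv_mul_right p hv)
  rw [map_mul, map_mul, e1, F.pv_mul_right (θ p) h1] at h
  exact (mul_left_cancel h).symm

theorem PFacts.tv_inS (F : PFacts) (hθ : ∀ p ∈ Vsub, θ p ∈ Vsub) {v : ℕ} (hv : v < 2048)
    (hS : inS v = true) : inS (tv θ v) = true := by
  have h0 : v ≠ 0 := by
    rintro rfl
    have h := List.all_eq_true.1 orbit_ok 0 (List.mem_range.2 (by norm_num))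
    rw [hS] at h
    simp at h
  rcases hb : inS (tv θ v) with _ | _
  swap
  · rfl
  exfalso
  have hu := (F.tv_spec hθ v).1
  have hu0 : tv θ v ≠ 0 := fun h => h0 (F.tv_inj hθ hv (by norm_num) (by rw [h, F.tv_zero]))
  have himg : orbV (tv θ v) ⊆ tv θ '' orbV v := by
    rintro _ ⟨q, rfl⟩
    refine ⟨_, ⟨θ.symm q, rfl⟩, ?_⟩
    show tv θ (act (θ.symm q) v) = act q (tv θ v)
    rw [F.tv_act hθ _ hv, θ.apply_symm_apply]
  let L := (List.range 2048).filter inS
  have hsub : orbV v ⊆ ↑L.toFinset := by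
    rintro _ ⟨q, rfl⟩
    simp only [L, List.coe_toFinset, Set.mem_ofPred_eq, List.mem_filter, List.mem_range]
    exact ⟨F.act_lt' q hv, F.inS_orbit hv hS q⟩
  have hfin : (orbV v).Finite := (Finset.finite_toSet _).subset hsub
  have hc := count_ok
  simp only [okCount, Bool.and_eq_true] at hc
  have h1 := (F.orbV_big hu hu0 hb).trans (Set.ncard_le_ncard himg (hfin.image _))
  have h2 := (Set.ncard_image_le hfin (f := tv θ)).trans
    (Set.ncard_le_ncard hsub (Finset.finite_toSet _))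
  rw [Set.ncard_coe_finset] at h2
  have h3 := List.toFinset_card_le L
  have h4 : L.length = 276 := Nat.eq_of_beq_eq_true hc.1
  omega

theorem PFacts.comb_lt (F : PFacts) {q : P} : ∀ k c v, v < 2048 → comb (cd q) k c v < 2048
  | 0, _, _, _ => by norm_num [comb]
  | k + 1, c, v, hv => by
    refine bits_lt ?_ _ (F.comb_lt k _ _ ?_)
    · rcases Nat.mod_two_eq_zero_or_one c with h | h <;> rw [h] <;> omega
    · rw [← F.act_cd q (by omega)]; exact F.act_lt' q hv

theorem PFacts.tv_comb (F : PFacts) (hθ : ∀ p ∈ Vsub, θ p ∈ Vsub) {q r : P} (hqr : θ q = r) :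
    ∀ k c v, v < 2048 → tv θ (comb (cd q) k c v) = comb (cd r) k c (tv θ v)
  | 0, _, _, _ => F.tv_zero
  | k + 1, c, v, hv => by
    have hu := (F.tv_spec hθ v).1
    have hav : ap v (cd q) < 2048 := by rw [← F.act_cd q (by omega)]; exact F.act_lt' q hv
    have e : tv θ (ap v (cd q)) = ap (tv θ v) (cd r) := by
      rw [← F.act_cd q (by omega), F.tv_act hθ q hv, hqr, F.act_cd r (by omega)]
    have hl : c % 2 * v < 2048 := by
      rcases Nat.mod_two_eq_zero_or_one c with h | h <;> rw [h] <;> omega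
    rw [comb, comb, F.tv_xor hθ hl (F.comb_lt k _ _ hav), F.tv_comb hθ hqr k _ _ hav, e]
    rcases Nat.mod_two_eq_zero_or_one c with h | h <;> simp [h, F.tv_zero]

theorem PFacts.conj_mem (F : PFacts) (hθ : ∀ p ∈ Vsub, θ p ∈ Vsub) (c : P) :
    ∀ p ∈ Vsub, (θ.trans (MulAut.conj c)) p ∈ Vsub := fun p hp =>
  F.Vsub_normal.conj_mem _ (hθ p hp) c

/-- No automorphism normalising the translations inverts the element of order 23. -/
theorem PFacts.no_inv (F : PFacts) (hV : ∀ p ∈ Vsub, θ p ∈ Vsub) : θ gg ≠ gg⁻¹ := by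
  intro hg
  rw [← F.ginv_eq] at hg
  have hp := poly_ok
  simp only [okPoly, Bool.and_eq_true, List.all_eq_true, Bool.or_eq_true, Bool.not_eq_true'] at hp
  have h3 := F.tv_comb hV hg 12 minPoly 1 (by norm_num)
  rw [F.cd_gg, Nat.eq_of_beq_eq_true hp.1, F.tv_zero, F.cd_mword] at h3
  have hlt := (F.tv_spec hV 1).1
  rcases hp.2 _ (List.mem_range.2 hlt) with h4 | h4
  · exact absurd (F.tv_inj hV (v := 1) (w := 0) (by norm_num) (by norm_num)
      (by rw [Nat.eq_of_beq_eq_true h4, F.tv_zero])) (by norm_num)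
  · exact Nat.ne_of_beq_eq_false h4 h3.symm

/-- An automorphism normalising the translations, up to an inner one, fixes the element of order 23. -/
theorem PFacts.exists_fix_gg (F : PFacts) (hθ : ∀ p ∈ Vsub, θ p ∈ Vsub) :
    ∃ c : P, MulAut.conj c (θ gg) = gg := by
  have := Fact.mk (show Nat.Prime 23 by norm_num)
  have := F.finite
  have ho : orderOf (θ gg) = 23 := by rw [MulEquiv.orderOf_eq, F.gg_order]
  obtain ⟨Q1, h1⟩ := F.sylow_zpowers F.gg_order
  obtain ⟨Q2, h2⟩ := F.sylow_zpowers ho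
  obtain ⟨a, ha⟩ := MulAction.exists_smul_eq P Q1 Q2
  have hmem : θ gg ∈ ((a • Q1 : Sylow 23 P) : Subgroup P) := by
    rw [ha, h2]; exact Subgroup.mem_zpowers _
  rw [Sylow.coe_subgroup_smul, h1] at hmem
  obtain ⟨z, hz, hze⟩ := hmem
  obtain ⟨k, rfl⟩ := (Subgroup.mem_zpowers_iff.1 hz)
  have hk : θ gg = a * gg ^ k * a⁻¹ := hze.symm
  let e := (k % 23).toNat
  have he : gg ^ k = gg ^ e := by
    rw [← zpow_natCast gg e, Int.toNat_of_nonneg (Int.emod_nonneg _ (by norm_num))]
    exact (zpow_mod_orderOf gg k).symm.trans (by rw [F.gg_order]; rfl)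
  have he23 : e < 23 := by omega
  have hconj : ∀ i, MulAut.conj ((a * mword nWord ^ i)⁻¹) (θ gg) = gg ^ (e * 2 ^ i % 23) := fun i => by
    have e1 : MulAut.conj ((a * mword nWord ^ i)⁻¹) (θ gg) =
        (mword nWord ^ i)⁻¹ * gg ^ e * mword nWord ^ i := by
      rw [MulAut.conj_apply, hk, he, inv_inv]; group
    rw [e1, ← F.gg_order, pow_mod_orderOf, mul_comm e, pow_mul, ← F.gg_conj i]
    have := conj_pow (i := e) (a := (mword nWord ^ i)⁻¹) (b := gg)
    rw [inv_inv] at this
    exact this.symm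
  have hex : ∀ e, e < 23 → e = 0 ∨ ∃ i, i < 11 ∧ (e * 2 ^ i % 23 = 1 ∨ e * 2 ^ i % 23 = 22) := by
    decide +kernel
  rcases hex e he23 with h0 | ⟨i, -, hi | hi⟩
  · exfalso
    rw [hk, he, h0, pow_zero, mul_one, mul_inv_cancel] at ho
    simp at ho
  · exact ⟨_, by rw [hconj i, hi, pow_one]⟩
  · exact absurd (by
      show MulAut.conj _ (θ gg) = gg⁻¹
      rw [hconj i, hi]
      exact eq_inv_of_mul_eq_one_right (by rw [← pow_succ', gg_pow]))
      (F.no_inv (F.conj_mem hθ ((a * mword nWord ^ i)⁻¹)))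

theorem PFacts.act_itA (F : PFacts) {v : ℕ} (hv : v < 2048) : ∀ j, act (gg ^ j) v = itA gcode j v
  | 0 => by rw [pow_zero, act_one (by omega)]; rfl
  | j + 1 => by
    rw [pow_succ, act_mul _ _ (by omega), F.act_itA hv j, F.act_cd gg ?_, F.cd_gg]
    · rfl
    · rw [← F.act_itA hv j]; exact act_lt _ (by omega)

/-- An automorphism fixing the element of order 23 moves the base vector along its cycle. -/
theorem PFacts.tv_good (F : PFacts) (hV : ∀ p ∈ Vsub, θ p ∈ Vsub) (hg : θ gg = gg) :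
    ∃ j, itA gcode j v0 = tv θ v0 := by
  have hw := witness_ok
  simp only [okWitness, Bool.and_eq_true, List.all_eq_true, Bool.or_eq_true, Bool.not_eq_true',
    List.any_eq_true] at hw
  obtain ⟨⟨hv0, hwit⟩, hall⟩ := hw
  have hv0lt : v0 < 2048 := by norm_num [v0]
  have hult := (F.tv_spec hV v0).1
  have huS : inS (tv θ v0) = true := F.tv_inS hV hv0lt hv0
  rcases hall _ (List.mem_range.2 hult) with (h | ⟨j, -, hj⟩) | ⟨c, hc, hcS⟩
  · rw [huS] at h; exact Bool.noConfusion h
  · exact ⟨j, Nat.eq_of_beq_eq_true hj⟩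
  · exfalso
    have h1 := F.tv_comb hV hg 11 c v0 hv0lt
    rw [F.cd_gg] at h1
    have h2 := F.tv_inS hV (F.cd_gg ▸ F.comb_lt 11 c v0 hv0lt) (hwit c hc)
    rw [h1, hcS] at h2
    exact Bool.noConfusion h2

/-- An automorphism normalising the translations fixes them up to an inner automorphism. -/
theorem PFacts.normaliser (F : PFacts) (hθ : ∀ p ∈ Vsub, θ p ∈ Vsub) :
    ∃ c : P, (∀ v, v < 2048 → MulAut.conj c (θ (pv v)) = pv v) ∧
      (∃ a, a < 2048 ∧ MulAut.conj c (θ px) = px * pv a) ∧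
      (∃ b, b < 2048 ∧ MulAut.conj c (θ py) = py * pv b) := by
  obtain ⟨c0, hc0⟩ := F.exists_fix_gg hθ
  set θ' := θ.trans (MulAut.conj c0) with hθ'
  have hV := F.conj_mem hθ c0
  have hg : θ' gg = gg := hc0
  have hv0lt : v0 < 2048 := by norm_num [v0]
  set u := tv θ' v0 with hu
  have hult := (F.tv_spec hV v0).1
  obtain ⟨j, hj⟩ := F.tv_good hV hg
  rw [← hu] at hj
  have hact : act (gg ^ j)⁻¹ u = v0 := by
    rw [← hj, ← F.act_itA hv0lt j, act_cancel _ (by omega)]
  set c := gg ^ j * c0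
  have hc : ∀ p, MulAut.conj c (θ p) = MulAut.conj (gg ^ j) (θ' p) := fun p => by
    simp only [c, map_mul, MulAut.mul_apply]; rfl
  set θ2 := θ.trans (MulAut.conj c)
  have hV2 := F.conj_mem hθ c
  have hg2 : θ2 gg = gg := by
    show MulAut.conj c (θ gg) = gg
    rw [hc, hg, MulAut.conj_apply, ← pow_succ, pow_succ', mul_inv_cancel_right]
  have hfix0 : tv θ2 v0 = v0 := by
    refine F.tv_eq hv0lt ?_
    show MulAut.conj c (θ (pv v0)) = _
    rw [hc, (F.tv_spec hV v0).2, ← hu, MulAut.conj_apply, mul_assoc, F.pv_mul_right _ hult, hact,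
      mul_inv_cancel_left]
  have hfixb : ∀ i, i < 11 → tv θ2 (2 ^ i) = 2 ^ i := fun i hi => by
    have hb := basis_ok
    simp only [okBasis, List.all_eq_true] at hb
    have h1 := F.tv_comb hV2 hg2 11 (basCoord.getD i 0) v0 hv0lt
    rwa [hfix0, F.cd_gg, Nat.eq_of_beq_eq_true (hb i (List.mem_range.2 hi))] at h1
  have hfix : ∀ v, v < 2048 → tv θ2 v = v := by
    intro v
    induction v using Nat.strong_induction_on with
    | _ v ih =>
      intro hv
      have hs := List.all_eq_true.1 split_all v (List.mem_range.2 hv)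
      rw [Bool.or_eq_true, List.any_eq_true] at hs
      rcases hs with hs | ⟨i, hi, hlt⟩
      · rw [Nat.eq_of_beq_eq_true hs, F.tv_zero]
      · have hi' := List.mem_range.1 hi
        have hlt' := Nat.blt_eq.mp hlt
        have h2 : 2 ^ i < 2048 :=
          lt_of_lt_of_eq (Nat.pow_lt_pow_right (by norm_num) hi') (by norm_num)
        have he : v = (v ^^^ 2 ^ i) ^^^ 2 ^ i := by rw [Nat.xor_assoc, Nat.xor_self, Nat.xor_zero]
        conv_lhs => rw [he, F.tv_xor hV2 (hlt'.trans hv) h2, ih _ hlt' (hlt'.trans hv), hfixb i hi']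
        exact he.symm
  have hgen : ∀ q ∈ Msub, ∃ a, a < 2048 ∧ θ2 q = q * pv a := fun q hq => by
    refine ⟨vpart (θ2 q), (F.decomp _).2.1, ?_⟩
    conv_lhs => rw [(F.decomp (θ2 q)).2.2]
    congr 1
    refine F.act_inj (F.decomp _).1 hq fun i hi => ?_
    have h2 : 2 ^ i < 2048 :=
      lt_of_lt_of_eq (Nat.pow_lt_pow_right (by norm_num) hi) (by norm_num)
    have e := F.tv_act hV2 q h2
    rw [hfix _ (F.act_lt' q h2), hfixb i hi, ← F.act_proj (θ2 q) h2] at e
    exact e.symm
  refine ⟨c, fun v hv => ?_, hgen px (Subgroup.subset_closure (by simp)),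
    hgen py (Subgroup.subset_closure (by simp))⟩
  show θ2 (pv v) = pv v
  rw [(F.tv_spec hV2 v).2, hfix v hv]

end Cfsg.Agent.Lib.J4Out38
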