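import Cfsg.Agent.Lib.J4Dce59.Check.All
import Cfsg.Agent.Lib.J4Out38.Beta
import Cfsg.Agent.Lib.J4Out38.K0

/-!
# The seven orbits of the model on the cosets, with exact sizes, and two stabilisers
-/

set_option autoImplicit false
set_option maxRecDepth 100000

namespace Cfsg.Agent.Lib.J4Out38

open Cfsg.Agent.Lib.J4Dce59
open Cfsg.Agent.Lib.J4Dce59.Data

universe u

/-- The sizes of the seven orbits. -/
def sizes (j : ℕ) : ℕ :=
  [1, 15180, 3400320, 32643072, 28336, 54405120, 82575360].getD j 0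

/-- What is used about the presented group. -/
structure JFacts {G : Type u} [Group G] (V : Env G) : Prop where
  pf : PFacts
  fin : Finite G
  card : Nat.card G = 86775571046077562880
  inj : Function.Injective V.φ
  gen : V.H ⊔ Subgroup.zpowers V.t = ⊤

theorem size_eq : (List.range 7).all (fun j => Nat.beq (C.orb j).size (sizes j)) = true := by
  decide +kernel

/-- The trio representatives do not preserve the orbit of length seven, save the first one. -/
noncomputable def okTrioSeven : Bool :=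
  (List.range 3795).all fun T => Nat.beq T 0 ||
    k0Orbit.any fun o => !k0Orbit.contains (ap o (rT D C T))

theorem trioSeven_ok : okTrioSeven = true := by decide +kernel

/-- The two facts giving the generators of the stabiliser of order 6072. -/
def isStab (f : Fact) (i c : ℕ) : Bool :=
  match f with
  | .stab a s => Nat.beq a i && Nat.beq s c
  | .edge _ _ _ _ => false

theorem stab_facts :
    (Nat.blt 2501 D.n && Nat.blt 2628 D.n && isStab (D.fact.get 2501) 6 codA &&
      isStab (D.fact.get 2628) 6 codB) = true := by decide +kernel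

theorem defs_first : (Nat.blt 0 D.defs.length && Nat.beq (D.defs.getD 0 (0, 0)).1 0 &&
    Nat.beq (D.defs.getD 0 (0, 0)).2 one) = true := by decide +kernel

variable {G : Type u} [Group G] {V : Env G} (J : JFacts V)

include J

theorem JFacts.card_P : Nat.card P = 501397585920 := by rw [J.pf.card]; norm_num

theorem JFacts.card_H : Nat.card V.H = 501397585920 := by
  rw [← J.card_P]
  exact (Nat.card_congr (MonoidHom.ofInjective J.inj).toEquiv).symm

theorem JFacts.index_H : V.H.index = 173067389 := by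
  have := J.fin
  have h := Subgroup.index_mul_card V.H
  rw [J.card_H, J.card] at h
  omega

theorem JFacts.orbits :
    (∀ j, j < 7 → (V.orb D j).Finite ∧ (V.orb D j).ncard = sizes j) ∧
      (∀ i, i < 7 → ∀ j, j < 7 → ∀ x : V.Pts, x ∈ V.orb D i → x ∈ V.orb D j → i = j) ∧
        ∀ x : V.Pts, ∃ j, j < 7 ∧ x ∈ V.orb D j := by
  classical
  have := J.fin
  have hP := J.pf.finite
  have hlen := Check.len7
  have hle : ∀ j, j < 7 → (V.orb D j).ncard ≤ sizes j := fun j hj => by
    have h := (orb_card V Check.covOK hP J.card_P (hlen.symm ▸ hj : j < C.orbs.length)).2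
    rwa [Nat.eq_of_beq_eq_true (List.all_eq_true.1 size_eq j (List.mem_range.2 hj))] at h
  have hcov : ∀ x : V.Pts, ∃ j, j < 7 ∧ x ∈ V.orb D j := fun x => by
    obtain ⟨j, hj, hx⟩ := U_univ V Check.covOK hP J.gen x
    exact ⟨j, hlen ▸ hj, hx⟩
  have htot : ∀ K : Finset ℕ, (∀ x : V.Pts, ∃ j ∈ K, x ∈ V.orb D j) →
      173067389 ≤ ∑ j ∈ K, (V.orb D j).ncard := fun K hK => by
    have h : (Set.univ : Set V.Pts) = ⋃ j ∈ K, V.orb D j := by
      refine Set.ext fun x => ⟨fun _ => ?_, fun _ => trivial⟩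
      obtain ⟨j, hj, hx⟩ := hK x
      exact Set.mem_iUnion₂.2 ⟨j, hj, hx⟩
    refine le_of_eq_of_le ?_ (Finset.set_ncard_biUnion_le K fun j => V.orb D j)
    rw [← h, Set.ncard_univ]
    exact J.index_H.symm
  have hsum := htot (Finset.range 7) fun x => by
    obtain ⟨j, hj, hx⟩ := hcov x
    exact ⟨j, Finset.mem_range.2 hj, hx⟩
  simp only [Finset.sum_range_succ, Finset.sum_range_zero, Nat.zero_add] at hsum
  have e0 := hle 0 (by norm_num); have e1 := hle 1 (by norm_num); have e2 := hle 2 (by norm_num)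
  have e3 := hle 3 (by norm_num); have e4 := hle 4 (by norm_num); have e5 := hle 5 (by norm_num)
  have e6 := hle 6 (by norm_num)
  simp only [sizes, List.getD_cons_zero, List.getD_cons_succ] at e0 e1 e2 e3 e4 e5 e6
  have heq : ∀ j, j < 7 → (V.orb D j).ncard = sizes j := fun j hj => by
    interval_cases j <;> simp only [sizes, List.getD_cons_zero, List.getD_cons_succ] <;> omega
  refine ⟨fun j hj => ⟨Set.toFinite _, heq j hj⟩, ?_, hcov⟩
  intro i hi j hj x hxi hxj
  by_contra hne
  have hsub : ∀ {a b : ℕ} {z : V.Pts}, z ∈ V.orb D a → z ∈ V.orb D b → V.orb D a ⊆ V.orb D b := by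
    rintro a b z ⟨h₁, hh₁, rfl⟩ ⟨h₂, hh₂, e⟩ _ ⟨h₃, hh₃, rfl⟩
    refine ⟨h₃ * h₁⁻¹ * h₂, mul_mem (mul_mem hh₃ (inv_mem hh₁)) hh₂, ?_⟩
    rw [mul_smul, ← e, mul_smul, inv_smul_smul]
  have h1 := htot ((Finset.range 7).erase i) fun y => by
    obtain ⟨k, hk, hy⟩ := hcov y
    rcases eq_or_ne k i with rfl | hki
    · exact ⟨j, Finset.mem_erase.2 ⟨Ne.symm hne, Finset.mem_range.2 hj⟩, hsub hxi hxj hy⟩
    · exact ⟨k, Finset.mem_erase.2 ⟨hki, Finset.mem_range.2 hk⟩, hy⟩
  have h2 := Finset.add_sum_erase (Finset.range 7) (fun j => (V.orb D j).ncard)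
    (Finset.mem_range.2 hi)
  simp only [Finset.sum_range_succ, Finset.sum_range_zero, Nat.zero_add] at h2
  have h3 : 0 < (V.orb D i).ncard := (Set.ncard_pos (Set.toFinite _)).2 ⟨x, hxi⟩
  omega

omit J in
/-- The stabiliser in the model of the base point of orbit `j`. -/
noncomputable def stab (V : Env G) (j : ℕ) : Subgroup P := (MulAction.stabilizer G (V.pt D j)).comap V.φ

omit J in
theorem mem_stab {j : ℕ} {p : P} : p ∈ stab V j ↔ V.φ p • V.pt D j = V.pt D j := Iff.rfl

theorem JFacts.card_stab {j : ℕ} (hj : j < 7) : sizes j * Nat.card (stab V j) = 501397585920 := by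
  classical
  have := J.fin
  let : MulAction P V.Pts := MulAction.compHom V.Pts V.φ
  have horb : MulAction.orbit P (V.pt D j) = V.orb D j := by
    ext x
    constructor
    · rintro ⟨p, rfl⟩; exact ⟨_, ⟨p, rfl⟩, rfl⟩
    · rintro ⟨_, ⟨p, rfl⟩, rfl⟩; exact ⟨p, rfl⟩
  have h := Nat.card_congr (MulAction.orbitProdStabilizerEquivGroup P (V.pt D j))
  rw [Nat.card_prod, J.card_P, horb, Nat.card_coe_set_eq, (J.orbits.1 j hj).2] at h
  have e : MulAction.stabilizer P (V.pt D j) = stab V j := by
    ext p; rfl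
  rwa [e] at h

omit J in
theorem w_one : V.w D 1 = V.t := by
  have h := defs_first
  simp only [Bool.and_eq_true] at h
  have hs := wList_step V D.defs [1] 0 (Nat.blt_eq.mp h.1.1)
    (by rw [Nat.eq_of_beq_eq_true h.1.2]; norm_num)
  rw [List.length_singleton, Nat.add_zero, Nat.eq_of_beq_eq_true h.1.2,
    Nat.eq_of_beq_eq_true h.2,
    show (wList V D.defs [1]).getD 0 1 = 1 from w_zero V D, V.val_one, one_mul, one_mul] at hs
  exact hs

omit J in
theorem pt_zero : V.pt D 0 = ((1 : G) : V.Pts) := by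
  rw [Env.pt, w_zero, inv_one]

omit J in
theorem pt_one : V.pt D 1 = ((V.t : G) : V.Pts) := by
  rw [Env.pt, w_one, inv_eq_of_mul_eq_one_right V.t_sq]

omit J in
theorem comm_K0 {k : P} (hk : k ∈ K0) : Commute (V.φ k) V.t := by
  induction hk using Subgroup.closure_induction with
  | mem a ha =>
    rcases ha with rfl | rfl
    · exact V.comm_x
    · rw [← wordP_kWord]; exact V.comm_k
  | one => rw [map_one]; exact Commute.one_left _
  | mul a b _ _ ha hb => rw [map_mul]; exact ha.mul_left hb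
  | inv a _ ha => rw [map_inv]; exact ha.inv_left

omit J in
theorem stab_one_of_commute {p : P} (hp : Commute (V.φ p) V.t) : p ∈ stab V 1 := by
  rw [mem_stab, pt_one]
  show ((V.φ p * V.t : G) : V.Pts) = ((V.t : G) : V.Pts)
  rw [hp.eq, QuotientGroup.eq, mul_inv_rev, inv_mul_cancel_right]
  exact inv_mem ⟨p, rfl⟩

omit J in
theorem K0_le_stab : K0 ≤ stab V 1 := fun _ hk => stab_one_of_commute (comm_K0 hk)

theorem JFacts.stA_mem : stA ∈ stab V 6 ∧ stB ∈ stab V 6 := by
  have h := stab_facts
  simp only [Bool.and_eq_true] at h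
  have key : ∀ n p, n < D.n → isStab (D.fact.get n) 6 (cd p) = true → p ∈ stab V 6 := by
    intro n p hn hs
    have hv := val_facts V Check.covOK n hn
    revert hs hv
    cases D.fact.get n with
    | stab a s =>
      intro hs hv
      simp only [isStab, Bool.and_eq_true] at hs
      obtain ⟨rfl, rfl⟩ : a = 6 ∧ s = cd p :=
        ⟨Nat.eq_of_beq_eq_true hs.1, Nat.eq_of_beq_eq_true hs.2⟩
      rw [mem_stab, ← V.val_eq (J.pf.code_cd p)]
      exact V.pt_fix hv.2
    | edge a b c d => intro hs; exact Bool.noConfusion hs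
  exact ⟨key 2501 _ (Nat.blt_eq.mp h.1.1.1) (by rw [J.pf.cd_stA]; exact h.1.2),
    key 2628 _ (Nat.blt_eq.mp h.1.1.2) (by rw [J.pf.cd_stB]; exact h.2)⟩

/-- The projection of the stabiliser of the second base point, and the order of `K0`. -/
theorem JFacts.proj_stab_one :
    (stab V 1).map J.pf.proj = K0 ∧ Nat.card K0 = 64512 ∧
      Nat.card (stab V 1) = 64512 * 512 := by
  have := J.pf.finite
  have hS : Nat.card (stab V 1) = 33030144 := by
    have := J.card_stab (j := 1) (by norm_num)
    simp only [sizes, List.getD_cons_zero, List.getD_cons_succ] at this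
    omega
  have hle : K0 ≤ (stab V 1).map J.pf.proj := fun k hk =>
    ⟨k, K0_le_stab hk, J.pf.proj_M (K0_le hk)⟩
  have hM : (stab V 1).map J.pf.proj ≤ Msub := by
    rintro _ ⟨s, -, rfl⟩; exact (J.pf.decomp s).1
  have hd : Nat.card ((stab V 1).map J.pf.proj) ∣ 64512 := by
    have h1 : Nat.card ((stab V 1).map J.pf.proj) ∣ 33030144 := hS ▸ Subgroup.card_map_dvd _ _
    have h2 : Nat.card ((stab V 1).map J.pf.proj) ∣ 244823040 :=
      J.pf.card_Msub ▸ Subgroup.card_dvd_of_le hM
    simpa using Nat.dvd_gcd h1 h2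
  have h3 := Nat.le_of_dvd (by norm_num) hd
  have h4 := J.pf.card_K0_ge
  have heq : K0 = (stab V 1).map J.pf.proj := Subgroup.eq_of_le_of_card_ge hle (by omega)
  refine ⟨heq.symm, le_antisymm (heq ▸ h3) h4, by rw [hS]⟩

omit J in
theorem trio_id {T : ℕ} (hT : T < 3795) (h : ∀ o ∈ k0Orbit, ap o (rT D C T) ∈ k0Orbit) : T = 0 := by
  have hs := List.all_eq_true.1 trioSeven_ok T (List.mem_range.2 hT)
  rw [Bool.or_eq_true, List.any_eq_true] at hs
  rcases hs with hs | ⟨o, ho, hs⟩
  · exact Nat.eq_of_beq_eq_true hs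
  · rw [Bool.not_eq_true', ← Bool.not_eq_true, List.contains_iff_mem] at hs
    exact absurd (h o ho) hs

/-- An element whose conjugation sends `K0` into its stabiliser fixes the second point up to a translation. -/
theorem JFacts.move_one {p : P} (hp : ∀ k ∈ K0, p⁻¹ * k * p ∈ stab V 1) :
    ∃ v, v < 2048 ∧ V.φ p • V.pt D 1 = V.φ (pv v) • V.pt D 1 := by
  classical
  have := J.pf.finite
  have F := J.pf
  obtain ⟨hproj, -, -⟩ := J.proj_stab_one
  obtain ⟨T, hT, e, he, k, hk, hkt, hdec⟩ := decomp V Check.covOK (h := V.φ p) ⟨p, rfl⟩ F.finite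
  obtain ⟨hTE, -⟩ := rT_mem V Check.covOK T
  obtain ⟨r, hr⟩ := hTE
  obtain ⟨ev', hev, hee⟩ := V.E_mem he
  obtain ⟨q, rfl⟩ := hk
  rw [hee, V.val_eq (code_pv hev), V.val_eq hr, ← map_mul, ← map_mul] at hdec
  have hpq : p = pv ev' * r * q := J.inj hdec
  have hq : F.proj q ∈ K0 := hproj ▸ ⟨q, stab_one_of_commute hkt, rfl⟩
  have hm : F.proj p = F.proj r * F.proj q := by
    rw [hpq, map_mul, map_mul, F.proj_V hev, one_mul]
  have hnorm : ∀ k ∈ K0, (F.proj r)⁻¹ * k * F.proj r ∈ K0 := by
    intro k hk'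
    have h1 : F.proj (p⁻¹ * k * p) ∈ K0 := hproj ▸ ⟨_, hp k hk', rfl⟩
    rw [map_mul, map_mul, map_inv, F.proj_M (K0_le hk'), hm] at h1
    have h2 := mul_mem (mul_mem hq h1) (inv_mem hq)
    convert h2 using 1
    group
  have hT0 : T = 0 := by
    refine trio_id hT fun o ho => ?_
    have hsev := seven_ok
    simp only [okSeven, Bool.and_eq_true, List.all_eq_true, Nat.blt_eq] at hsev
    have ho2 : ∀ o ∈ k0Orbit, o < 2048 := fun o ho => (hsev.1.1.2 o ho).1.1.1
    have hinto : ∀ o ∈ k0Orbit, act (F.proj r)⁻¹ o ∈ k0Orbit := fun o ho =>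
      F.norm_seven (fun k hk' => by rw [inv_inv]; exact hnorm k hk') ho
    have himg : k0Orbit.toFinset.image (act (F.proj r)⁻¹) = k0Orbit.toFinset := by
      refine Finset.eq_of_subset_of_card_le (fun w hw => ?_) (le_of_eq ?_)
      · obtain ⟨o, ho, rfl⟩ := Finset.mem_image.1 hw
        exact List.mem_toFinset.2 (hinto o (List.mem_toFinset.1 ho))
      · refine (Finset.card_image_of_injOn ?_).symm
        intro a ha b hb hab
        have ha' := ho2 a (List.mem_toFinset.1 ha)
        have hb' := ho2 b (List.mem_toFinset.1 hb)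
        have := congrArg (act (F.proj r)) hab
        rwa [← act_mul _ _ (by omega), ← act_mul _ _ (by omega), inv_mul_cancel, act_one (by omega),
          act_one (by omega)] at this
    have hmem : o ∈ k0Orbit.toFinset.image (act (F.proj r)⁻¹) := by
      rw [himg]; exact List.mem_toFinset.2 ho
    obtain ⟨o', ho', hoe⟩ := Finset.mem_image.1 hmem
    have e1 : ap o (rT D C T) = o' := by
      rw [← act_eq hr (by have := ho2 o ho; omega), ← F.act_proj r (ho2 o ho), ← hoe,
        ← act_mul _ _ (by have := ho2 o' (List.mem_toFinset.1 ho'); omega), inv_mul_cancel,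
        act_one (by have := ho2 o' (List.mem_toFinset.1 ho'); omega)]
    rw [e1]; exact List.mem_toFinset.1 ho'
  have hr1 : r = 1 := F.eq_of_code hr (by rw [hT0, Check.covOK.rep]; exact Code.one')
  refine ⟨ev', hev, ?_⟩
  rw [hpq, hr1, mul_one, map_mul, mul_smul, mem_stab.1 (stab_one_of_commute hkt)]

/-- A translation conjugating `K0` into the stabiliser fixes the second point. -/
theorem JFacts.pv_fix {v : ℕ} (hv : v < 2048) (hp : ∀ k ∈ K0, (pv v)⁻¹ * k * pv v ∈ stab V 1) :
    pv v ∈ stab V 1 := by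
  classical
  have := J.pf.finite
  have F := J.pf
  obtain ⟨hproj, hK0, hS⟩ := J.proj_stab_one
  let S := stab V 1
  let W : Finset ℕ := (Finset.range 2048).filter fun w => pv w ∈ S
  have hmemW : ∀ {w : ℕ}, w < 2048 → (w ∈ W ↔ pv w ∈ S) := fun hw => by simp [W, hw]
  have hW : W.card = 512 := by
    have e : S ≃ K0 × {w // w ∈ W} := by
      refine (Equiv.ofBijective (fun kw : K0 × {w // w ∈ W} =>
        (⟨(kw.1 : P) * pv kw.2.1, mul_mem (K0_le_stab kw.1.2)
          (Finset.mem_filter.1 kw.2.2).2⟩ : S)) ⟨?_, ?_⟩).symm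
      · intro a b h
        have h' := congrArg Subtype.val h
        have hla := Finset.mem_range.1 (Finset.mem_filter.1 a.2.2).1
        have hlb := Finset.mem_range.1 (Finset.mem_filter.1 b.2.2).1
        have h1 := congrArg vpart h'
        simp only [F.vpart_mul_pv (K0_le a.1.2) hla, F.vpart_mul_pv (K0_le b.1.2) hlb] at h1
        have h2 := congrArg mpart h'
        simp only [F.mpart_eq (K0_le a.1.2) hla, F.mpart_eq (K0_le b.1.2) hlb] at h2
        exact Prod.ext (Subtype.ext h2) (Subtype.ext h1)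
      · rintro ⟨s, hs⟩
        obtain ⟨-, hlt, he⟩ := F.decomp s
        have hk : mpart s ∈ K0 := hproj ▸ ⟨s, hs, rfl⟩
        have hw : pv (vpart s) ∈ S := by
          have := mul_mem (inv_mem (K0_le_stab hk : mpart s ∈ S)) hs
          convert this using 1
          rw [eq_inv_mul_iff_mul_eq]; exact he.symm
        exact ⟨(⟨_, hk⟩, ⟨_, (hmemW hlt).2 hw⟩), Subtype.ext he.symm⟩
    have h := Nat.card_congr e
    rw [hS, Nat.card_prod, hK0, Nat.card_eq_fintype_card, Fintype.card_coe] at h
    omega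
  have hW0 : pv 0 ∈ S := by rw [pv_zero]; exact one_mem _
  have hWadd : ∀ {a b}, a < 2048 → b < 2048 → pv a ∈ S → pv b ∈ S → pv (a ^^^ b) ∈ S :=
    fun ha hb h1 h2 => by rw [← F.pv_mul hb ha]; exact mul_mem h1 h2
  have hWact : ∀ k ∈ K0, ∀ w, w < 2048 → pv w ∈ S → pv (act k w) ∈ S := fun k hk w hw h => by
    have e : pv (act k w) = k⁻¹ * pv w * k := by
      rw [mul_assoc, F.pv_mul_right k hw, inv_mul_cancel_left]
    rw [e]; exact mul_mem (mul_mem (inv_mem (K0_le_stab hk)) h) (K0_le_stab hk)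
  have hmove : ∀ k ∈ K0, pv (act k v ^^^ v) ∈ S := fun k hk => by
    have hi : (pv v)⁻¹ = pv v :=
      inv_eq_of_mul_eq_one_right (by rw [F.pv_mul hv hv, Nat.xor_self, pv_zero])
    have h1 := hp k hk
    rw [hi, F.pv_mul_right k hv, mul_assoc, F.pv_mul hv (F.act_lt' k hv)] at h1
    have h2 := mul_mem (inv_mem (K0_le_stab hk : k ∈ S)) h1
    rwa [inv_mul_cancel_left] at h2
  by_contra hvW
  let H : ℕ → Prop := fun w => pv w ∈ S ∨ pv (w ^^^ v) ∈ S
  let HF : Finset ℕ := (Finset.range 2048).filter H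
  have hHlt : ∀ {w}, w ∈ HF ↔ w < 2048 ∧ H w := by simp [HF]
  have hHF : HF.card = 1024 := by
    have e : HF = W ∪ W.image (· ^^^ v) := by
      ext w
      rw [hHlt, Finset.mem_union, Finset.mem_image]
      constructor
      · rintro ⟨hw, h | h⟩
        · exact Or.inl ((hmemW hw).2 h)
        · exact Or.inr ⟨_, (hmemW (bits_lt hw _ hv)).2 h, by
            rw [Nat.xor_assoc, Nat.xor_self, Nat.xor_zero]⟩
      · rintro (h | ⟨a, ha, rfl⟩)
        · simp only [W, Finset.mem_filter, Finset.mem_range] at h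
          exact ⟨h.1, Or.inl h.2⟩
        · simp only [W, Finset.mem_filter, Finset.mem_range] at ha
          exact ⟨bits_lt ha.1 _ hv, Or.inr (by
            rw [Nat.xor_assoc, Nat.xor_self, Nat.xor_zero]; exact ha.2)⟩
    rw [e, Finset.card_union_of_disjoint, Finset.card_image_of_injective _
      (fun a b h => Nat.xor_left_injective h), hW]
    rw [Finset.disjoint_left]
    intro a ha ha'
    obtain ⟨b, hb, rfl⟩ := Finset.mem_image.1 ha'
    simp only [W, Finset.mem_filter, Finset.mem_range] at ha hb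
    have := hWadd ha.1 hb.1 ha.2 hb.2
    rw [Nat.xor_comm b v, Nat.xor_assoc, Nat.xor_self, Nat.xor_zero] at this
    exact hvW this
  have hclosed : ∀ a b, a < 2048 → b < 2048 → H a → H b → H (a ^^^ b) := by
    intro a b ha hb h1 h2
    have hav := bits_lt ha _ hv
    have hbv := bits_lt hb _ hv
    rcases h1 with h1 | h1 <;> rcases h2 with h2 | h2
    · exact Or.inl (hWadd ha hb h1 h2)
    · exact Or.inr (by rw [Nat.xor_assoc]; exact hWadd ha hbv h1 h2)
    · refine Or.inr ?_
      rw [Nat.xor_assoc, Nat.xor_comm b v, ← Nat.xor_assoc]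
      exact hWadd hav hb h1 h2
    · refine Or.inl ?_
      have h := hWadd hav hbv h1 h2
      rwa [Nat.xor_comm b v, ← Nat.xor_assoc, Nat.xor_assoc a v v, Nat.xor_self, Nat.xor_zero] at h
  have hadd : ∀ a b, a < 2048 → b < 2048 → (H (a ^^^ b) ↔ (H a ↔ H b)) := by
    intro a b ha hb
    have hab := bits_lt ha _ hb
    by_cases h1 : H a <;> by_cases h2 : H b <;> simp only [h1, h2, iff_true, iff_false, not_true]
    · exact hclosed a b ha hb h1 h2
    · intro h
      apply h2
      have := hclosed a _ ha hab h1 h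
      rwa [← Nat.xor_assoc, Nat.xor_self, Nat.zero_xor] at this
    · intro h
      apply h1
      have := hclosed _ b hab hb h h2
      rwa [Nat.xor_assoc, Nat.xor_self, Nat.xor_zero] at this
    · -- both outside: the shifted copy is the whole complement
      have hsub : HF.image (· ^^^ a) ⊆ (Finset.range 2048) \ HF := by
        intro w hw
        obtain ⟨c, hc, rfl⟩ := Finset.mem_image.1 hw
        obtain ⟨hc1, hc2⟩ := hHlt.1 hc
        rw [Finset.mem_sdiff, Finset.mem_range, hHlt]
        refine ⟨bits_lt hc1 _ ha, fun h => h1 ?_⟩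
        have := hclosed c _ hc1 h.1 hc2 h.2
        rwa [← Nat.xor_assoc, Nat.xor_self, Nat.zero_xor] at this
      have heq := Finset.eq_of_subset_of_card_le hsub (by
        rw [Finset.card_sdiff_of_subset (Finset.filter_subset _ _),
          Finset.card_image_of_injective _ (fun a b h => Nat.xor_left_injective h), hHF,
          Finset.card_range])
      have hb' : b ∈ HF.image (· ^^^ a) := by
        rw [heq, Finset.mem_sdiff, Finset.mem_range, hHlt]
        exact ⟨hb, fun h => h2 h.2⟩
      obtain ⟨c, hc, rfl⟩ := Finset.mem_image.1 hb'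
      rw [Nat.xor_comm c a, ← Nat.xor_assoc, Nat.xor_self, Nat.zero_xor]
      exact (hHlt.1 hc).2
  have hfwd : ∀ k ∈ K0, ∀ w, w < 2048 → H w → H (act k w) := by
    intro k hk w hw h
    rcases h with h | h
    · exact Or.inl (hWact k hk w hw h)
    · refine Or.inr ?_
      have h3 := hWact k hk _ (bits_lt hw _ hv) h
      rw [F.act_xor k (by omega) (by omega)] at h3
      have h4 := hWadd (bits_lt (F.act_lt' k hw) _ (F.act_lt' k hv))
        (bits_lt (F.act_lt' k hv) _ hv) h3 (hmove k hk)
      rwa [Nat.xor_assoc, ← Nat.xor_assoc (act k v), Nat.xor_self, Nat.zero_xor] at h4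
  have hinv : ∀ k ∈ K0, ∀ w, w < 2048 → (H (act k w) ↔ H w) := fun k hk w hw =>
    ⟨fun h => by
      have := hfwd k⁻¹ (inv_mem hk) _ (F.act_lt' k hw) h
      rwa [act_cancel k (by omega)] at this, hfwd k hk w hw⟩
  have hall := F.no_hyperplane (H := H) (Or.inl hW0) hadd
    (hinv px (Subgroup.subset_closure (by simp))) (hinv kk (Subgroup.subset_closure (by simp)))
  have : HF = Finset.range 2048 := Finset.filter_true_of_mem fun w hw => hall w (Finset.mem_range.1 hw)
  rw [this, Finset.card_range] at hHF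
  norm_num at hHF

/-- The centraliser of the image of `K0`: one involution. -/
theorem JFacts.centraliser {c : G} (hx : Commute c (V.φ px)) (hk : Commute c (V.φ kk))
    (hc1 : c ≠ 1) : c = V.t := by
  have := J.pf.finite
  obtain ⟨-, hK0, -⟩ := J.proj_stab_one
  have hfix : ∀ k ∈ K0, V.φ k • ((c : G) : V.Pts) = ((c : G) : V.Pts) := by
    intro k hk'
    have hcm : Commute c (V.φ k) := J.pf.K0_induction (Q := fun q => Commute c (V.φ q))
      (by rw [map_one]; exact Commute.one_right _)
      (fun q hq => by rw [map_mul]; exact hq.mul_right hx)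
      (fun q hq => by rw [map_mul]; exact hq.mul_right hk) hk'
    show ((V.φ k * c : G) : V.Pts) = _
    rw [← hcm.eq, QuotientGroup.eq, mul_inv_rev, inv_mul_cancel_right]
    exact inv_mem ⟨k, rfl⟩
  obtain ⟨j, hj, _, ⟨p, rfl⟩, hcp⟩ := J.orbits.2.2 ((c : G) : V.Pts)
  have hsub : ∀ k ∈ K0, p⁻¹ * k * p ∈ stab V j := fun k hk' => by
    rw [mem_stab, map_mul, map_mul, map_inv, mul_smul, mul_smul, ← hcp, hfix k hk', hcp,
      inv_smul_smul]
  have hdvd : 64512 ∣ Nat.card (stab V j) := by
    rw [← hK0, ← Subgroup.card_map_of_injective (K := K0)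
      (f := (MulAut.conj p⁻¹).toMonoidHom) (MulAut.conj p⁻¹).injective]
    refine Subgroup.card_dvd_of_le ?_
    rintro _ ⟨k, hk', rfl⟩
    show MulAut.conj p⁻¹ k ∈ _
    rw [MulAut.conj_apply, inv_inv]
    exact hsub k hk'
  have h := J.card_stab hj
  have hj01 : sizes j * 64512 ∣ 501397585920 := h ▸ Nat.mul_dvd_mul_left _ hdvd
  have hdec : ∀ i, i < 7 → sizes i * 64512 ∣ 501397585920 → i = 0 ∨ i = 1 := by decide +kernel
  rcases hdec j hj hj01 with rfl | rfl
  · exfalso
    have hmem : c ∈ V.H := by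
      rw [pt_zero] at hcp
      have e : ((c : G) : V.Pts) = ((V.φ p * 1 : G) : V.Pts) := hcp
      rw [QuotientGroup.eq, mul_one] at e
      have h2 := mul_mem (⟨p, rfl⟩ : V.φ p ∈ V.H) (inv_mem e)
      rwa [mul_inv_rev, inv_inv, mul_inv_cancel_left] at h2
    obtain ⟨q, rfl⟩ := hmem
    refine hc1 ?_
    rw [J.pf.centraliser_K0 (p := q) (J.inj ?_) (J.inj ?_), map_one]
    · rw [map_mul, map_mul]; exact hx
    · rw [map_mul, map_mul]; exact hk
  · obtain ⟨v, hv, hpv⟩ := J.move_one hsub
    rw [hpv] at hcp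
    have hsub' : ∀ k ∈ K0, (pv v)⁻¹ * k * pv v ∈ stab V 1 := fun k hk' => by
      rw [mem_stab, map_mul, map_mul, map_inv, mul_smul, mul_smul, ← hcp, hfix k hk', hcp,
        inv_smul_smul]
    rw [mem_stab.1 (J.pv_fix hv hsub'), pt_one] at hcp
    have e := QuotientGroup.eq.1 hcp.symm
    rw [inv_eq_of_mul_eq_one_right V.t_sq] at e
    obtain ⟨q, hq⟩ := e
    have hcq : c = V.t * V.φ q := by rw [hq, ← mul_assoc, V.t_sq, one_mul]
    have hq1 : ∀ k ∈ ({px, kk} : Set P), Commute (V.φ q) (V.φ k) := by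
      intro k hk'
      have ht : Commute V.t (V.φ k) := (comm_K0 (Subgroup.subset_closure hk')).symm
      have hck : Commute c (V.φ k) := by
        rcases hk' with rfl | rfl
        · exact hx
        · exact hk
      rw [hq]
      exact ht.mul_left hck
    rw [hcq, J.pf.centraliser_K0 (p := q) (J.inj ?_) (J.inj ?_), map_one, mul_one]
    · rw [map_mul, map_mul]; exact hq1 px (by simp)
    · rw [map_mul, map_mul]; exact hq1 kk (by simp)

end Cfsg.Agent.Lib.J4Out38
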