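import Cfsg.Agent.Lib.J4Out38.Action

/-! Data: a Sylow two-subgroup of the complement and its normal elementary abelian subgroups. -/

set_option autoImplicit false
set_option maxRecDepth 100000

namespace Cfsg.Agent.Lib.J4Out38

/-- A binary tree used as an array. -/
inductive Arr where
  | leaf (a : ℕ)
  | node (l r : Arr)

/-- The entry of index `n` among `2 ^ d`. -/
def Arr.get : Arr → ℕ → ℕ
  | .leaf a, _ => a
  | .node l r, n => cond (Nat.beq (n % 2) 0) (l.get (n / 2)) (r.get (n / 2))

def sylWords : List (List ℕ) := [[1, 0, 1, 0, 1, 1, 0, 1, 1, 0, 1, 0, 1, 0, 1, 0, 1, 0, 1, 0, 1, 1, 0, 1, 1, 0, 1, 0, 1, 0, 1, 0, 1, 0, 1, 0, 1, 1, 0, 1, 1, 0, 1, 0, 1, 0, 1, 1, 0, 1, 0, 1, 1, 0, 1, 1, 0, 1, 0, 1, 0, 1, 1, 0, 1, 0, 1, 1, 0, 1, 1, 0, 1, 0, 1, 0, 1], [0, 1, 0, 1, 0, 1, 1, 0, 1, 1, 0, 1, 0, 1, 0, 1, 1, 0, 1, 0, 1, 1, 0, 1, 1, 0, 1, 0, 1, 0, 1, 0, 1, 0, 1, 0, 1, 1, 0, 1, 1, 0, 1, 0, 1, 0, 1, 1, 0, 1, 0, 1, 1, 0, 1, 1, 0, 1, 0, 1, 0, 1, 0, 1, 0, 1, 0, 1, 1, 0, 1, 1, 0, 1, 0, 1, 0, 1, 1, 0, 1, 0, 1, 1, 0, 1, 1, 0, 1, 0, 1, 0, 1], [0, 1, 0, 1, 0, 1, 1, 0, 1, 1, 0, 1, 0, 1, 0, 1, 0, 1, 0, 1, 0, 1, 1, 0, 1, 1, 0, 1, 0, 1, 0, 1, 1, 0, 1, 0, 1, 1, 0, 1, 1, 0, 1, 0,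 1, 0, 1, 0, 1, 0, 1, 0, 1, 1, 0, 1, 1, 0, 1, 0, 1, 0, 1, 1, 0, 1, 0, 1, 1, 0, 1, 1, 0, 1, 0, 1, 0, 1, 1, 0, 1, 0, 1, 1, 0, 1, 1, 0, 1, 0, 1, 0, 1, 0], [0, 1, 0, 1, 0, 1, 1, 0, 1, 1, 0, 1, 0, 1, 0, 1, 1, 0, 1, 0, 1, 1, 0, 1, 1, 0, 1, 0, 1, 0, 1, 0, 1, 0, 1, 0, 1, 1, 0, 1, 1, 0, 1, 0, 1, 0, 1, 0, 1, 0, 1, 0, 1, 1, 0, 1, 1, 0, 1, 0, 1, 0, 1, 1, 0, 1, 0, 1, 1, 0, 1, 1, 0, 1, 0, 1, 0, 1, 0, 1, 0, 1, 0, 1, 1, 0, 1, 1, 0, 1, 0, 1, 0, 1, 0, 1, 0, 1, 0, 1, 1, 0, 1, 1, 0, 1, 0, 1, 0, 1, 1, 0, 1, 0, 1, 1, 0, 1, 1, 0, 1, 0, 1, 0, 1]]

def sylGens : List ℕ := [11152806875609116731490856931840893710365754, 11152175038423045397620730745716062682153190, 11152414459661242613026889215390131780448769, 11150957843582338646278256704412927580041375]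

def sylEl : Arr :=
  (.node (.node (.node (.node (.node (.node (.node (.node (.node (.node (.leaf 11151733894906779683522195341810241573494785) (.leaf 11152737302361452593242348078081151435081258)) (.node (.leaf 11151138694474408021578986742883971238588495) (.leaf 11151544033036317195365356508151689351536641))) (.node (.node (.leaf 11151543732246922179902421948862156748367587) (.leaf 11152496712186382378929488614679740535068592)) (.node (.leaf 11152973200415080303236738710522534173934608) (.leaf 11150383399263059758636715839964024563310720)))) (.node (.node (.node (.leaf 11151944130755201423486545857893890138961087) (.leaf 11152064008527161937432667899297573149136776)) (.node (.leaf 11152831754915882418975358807674085035802944) (.leaf 11151680726436179565376269650848306488681765))) (.node (.node (.leaf 11152199341789377057184961443171580808012365) (.leaf 11151688702453337083907715929709889105483696)) (.node (.leaf 11151785653019949395130227428726617576960502) (.leaf 11150883106674064323674848296541480407396640))))) (.node (.node (.node (.node (.leaf 11150395202136689395264953735668674564522008) (.leaf 11150972463792525347783417252516176748738373)) (.node (.leaf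 11151856560648600763977124901282904154960374) (.leaf 11151546313520501661280237867256406513559265))) (.node (.node (.leaf 11151683223355204788106652216024048722782132) (.leaf 11152199125354498153363312908814400477996600)) (.node (.leaf 11151223472097425979389649724215831738515535) (.leaf 11151498539236098550387282024628525101810727)))) (.node (.node (.node (.leaf 11150379628014269710971912681627546887442444) (.leaf 11151736554011998412831156563088266747716079)) (.node (.leaf 11152470752232675932250254519495919057043473) (.leaf 11151546391352099835139692360451347873538178))) (.node (.node (.leaf 11152547847517630747492662670399846840047046) (.leaf 11150951273418818447467657424205269341622958)) (.node (.leaf 11151040414659182925927337273711291071591516) (.leaf 11150479568695004071002771319162080612909286)))))) (.node (.node (.node (.node (.node (.leaf 11151739213117177937564722770041403038786851) (.leaf 11152653638901190420303495283056281702695759)) (.node (.leaf 11152470127534300441613996798933931463346084) (.leaf 11152926506220588480732502640459059184588680))) (.node (.node (.leaf 11152766795409514310821890964437619069982150) (.leaf 11151022598339036155137633055834794421179253))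 (.node (.leaf 11151063964737932539319576369976596524299491) (.leaf 11151380613969658590052612024670094555678503)))) (.node (.node (.node (.leaf 11152125856277794726443002834792018840920655) (.leaf 11152488897057578661538673654355240650041057)) (.node (.leaf 11150687710158660248297007497841343951077640) (.leaf 11151680643379674111641301179513462098781921))) (.node (.node (.leaf 11151336920813470689132225869194647033139635) (.leaf 11152198964466433868722358731161706711491544)) (.node (.leaf 11150678327699777629105249257234743700816381) (.leaf 11151450987168755200310487443679293753390231))))) (.node (.node (.node (.node (.leaf 11152846675266577496168922689323551798456771) (.leaf 11152313439631325770569779142958288289726984)) (.node (.leaf 11151873554135790894982590387670056893543582) (.leaf 11152923930821061049241662163003061621543274))) (.node (.node (.leaf 11151153238707799202633363558374173875134953) (.leaf 11150420618945334161397917078479274455389528)) (.node (.leaf 11151064257706657743301544030833726359990785) (.leaf 11152846675884492285230689695967753096786975)))) (.node (.node (.node (.leaf 11150951444694662134711063553818235908953992) (.leaf 11152766998861067877328156639407319616623699))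 (.node (.leaf 11151380320280534186253936427846367149359680) (.leaf 11153022210636274767265950585745184109664129))) (.node (.node (.leaf 11150714753800219149453637392663697238852864) (.leaf 11150463071184761542090740311770247355486244)) (.node (.leaf 11152147125131334899400818898009251430596656) (.leaf 11150755500025452884586336783326743452780212))))))) (.node (.node (.node (.node (.node (.node (.leaf 11151158339184604814949200651719976716636653) (.leaf 11150755959868086195926550691828725783851265)) (.node (.leaf 11152147125131327608942492715711469851837281) (.leaf 11152337658218434951555095189689197210949577))) (.node (.node (.leaf 11151688619396853788460758379324866167857284) (.leaf 11151576010576849447784893582733952857707221)) (.node (.leaf 11150477775769136534502030673066908356510947) (.leaf 11152414460381652476560112050502232468747245)))) (.node (.node (.node (.leaf 11151179446654223593590799840890251507728464) (.leaf 11152496790018284102953799741458942366081513)) (.node (.leaf 11150404506732677567860322640887941849743377) (.leaf 11151158556917537110140421672873950120023779))) (.node (.node (.leaf 11152491471807945426466280001053923190252839) (.leaf 11152120916688745180237772100867426204278796))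 (.node (.leaf 11152074095495030053032011335559205111267565) (.leaf 11152030529277180551506409705724055967626960))))) (.node (.node (.node (.node (.leaf 11152737301865264440691300808533178071450207) (.leaf 11152414460958985638262543540819866891711715)) (.node (.leaf 11151934824861476216484268122871661155971512) (.leaf 11152190989747345566019126676987600369668683))) (.node (.node (.leaf 11150699755526066088110782461848074147866339) (.leaf 11152196305361557015994164901458930031956992)) (.node (.leaf 11150478943500408035520810020129991835058783) (.leaf 11151522387477098600171253379961338545112819)))) (.node (.node (.node (.leaf 11151028074841016037144579330539068969226831) (.leaf 11152716033507915583882840871393786269831200)) (.node (.leaf 11152313732022686019691868485735741724361073) (.leaf 11150545565727758136057412775470249652789492))) (.node (.node (.leaf 11150478068160504774941641209834286669169153) (.leaf 11151284706194213352077567393540676154594552)) (.node (.leaf 11151063964017520378415539575070765351563904) (.leaf 11151661956912899498156075204326218387226704)))))) (.node (.node (.node (.node (.node (.leaf 11151944130075367462626059224407388458710736) (.leaf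 11150404505931094622303657967240612393583101)) (.node (.leaf 11152654097446073749180831687976874008446778) (.leaf 11151546690843461692016463208571876067516911))) (.node (.node (.leaf 11150458053763789266384801023321003511521312) (.leaf 11151158178296882383191956084307874279335207)) (.node (.leaf 11150564014588360058537898159767009543389208) (.leaf 11152175037621489079677546654073872440164400)))) (.node (.node (.node (.leaf 11150694439912467089874086930840675163885573) (.leaf 11152988687433200653620262952456991389832158)) (.node (.leaf 11151934825479369696100458511610458058388703) (.leaf 11150545404839666233689579665249670317220866))) (.node (.node (.leaf 11150379412877474863761231984938137981837348) (.leaf 11152988604376722205044980592420209628832629)) (.node (.leaf 11152035629682449416432399775686076207330038) (.leaf 11150479568694999081775925738848814237810736))))) (.node (.node (.node (.node (.leaf 11152414460959003951434400832053794272511783) (.leaf 11152935982092383424154199766297257749025203)) (.node (.leaf 11152414460381676533146158134518352695067200) (.leaf 11152716194395679308717311605920144906264822))) (.node (.node (.leaf 11152716412128597629776631414286729902330447)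 (.leaf 11151546690843428913953741795763596858255286)) (.node (.leaf 11151218371589635974956106623278870572954729) (.leaf 11151661956416690098276387094971526091440637)))) (.node (.node (.node (.leaf 11150376592884221199805752307011569552728074) (.leaf 11152713536588885292154831260388399186470456)) (.node (.leaf 11151775317501988177787743894685055741194399) (.leaf 11152716412128616813164099631138800316456968))) (.node (.node (.leaf 11150724058396200487564772825425155383228084) (.leaf 11152196683982245727670253319618105337456186)) (.node (.leaf 11151856100805992385944188479860932439245530) (.leaf 11152846549028717274764026700714036181988139)))))))) (.node (.node (.node (.node (.node (.node (.node (.leaf 11150957843582338646278256704412927580041375) (.leaf 11151380320280507673732678443876294654031075)) (.node (.leaf 11150584202979875951670063836521902141732063) (.leaf 11152196466249310517462525112820847905117041))) (.node (.node (.leaf 11150453938696828129109408001951042463373183) (.leaf 11150420458056943467057098035730425961275881)) (.node (.leaf 11151810990871573184631994653430760576451811) (.leaf 11152806581920004667637591913009349493064200)))) (.node (.node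 (.node (.leaf 11151810990871589157893606507244819904591708) (.leaf 11152547676241776361514769124302878437577139)) (.node (.leaf 11150972465090305555912890392201323384271525) (.leaf 11151543654415621876086815819726986428817536))) (.node (.node (.leaf 11152337741274926812591362626612344682762965) (.leaf 11150463369378003425824225484989364142920267)) (.node (.leaf 11150863544279305433362597404634191975482804) (.leaf 11151987867743428397747062900647551437501810))))) (.node (.node (.node (.node (.leaf 11150478943996643610880935684257574800131018) (.leaf 11151380321000938871888030123004729385153152)) (.node (.leaf 11150687709397697444890803442275145649615136) (.leaf 11150460334247954834372396570852737434001997))) (.node (.node (.leaf 11152713753023743867634993143137166256251124) (.leaf 11151022974364226839726293468525121548898546)) (.node (.leaf 11150798036619085494049421877720868015112480) (.leaf 11152175663617613342684634746563663547663201)))) (.node (.node (.node (.leaf 11150379329821000859527828182052414464512885) (.leaf 11152721512606037223516697935581007912657483)) (.node (.leaf 11150678326898257943305274166300805981863953) (.leaf 11152996662151987479234244505170084980859469)))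 (.node (.node (.leaf 11150374094667108310453451115866232945415738) (.leaf 11152191365772516016505917778671027678139358)) (.node (.leaf 11150957842902492796194007540983189815817407) (.leaf 11150798035321316910521139111629756716152064)))))) (.node (.node (.node (.node (.node (.leaf 11152147123833566787785226700668199978992223) (.leaf 11151785652483172072876464307479860812514127)) (.node (.leaf 11150477775769153532684071735920206109341479) (.leaf 11151549348650565985961099585392714748814680))) (.node (.node (.leaf 11150420618945367016814262022098413837901829) (.leaf 11151152940514568443577508638847043009828784)) (.node (.leaf 11150724058396184514302325103470434470396288) (.leaf 11151054659421545102004475435146650116027904)))) (.node (.node (.node (.leaf 11151155681377831809400477607633228369242038) (.leaf 11152120540663580721787641494602501051699236)) (.node (.leaf 11151203909702679868058818489028906059428160) (.leaf 11152713375700795953209614500141500580504435))) (.node (.node (.leaf 11151739428253939106156180897386780774393776) (.leaf 11150385897480174360586832021271658014711811)) (.node (.leaf 11151987994599219328555279151657696049623676) (.leaf 11151203451157804074928664687948694761895604)))))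 (.node (.node (.node (.node (.leaf 11151934826159226344863409737210648210305835) (.leaf 11151734112639746061000046601253256723177965)) (.node (.leaf 11151755627570966679177565528485053782362020) (.leaf 11152721727742827532157869986841783883584373))) (.node (.node (.leaf 11150453938696839209837065360199916396794963) (.leaf 11151155897812668148685985058951726100391262)) (.node (.leaf 11151002820827476328428169688664191159829485) (.leaf 11150972463792534088600679364615005961582574)))) (.node (.node (.node (.leaf 11150699755526094689148154503028904505675840) (.leaf 11150460495136041616488253498816634915135522)) (.node (.leaf 11152225926410461369550141745226010622292645) (.leaf 11151680565548068868646387703758064780861935))) (.node (.node (.leaf 11150564013290586487532754168166902106489697) (.leaf 11152988526544817246560478070904383965520114)) (.node (.leaf 11151944129457470292517933684890006620599447) (.leaf 11152846676564335007343909852819417572438456))))))) (.node (.node (.node (.node (.node (.node (.leaf 11150417876783679656277483812788953424078174) (.leaf 11151810991448899286456492191773683477447296)) (.node (.leaf 11151054660141953649864258895797750687924698)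 (.leaf 11150460334247935999071441341390084330513267))) (.node (.node (.leaf 11151546391352125245389777672283804145837406) (.leaf 11151543732246939178085288429182193556296999)) (.node (.leaf 11150584202979890087815144938661733689062012) (.leaf 11151064257706669984312906400842295415996992)))) (.node (.node (.node (.leaf 11150386058368272343110183075765748588635486) (.leaf 11151733734019044614910220246530126488573276)) (.node (.leaf 11150404505931118060068580220874056571879504) (.leaf 11152716111339199696206887195023053514875761))) (.node (.node (.leaf 11150462993352810705554908743796208988873732) (.leaf 11150457675143082621342543981290071420080136)) (.node (.leaf 11151775191264126509625153808014627055466192) (.leaf 11152806581919976492039940513896409420395040))))) (.node (.node (.node (.node (.leaf 11150755501323237180721080911119922295275840) (.leaf 11152313438333547923864632437938118227260474)) (.node (.leaf 11152806875609114700992032896101270578856694) (.leaf 11150699594638300917222098122801643924758529))) (.node (.node (.leaf 11150417876783687952318144315396129258758274) (.leaf 11153022007184705014670538878878880328372659)) (.node (.leaf 11151002820250128895903871039933282355577345)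 (.leaf 11151179446654195611373725924475383796795123)))) (.node (.node (.node (.leaf 11151022974364210421687940792206742920389195) (.leaf 11150420535888865613962876294134608496191207)) (.node (.leaf 11150584329217751569352666144775166846694187) (.leaf 11150548063944556141017899387249764203024396))) (.node (.node (.leaf 11151810990151144436835261178571149805683201) (.leaf 11152337829494293630102437732909277668480612)) (.node (.leaf 11151661955615104690155566175318068491780240) (.leaf 11150436408700774207754221291371757032244535)))))) (.node (.node (.node (.node (.node (.leaf 11150863250590149791817908688423535191389165) (.leaf 11152972574418952744299301994844007360955233)) (.node (.leaf 11151272869319580047151106518100758169777310) (.leaf 11152199341789362746999688890403265615782914))) (.node (.node (.leaf 11151688619396882389496809170130314989196579) (.leaf 11151844597688486889302139150273881241589348)) (.node (.leaf 11150883106674033653463779619345248772227697) (.leaf 11151203909702665712577547807079457717551341)))) (.node (.node (.node (.leaf 11150697014662831392975403875942753152032834) (.leaf 11150417959840148225322073622606714847125999)) (.node (.leaf 11151708640893221056047392007802297986445832)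 (.leaf 11151683384242937406359758926531820768499427))) (.node (.node (.leaf 11152547472790189371611111984990510344886145) (.leaf 11151739130060709591478321276765172379182424)) (.node (.leaf 11151223471377016052566387894766212988600864) (.leaf 11152030403039303947543170809235907777523871))))) (.node (.node (.node (.node (.leaf 11151786111564817183320299248891837464311040) (.leaf 11150694439912489966834275769905071077221720)) (.node (.leaf 11152972575716722326098648087456474682425574) (.leaf 11150542906622565359157562302742815963648032))) (.node (.node (.leaf 11150545782162621440604404141475080800575498) (.leaf 11151549348650550012696976597620922705827559)) (.node (.leaf 11152147124635117644208340762170678132671504) (.leaf 11152147749829717530001545610272345379897368)))) (.node (.node (.node (.leaf 11150376753772281099042178701753073168032627) (.leaf 11152120540663550051573831096844963090031477)) (.node (.leaf 11151223471377002264508174126286312238084616) (.leaf 11150548224832932875302475754872224400069493))) (.node (.node (.leaf 11151218370971766196218800605890244807096133) (.leaf 11151336832594083628376085954425688243623366)) (.node (.leaf 11151203450621018893770414022802215490155612)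 (.leaf 11151138402083036853357479936961531711914353))))))))) (.node (.node (.node (.node (.node (.node (.node (.node (.leaf 11152175038423045397620730745716062682153190) (.leaf 11152035629682421240834669469571687844479450)) (.node (.leaf 11150437033399160053918928802931776645300304) (.leaf 11151546474408569618898566385340876087894019))) (.node (.node (.leaf 11151284992702235023075300055002765216765865) (.leaf 11153022293692754649458909194411894002717944)) (.node (.leaf 11152030529277196312049885612757848111576169) (.leaf 11151336920813469915606936993069409458754808)))) (.node (.node (.node (.leaf 11150395202136703183325103512322267917910064) (.leaf 11152547676241779552298977222376060029032319)) (.node (.leaf 11151755002872592844300814563574957593395280) (.leaf 11152337741274925555615041251754623748313450))) (.node (.node (.leaf 11150374011610641726016432297215678107099144) (.leaf 11151844597688466081516492369510814849750985)) (.node (.leaf 11152806582640417570949981552612095537312218) (.leaf 11150723599851310125727014222848206365067235))))) (.node (.node (.node (.node (.leaf 11151944130755211053856152980446219992692718) (.leaf 11150688169240310116917030348570178612753114))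 (.node (.leaf 11152806583217742319519586013466290938775040) (.leaf 11152063837251320887889661568778656317755754))) (.node (.node (.leaf 11151688917590099279352612722765514948531544) (.leaf 11152988902569980300248809104043002845750276)) (.node (.leaf 11152313732022672889127683795680467402486304) (.leaf 11151522387973342081990974985082745248613687)))) (.node (.node (.node (.leaf 11152488814001137861586273523195588122779714) (.leaf 11153022293692746082683048738728458893972563)) (.node (.leaf 11151450986488931258836990549946434169991845) (.leaf 11152123575793629081103890543366117187919906))) (.node (.node (.leaf 11152935893873028629925164038550933655311241) (.leaf 11151285080921625731769442559301608067880019)) (.node (.leaf 11151662581611245763626419116835057174644467) (.leaf 11150755959868100351409252147028310528951335)))))) (.node (.node (.node (.node (.node (.leaf 11150460495136015548740045981825492433527810) (.leaf 11150714294718569430683747776354444507739962)) (.node (.leaf 11151054660141962177962767317561534690488689) (.leaf 11152191365772504897103180109867723882783605))) (.node (.node (.leaf 11150545404839685068989275760389146336585272) (.leaf 11152926302768977565745458252004798594864740))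 (.node (.leaf 11152877032301510389054135944458565403144736) (.leaf 11151811283840301107034702741849185454782247)))) (.node (.node (.node (.leaf 11152123359358737947544126839900800976708467) (.leaf 11152491471807907311089142248110504510265059)) (.node (.leaf 11152691155591077833614733014109379503977695) (.leaf 11150694356855997306632351234030629826384004))) (.node (.node (.leaf 11152924019040401127372240973814637448959945) (.leaf 11151152862682627852115859855165817792520324)) (.node (.leaf 11151203449860059395480658439403619047044135) (.leaf 11151498539772853946820698895189633357907636))))) (.node (.node (.node (.node (.leaf 11151498539236116012683982045249543220097261) (.leaf 11150687710695428668077788292616311092086016)) (.node (.leaf 11151873680373663148920809911225773461206239) (.leaf 11151683223355188814843420436628437928022144))) (.node (.node (.leaf 11150462993352817377194331625315555933213662) (.leaf 11152196683982264911056842001529781779730678)) (.node (.leaf 11151218244733880134199491666110126212379301) (.leaf 11152972574418978812046197203954069421491146)))) (.node (.node (.node (.leaf 11150373933779331753604940774616261883105871) (.leaf 11151733811850309909042714963731740375392384))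 (.node (.leaf 11151810991448917599628155283862573850161728) (.leaf 11150457752974375434323704258488352597090895))) (.node (.node (.leaf 11151873681671435849383835933382742023729603) (.leaf 11152996579095512508177151129781308747686872)) (.node (.leaf 11150404507228858978387291198286047657132176) (.leaf 11151343478642248897633738734431730750521664))))))) (.node (.node (.node (.node (.node (.node (.leaf 11150415300734996717150695594618250881672487) (.leaf 11150957842284594611018217106649284017255077)) (.node (.leaf 11151755002376398462163794858335914288022839) (.leaf 11150460711570882749829469060692853271831512))) (.node (.node (.leaf 11151844514632016376772343050920968817514249) (.leaf 11150379251989102481994369172504553115902942)) (.node (.leaf 11151272743081710776612950272102041457914492) (.leaf 11151049182310610580888005870643330276197322)))) (.node (.node (.node (.leaf 11153022210636271576482636651992011431794118) (.leaf 11150951356475297862899830039591730145710141)) (.node (.leaf 11153071316095626235673927902943633226724510) (.leaf 11152496712186357046030774380394597037663975))) (.node (.node (.leaf 11151155520489757889037693708526769789739074) (.leaf 11151576181852712585597383389855103948722237))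 (.node (.leaf 11151380613969642732818118491137404733879277) (.leaf 11152175038919235573827156912186329759023711))))) (.node (.node (.node (.node (.leaf 11151218372269525765348277819514354589628112) (.leaf 11151873680991577726813551488549609460593276)) (.node (.leaf 11150678326898261366148398898675643031029047) (.leaf 11152199042298060958389361026656404611538978))) (.node (.node (.leaf 11150548439969725860486523365277606619406372) (.leaf 11151336832594079722082091967576990870443903)) (.node (.leaf 11151223472674762948830148933623700724450362) (.leaf 11151179447150392073604856287984798213931152)))) (.node (.node (.node (.leaf 11150951273418852095745134367933835242935908) (.leaf 11152713753023738182235621741006224078430242)) (.node (.leaf 11151039956114335152718138672676681335567399) (.leaf 11150460412079544157122842261262020527531576))) (.node (.node (.leaf 11151523012671712906806598448545604633165841) (.leaf 11151153238707823104513362344686656951996484)) (.node (.leaf 11153071314797879498624011869737391531618940) (.leaf 11150436408204543536777750900810614857336740)))))) (.node (.node (.node (.node (.node (.leaf 11152691155591074449451009233772674536830322) (.leaf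 11150798036082312426815028073913242304448314)) (.node (.leaf 11150723598553586902022224006883624898068737) (.leaf 11150420458056978971791975416601522529162531))) (.node (.node (.leaf 11150545482671278451665714069983361283138419) (.leaf 11152547847517629973967525835788958322709385)) (.node (.leaf 11151002819529714272285720092990495818581219) (.leaf 11151856560648594247040566101284715372806991)))) (.node (.node (.node (.leaf 11151576093633338336294099014890377879017352) (.leaf 11151543654415623094387689211047578286200756)) (.node (.leaf 11151522386675572769842925181409182594697124) (.leaf 11151680726436175446362671008835559068033027))) (.node (.node (.leaf 11152988604376741117695846801546181420307019) (.leaf 11152489113492464609463803033857151360575414)) (.node (.leaf 11151775318119900519455000597881528465880901) (.leaf 11151179445852660666023627380856880404432183))))) (.node (.node (.node (.node (.leaf 11151138401505696627662030457011515735213568) (.leaf 11150374094667089397802146794290047581430784)) (.node (.leaf 11151708933284599750488703437818831868855354) (.leaf 11150697314154130648950927173273379231770337))) (.node (.node (.leaf 11150420535888891971780730127890456247849028)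 (.leaf 11152926677496423156453634119134183375294826)) (.node (.leaf 11151785651722194117776204512571867737950010) (.leaf 11152877031724202951786963434011717948998152)))) (.node (.node (.node (.leaf 11152496873074775339612515115652057633706052) (.leaf 11152721727742853754610361160205697940480990)) (.node (.leaf 11152846675884485110801179543609506238428383) (.leaf 11152721512606036759403211425858802645783556))) (.node (.node (.leaf 11150436407403016493574328662061884134982988) (.leaf 11150463154241198187333443013089206919521141)) (.node (.leaf 11152972575220511354158056494105028482629680) (.leaf 11151002820250152952488486350699266178676519)))))))) (.node (.node (.node (.node (.node (.node (.node (.leaf 11151155598321341529512101128630870101484015) (.leaf 11150883107210815728666970232034777680704218)) (.node (.leaf 11152030530574936188657534951651103934642158) (.leaf 11150463369378004160669788929773649367425266))) (.node (.node (.leaf 11152196383192854466873131611230239849456602) (.leaf 11152123276302289461878885074222772960371277)) (.node (.leaf 11151755002376370479947546435920941745766544) (.leaf 11152806583217742783633196458371989065297999)))) (.node (.node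 (.node (.leaf 11150395202632883089822209022697892299736080) (.leaf 11152491554864408716996008620285707769384961)) (.node (.leaf 11151450859633158256736124321376257959392361) (.leaf 11150388556585042169456305203440022736916612))) (.node (.node (.leaf 11152063633799720182652042460941277699019438) (.leaf 11152994003046786066072535891481061110617088)) (.node (.leaf 11150723599851326737148122976127782263320896) (.leaf 11151218372269529033486544419449606257636503))))) (.node (.node (.node (.node (.leaf 11151450859633132092298860082277440150959941) (.leaf 11151040414659181707627110598199945735505891)) (.node (.leaf 11151708640315899230439692806123320766431776) (.leaf 11151284706194197610872035774757505490015686))) (.node (.node (.leaf 11151736470955506588864732760866704062424801) (.leaf 11152123575793618135743960377224626022932724)) (.node (.leaf 11151873680991570552380654055264525320057272) (.leaf 11151873680373674829126876633985017843414386)))) (.node (.node (.node (.leaf 11152996501263910507706015839860137889128458) (.leaf 11150854322831630224408634635638764287333830)) (.node (.leaf 11151049182806835339790616026982867254968368) (.leaf 11152767081917544291559904210446882306578305)))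 (.node (.node (.leaf 11151054659421540963654502164264850015978554) (.leaf 11150699672469590462103391646059495991842740)) (.node (.leaf 11151522386675556796581087898489433780977808) (.leaf 11152653638364449831617483534621212824109786)))))) (.node (.node (.node (.node (.node (.leaf 11151755627570943647510422438470256822387197) (.leaf 11153056853528807214641184897833047428235766)) (.node (.leaf 11152225925792540507330717108152054783276137) (.leaf 11151030650889735886033751901401726769455693))) (.node (.node (.leaf 11150545565727741718016926296890813962019405) (.leaf 11151030650889755069420465354159543143112714)) (.node (.leaf 11151775191264113243694486074492192069122030) (.leaf 11152654097446084385130765790742357175038216)))) (.node (.node (.node (.leaf 11151158256128161552481019096451712221716544) (.leaf 11150697097719260594942115440147609455435906)) (.node (.leaf 11151934824861472832319132233889425950110878) (.leaf 11152721351717661716954397151328917337460978))) (.node (.node (.leaf 11150376753772307166787814705731546755654616) (.leaf 11152496790018282865315727065200204820567384)) (.node (.leaf 11151775317501979436969795574218441753228479) (.leaf 11151523012671680051389355706374455245735244)))))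 (.node (.node (.node (.node (.leaf 11150972337554639501656824930462520823116951) (.leaf 11150699594638324973805887868527736553772327)) (.node (.leaf 11151039954816565220572869344212680567289524) (.leaf 11150417798952104752602833352639583333933059))) (.node (.node (.leaf 11152713375700791892211249237201459150348877) (.leaf 11151158339184603577311666888145716092347740)) (.node (.leaf 11151934698623605109563618578318610353747314) (.leaf 11151343478642254757075509578219537932349677)))) (.node (.node (.node (.leaf 11151736470955498292824958200132929786505142) (.leaf 11150542745734800580649792187986034867315569)) (.node (.leaf 11150798495163979666899113823360059001864922) (.leaf 11151683601975874611530457341855036658455021))) (.node (.node (.leaf 11151662581611262142989080360976563802539319) (.leaf 11151336749537623482394977392613238830060627)) (.node (.leaf 11151272870617339805622233019689760286438431) (.leaf 11152147123833582587003481717575190969385190))))))) (.node (.node (.node (.node (.node (.node (.leaf 11152198964466442319466134836689221558755572) (.leaf 11151054660719308675744161718131242146267680)) (.node (.leaf 11150714293957593739272701675777458725057242)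 (.leaf 11151152940514577184394260943347038877147141))) (.node (.node (.leaf 11150383399263086271157974406657667606549799) (.leaf 11151028292573980995295711062873701713744858)) (.node (.leaf 11152030530574948081582861388494944086914239) (.leaf 11151039954816552090008095910812798290034925)))) (.node (.node (.node (.leaf 11152191150635738237644151497559834946986226) (.leaf 11152488736169541767669219053322812094686501)) (.node (.leaf 11153071315415765584799354881370174147654443) (.leaf 11152926589277058273347954798215026903144201))) (.node (.node (.leaf 11150388932610222876005300099192518375690245) (.leaf 11150415300734968116114315722834879320723584)) (.node (.leaf 11150755500025485740001760971207017556996333) (.leaf 11150798036619093867442692820605002229346568))))) (.node (.node (.node (.node (.leaf 11151775318119906050149369390954240478409879) (.leaf 11152691029353209179472853533235308572308511)) (.node (.leaf 11152414459661253829119603129401542099142068) (.leaf 11152063920307763562976935057363105411028580))) (.node (.node (.leaf 11150548141776491776707619247134752280437726) (.leaf 11152979758396853549248561571841857522553518)) (.node (.leaf 11151661956912864457535404044462586933084177)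 (.leaf 11150883105913051750815494543919804134262016)))) (.node (.node (.node (.leaf 11152489113492441655149816216476933748187631) (.leaf 11150545482671285123308463883627053296148514)) (.node (.leaf 11150395201335140103565048097095270948471391) (.leaf 11151739130060718332294239518604581821534697))) (.node (.node (.leaf 11151054660719317455238807677933113513210614) (.leaf 11150454225204885640787460940172626765584257)) (.node (.leaf 11152035923371562373420949475328551490810225) (.leaf 11152877031003766221667004522423614468850033)))))) (.node (.node (.node (.node (.node (.leaf 11151272869937472385721281555362192287200626) (.leaf 11152877031724182414734022510872220844815418)) (.node (.leaf 11152074554039936460806004428872173352976641) (.leaf 11151158256128144554299526241520657532227712))) (.node (.node (.leaf 11152767170136921929319986038464810160019327) (.leaf 11151688702453314206946197271767475166405097)) (.node (.leaf 11152737301063698814191318113849117414327312) (.leaf 11150723599314567542400299261760842453611559)))) (.node (.node (.node (.leaf 11151733894906778445885487726946671964755892) (.leaf 11150542823566087214774208361261390125109839)) (.node (.leaf 11151049182806805288396902347805095447561057)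 (.leaf 11152988902570006522699304426286207804690468))) (.node (.node (.leaf 11151027991784559525820775049371058821435424) (.leaf 11151028074841020175494552018838036009722737)) (.node (.leaf 11150564639286748099090715775388773169299504) (.leaf 11150883565755686205558255005868057682837768))))) (.node (.node (.node (.node (.leaf 11152074094197286909595604394219313580077376) (.leaf 11151576093633317528509657687235009990660782)) (.node (.leaf 11150404506732668981749150302623506463000484) (.leaf 11150545782162632385964458967246835877438424))) (.node (.node (.leaf 11152721429549580559251749045356643743719460) (.leaf 11150386058368256447198493150306743684703969)) (.node (.leaf 11150863251310583296194118851793733095649793) (.leaf 11151095865489409701736400201325383551877760)))) (.node (.node (.node (.leaf 11150418176275044418163030865063182872880421) (.leaf 11151158556917562597744191477534917046314932)) (.node (.leaf 11151003113218862849528878756704394001643356) (.leaf 11151155520489731376515009234280521480038113))) (.node (.node (.leaf 11152737927059837653845657585487859475874762) (.leaf 11150457836030843497933409406878144127340790)) (.node (.leaf 11151775318799747140807135696056005292585637)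 (.leaf 11150415518467919863260246052521272665972800)))))))))) (.node (.node (.node (.node (.node (.node (.node (.node (.node (.leaf 11152806875609116731490856931840893710365754) (.leaf 11150564639286737695198585452255380606353638)) (.node (.leaf 11151063964737933757619374156561635176679260) (.leaf 11150463154241198651447062609238979121829438))) (.node (.node (.leaf 11152491772597318891498591129555587009384576) (.leaf 11150951069967248208066375929631981593745353)) (.node (.leaf 11150863251887914160105119488556434872464000) (.leaf 11150417798952096166490706468609727148337078)))) (.node (.node (.node (.leaf 11151498998317743093519819441879799183770716) (.leaf 11151030950381082116132605281851291631380024)) (.node (.leaf 11151873554135787104718034073083505215664939) (.leaf 11152123276302287508729838849381217433837578))) (.node (.node (.leaf 11151733811850348024418477777360985683169344) (.leaf 11152996878586829165817033963681658936779635)) (.node (.leaf 11152470127534308737654726193673123416573683) (.leaf 11150863544279279945757836014344972358251747))))) (.node (.node (.node (.node (.leaf 11150477774471383990600395544019191357047789) (.leaf 11152147749829727933893800446669013963047882))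 (.node (.leaf 11151755002872601024314319637524201417539601) (.leaf 11150388634416976140737715947467865807443687))) (.node (.node (.leaf 11152716194395693096776706548673964871816154) (.leaf 11153022381912105529430792934104821766068095)) (.node (.leaf 11152030529895060558555293636088235436930199) (.leaf 11151934698623608822475811901248573615501763)))) (.node (.node (.node (.leaf 11152935982092399126685393411917158056252664) (.leaf 11150699672469623317520728104484045582246381)) (.node (.leaf 11151708640315892964897801826701403147073024) (.leaf 11152126017165550806068729226124533264060424))) (.node (.node (.leaf 11150699973259016801767995925142150653187420) (.leaf 11152996662151988291434623458570061702258932)) (.node (.leaf 11153056393686155482590193437625692313420401) (.leaf 11152030403039317213473179073948815003873957)))))) (.node (.node (.node (.node (.node (.leaf 11151152862682619710779820160210128812430680) (.leaf 11151522387477124493875827075729826328412240)) (.node (.leaf 11151272743081699502505991533135183733191903) (.leaf 11151549050457289457937282038488504248881157))) (.node (.node (.leaf 11150854239775162086029700963995045695378680) (.leaf 11151022676170975227121185650733183534130750))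 (.node (.leaf 11150437033399122557360767928889822951833744) (.leaf 11152074095495028815393694312048288094352476)))) (.node (.node (.node (.leaf 11152196383192860074921333041342390698807304) (.leaf 11152126234898479936089550375236899100959706)) (.node (.leaf 11151708639595466676695304278357829592150385) (.leaf 11151576010576873465694804615153853744600841))) (.node (.node (.leaf 11152120916688728762196842501024651243214398) (.leaf 11151739213117160939384055409209199566575335)) (.node (.leaf 11151661955615105908455046299082546668963748) (.leaf 11150478943500411555053893274261008127427425))))) (.node (.node (.node (.node (.leaf 11153056394983943463866879332963575616106784) (.leaf 11150972337554670152531142557290877267080383)) (.node (.leaf 11152831755452640596872708587223063813227612) (.leaf 11151680942871011486696058641257536579199106))) (.node (.node (.leaf 11152491393976618983818651325910539625337325) (.leaf 11152125934109067049577131953147804408358458)) (.node (.leaf 11152846676564338584890751257310141827642738) (.leaf 11151138400785272029891294610520405323088630)))) (.node (.node (.node (.leaf 11150697014662795733534970812251402919747587) (.leaf 11150415139847200482510322657579833243506403))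 (.node (.leaf 11152074094958272385470600544510245024167604) (.leaf 11150415217678493725950398013316487653659117))) (.node (.node (.leaf 11151138401505688099563306441191020617658912) (.leaf 11150457836030835124540682712667515193926618)) (.node (.leaf 11153071188560007767789035241037936166827039) (.leaf 11151002820827463275215569513107260332176820))))))) (.node (.node (.node (.node (.node (.node (.leaf 11150383616995995718882091379754619459114932) (.leaf 11152175663617627652873672812069929840870954)) (.node (.leaf 11151856102103728019177341063945687833577274) (.leaf 11151544033036352854803538315531352251338816))) (.node (.node (.leaf 11152996501263924218410475369028465635368994) (.leaf 11150951069967271471789542615162863461372266)) (.node (.leaf 11152225927090328464216380119440801480177477) (.leaf 11150957716046704627613441033303160507725806)))) (.node (.node (.node (.leaf 11151158178296878341531154683559676279820289) (.leaf 11150694655049285034990028870342948343566825)) (.node (.leaf 11151708639595465787141682729584562721062991) (.leaf 11151549133513754337325003071733448228524164))) (.node (.node (.leaf 11150379251989071811781752192548346674074628) (.leaf 11152191150635749260353992134766987113451556))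 (.node (.leaf 11150564014092138270138911377320135482213930) (.leaf 11152653638364419161405535176117599321322752))))) (.node (.node (.node (.node (.leaf 11151002819529723071118355851421904907399744) (.leaf 11152832213997499774224928629307503822893440)) (.node (.leaf 11151810990151143199197727997579722240947636) (.leaf 11151285080921621748123085330137564120127361))) (.node (.node (.leaf 11152721429549589087349077200594581065355276) (.leaf 11152123198470663389561407610774154708526648)) (.node (.leaf 11151450987168775621334072117183248316626640) (.leaf 11151138694474427204964303681387266299724296)))) (.node (.node (.node (.leaf 11151027913953277120780866923843087526535176) (.leaf 11151844514632023280470742486316633126654677)) (.node (.leaf 11151063964017529177247985746042880962660135) (.leaf 11150542823566086750659339000377382245770240))) (.node (.node (.leaf 11151944130075353307142701754522163504345247) (.leaf 11151734112639738499807720839278240988697895)) (.node (.leaf 11151343020097345896523531846666622059803008) (.leaf 11151987995279064917081459564507439718593759)))))) (.node (.node (.node (.node (.node (.leaf 11151054953110670181871786637850021643022856) (.leaf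 11151095866209845656471229075056413542253549)) (.node (.leaf 11150957842902498326888205703935190309139561) (.leaf 11152979471888840515774543569124674418299605))) (.node (.node (.leaf 11152923930821042678056437099409081340826325) (.leaf 11150383316206617919636185582500401227797852)) (.node (.leaf 11151873681671438692083920471115409075598367) (.leaf 11151380321578266191324296481468071609960284)))) (.node (.node (.node (.leaf 11150376970207137560747087014337025820090957) (.leaf 11151688917590098061052630539821104339379943)) (.node (.leaf 11150687709397686422178221229589582910128630) (.leaf 11150543124355505714193317336459240183701750))) (.node (.node (.leaf 11152935607364949474951028827111977463092307) (.leaf 11150385975311806124674360542771758325851429)) (.node (.leaf 11150564013290597761641106247967032096129994) (.leaf 11151450985871028556496728361633585205736639))))) (.node (.node (.node (.node (.leaf 11151179447150417561208258993133696347866444) (.leaf 11150376670715826129274277808525650864120052)) (.node (.leaf 11152225926410460596027442257735235899357166) (.leaf 11151733734019028641648419386751639980353251))) (.node (.node (.leaf 11150388556585067502354084274325473485415768)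 (.leaf 11151155681377815913490048480014444189999234)) (.node (.leaf 11151343018799591050827616795517189399113985) (.leaf 11150957716046706290689489725966252962870992)))) (.node (.node (.node (.leaf 11150374312400028745327304528933412835173233) (.leaf 11150548141776477988649608464830186166735090)) (.node (.leaf 11152035630980186179555009575591688584364111) (.leaf 11151683301186504155265854560243567528808449))) (.node (.node (.leaf 11151987994599201092733547282291087884546488) (.leaf 11152337829494272068131256670051184066220093)) (.node (.leaf 11150678328195981160320690305820280285628147) (.leaf 11151785652483191256264370705442797675737352)))))))) (.node (.node (.node (.node (.node (.node (.node (.leaf 11151576181852681045170389793030161313617508) (.leaf 11150755500786438162423139845031443681636736)) (.node (.leaf 11150477775191792609720567276838351727621556) (.leaf 11151543815303405485866089656650999732409692))) (.node (.node (.leaf 11152123359358749144296788813955770880107480) (.leaf 11152196466249329430117160720384152110637647)) (.node (.leaf 11152225799554700862689318195335230575473815) (.leaf 11151856101566952810734803460450107812082289)))) (.node (.node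 (.node (.leaf 11152831754154884311642622701141641902752807) (.leaf 11151030573058144617128036979441748204855540)) (.node (.leaf 11152074554039930601365664362838102220862503) (.leaf 11151153023571010432395115565274775483868903))) (.node (.node (.leaf 11150376592884212749058653337790639228608546) (.leaf 11150454313424252986219114739912892799833542)) (.node (.leaf 11151218370971755192844235065446996049000430) (.leaf 11150678952894364925879971083502810580451472))))) (.node (.node (.node (.node (.leaf 11151380321000954845150906729382157335201204) (.leaf 11152074094197269911413328279515429705154944)) (.node (.leaf 11152470752232698963916097111879235247605068) (.leaf 11152994220779735129562975031970146505728591))) (.node (.node (.leaf 11152979846616254553087889719491425163843337) (.leaf 11150454225204898964732322193033393916662195)) (.node (.leaf 11151755001574810852567940663085855146050892) (.leaf 11151450985871017553122848589331257643102367)))) (.node (.node (.node (.leaf 11151739052228797608339459282614789859205188) (.leaf 11151680942871028484877990358608470610026562)) (.node (.leaf 11150584329835655799299216533422553476756638) (.leaf 11150415217678516757616313569367358074529716)))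 (.node (.node (.leaf 11150376670715828082422134716656010682983992) (.leaf 11152491393976643040403705970566988759572544)) (.node (.leaf 11150584329217770017892469395116218332607519) (.leaf 11151138400785285817949430488686473681433050)))))) (.node (.node (.node (.node (.node (.leaf 11151856100805981363230577064680374083907848) (.leaf 11152470127038119138892354329427149465912631)) (.node (.leaf 11150687710695424529725512137181646481389370) (.leaf 11152063837251327791589260545181883177668669))) (.node (.node (.leaf 11151739052228762103603681614217453346803717) (.leaf 11150388932610246777886563784435357957776675)) (.node (.leaf 11153056394447153261410272689115567144694490) (.leaf 11150584330515516045920329266605519481205176)))) (.node (.node (.node (.leaf 11150458053763758596174760823081181403190129) (.leaf 11151336546086020221154045204414121945651113)) (.node (.leaf 11151498539772855184458781519301813452009729) (.leaf 11150854036323579039333696320682645966607241))) (.node (.node (.leaf 11152496873074758341430483348298759514644612) (.leaf 11152547472790200452335603276861249483741097)) (.node (.leaf 11152414753350370453320153207829253967180416) (.leaf 11150478942698875906931189284500841710026776)))))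 (.node (.node (.node (.node (.leaf 11151095865489436214257469614523778467493671) (.leaf 11152491554864400130883442072489220491978676)) (.node (.leaf 11152470126236579432744952716244412882026576) (.leaf 11152767081917548197855742368878759786353075))) (.node (.node (.leaf 11152766998861096613732514396816469980140425) (.leaf 11150457752974361124137118127542661975413760)) (.node (.leaf 11151522387973307041369420755516099711271421) (.leaf 11151138402083031361340274672400766633374778)))) (.node (.node (.node (.leaf 11152935607364965660931477563813952300308351) (.leaf 11152993919990344817915610504832038144581664)) (.node (.leaf 11152653637603439638477081231995627986612726) (.leaf 11152199125354514571401790500041880311455754))) (.node (.node (.leaf 11153056393686155946705062728668721593317178) (.leaf 11152120618495485777274933666016248135734238)) (.node (.leaf 11151811283840288866021914210276223525913581) (.leaf 11150798036082310396313614574210377762599414))))))) (.node (.node (.node (.node (.node (.node (.leaf 11151284909645797208464383037153349427843507) (.leaf 11150714753800245217200656575993763228938528)) (.node (.leaf 11152691156888843572646611295638346749571883)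 (.leaf 11151548972625388767401669333599999513093411))) (.node (.node (.leaf 11152716033507904309774488321248970189841408) (.leaf 11151027991784565133868539026300168096981238)) (.node (.leaf 11150477775191791391419504733186344806843008) (.leaf 11150957842284561697588248078990187957974167)))) (.node (.node (.node (.leaf 11152979846616236936087641932613743696992201) (.leaf 11150379628014268976123772601549241450522174)) (.node (.leaf 11151708933284618933875213647756470554063606) (.leaf 11152713536588886104353200017014828392521738))) (.node (.node (.leaf 11151153023571048393066987117564781907203363) (.leaf 11150383616996004014924121808485824616998627)) (.node (.leaf 11150564014588362089035980257522898849301087) (.leaf 11152973200415080767349031619079090729976415))))) (.node (.node (.node (.node (.leaf 11151096159178543520732654075629628906141108) (.leaf 11151049182310618954282746391213521417339110)) (.node (.leaf 11152175038423059185677548581671741347136458) (.leaf 11150454142148430860113586507534651400688888))) (.node (.node (.leaf 11151575807125284731012775315124971753754986) (.leaf 11150385897480173122947867738458498818664374)) (.node (.leaf 11151218244733878471124102446760161148792991)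 (.leaf 11151934826159240693725999374578815798473340)))) (.node (.node (.node (.leaf 11151022759227443296591347604435329432997900) (.leaf 11151739428253937887857629345829118331637892)) (.node (.leaf 11151039955577570216707196126149908349649153) (.leaf 11152766795409513498621314107885939945166072))) (.node (.node (.leaf 11151944129457454531974389535378065331974821) (.leaf 11151683601975910270969520990017965304849703)) (.node (.leaf 11151203449860031181206768043582750104553443) (.leaf 11151987867743424607483433537147253021077955)))))) (.node (.node (.node (.node (.node (.leaf 11152470126236576009903091653880184037245437) (.leaf 11150405131927261215937479897706490593609015)) (.node (.leaf 11151380321578279244534394309165318914306561) (.leaf 11151736770446827392766875535101775333826563))) (.node (.node (.leaf 11152721351717663747452487857997519085659710) (.leaf 11152988526544798063175014784668328028329534)) (.node (.leaf 11150436407403000520311133305807535645722355) (.leaf 11151180071848767543094356354728334510327716)))) (.node (.node (.node (.leaf 11150373933779348171644677100630644099129590) (.leaf 11150548224832947340195046852733214998423102)) (.node (.leaf 11150688169240298842810816394486747965227633)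 (.leaf 11150463071184747754031479110170183301357580))) (.node (.node (.leaf 11151030733946213943451388199035394662096930) (.leaf 11152125856277795461292336188698717022884086)) (.node (.leaf 11153056394983919774706405182364113209196808) (.leaf 11153071316095622658125909585780299752142047))))) (.node (.node (.node (.node (.leaf 11150972464410436193882219426643700276131536) (.leaf 11150376970207137096631466700936355547980802)) (.node (.leaf 11151785653019973084291369477184710557893338) (.leaf 11150420834082128619120483579588957580583044))) (.node (.node (.leaf 11150854239775153557933187925440091643221929) (.leaf 11152337454766869487807903007655482858444553)) (.node (.leaf 11152846549028713561852760324366726550123678) (.leaf 11150436408204544774415760491491365367119889)))) (.node (.node (.node (.leaf 11152926589277059530322869106206725560111165) (.leaf 11152191067579251716216423237244647904958014)) (.node (.leaf 11152737301063724881936198084406123998281776) (.leaf 11152979675340422336857101454502009792663914))) (.node (.node (.leaf 11151343019560576309935514785573868653315764) (.leaf 11152120701551960895670986559452351225713227)) (.node (.leaf 11151987995279069635575548993793724635542686)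 (.leaf 11151775318799726719782375975495449713439849))))))))) (.node (.node (.node (.node (.node (.node (.node (.node (.leaf 11152414459661242613026889215390131780448769) (.leaf 11152074094958256798970614560856717860603875)) (.node (.leaf 11151987993981316049164014965370261483418411) (.leaf 11153022007184704202471064071104721453618057))) (.node (.node (.leaf 11152488736169513166633273432541994585972866) (.leaf 11150385975311813608516575370479656713069039)) (.node (.leaf 11151708640893215448002522446657297619943898) (.leaf 11152926302768983831288062818889606173856469)))) (.node (.node (.node (.leaf 11153071188559996493682874321452912686526904) (.leaf 11151022676170956314466997374487980372710404)) (.node (.leaf 11151785651722189708691490659822965026845297) (.leaf 11150386274803107464804879185522903689994370))) (.node (.node (.leaf 11150374312400035416969304190169144113008672) (.leaf 11152191067579255699861231838787423799632900)) (.node (.leaf 11151786111564828457429089980132676561076512) (.leaf 11151203450621017288707725613493276032172416))))) (.node (.node (.node (.node (.leaf 11152877032301515997099748495352085165966070) (.leaf 11152831754154867313461129776439977357998051))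 (.node (.leaf 11151049181509064246494552808987507440025624) (.leaf 11152993842159023357192419748162970433655665))) (.node (.node (.leaf 11151549133513792297998240335462541297737796) (.leaf 11151336749537632010492659996218422361363337)) (.node (.leaf 11153071314797880755601140504750744802030019) (.leaf 11152831755452659084087189057906160906662125)))) (.node (.node (.node (.leaf 11152923644313017549307339664095681541869629) (.leaf 11150548439969714741085781259364635801867268)) (.node (.leaf 11151856102103719007628938223183881567859968) (.leaf 11151688541564953899466134668658891561132037))) (.node (.node (.leaf 11152488814001145345427557288593929573261315) (.leaf 11150388717473435323417789746323113421858736)) (.node (.leaf 11152035630402848527308029447871861382312456) (.leaf 11151095866787192491673110179648905385998172)))))) (.node (.node (.node (.node (.node (.leaf 11152337454766839030314973695675869865497262) (.leaf 11152877031003762083314880408486256484937807)) (.node (.leaf 11150395827331253815471397351343210258040362) (.leaf 11152926677496405539451760857147088792228526))) (.node (.node (.leaf 11150543124355507744694292796914626563970618) (.leaf 11151548972625396483301043202442219444818409))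 (.node (.leaf 11151987993981314792188169311801619066254367) (.leaf 11150678327699776391466321938839227032733004)))) (.node (.node (.node (.leaf 11151575807125254273518863569966794645477321) (.leaf 11152988687433206416369420962597514732658700)) (.node (.leaf 11151063965315293653690480935919274724230580) (.leaf 11151688541564946183567661375573287757205572))) (.node (.node (.leaf 11150379412877480626510836676136789624803570) (.leaf 11152120618495494305373510935631691335622898)) (.node (.leaf 11152737927059842643072378648034250199203864) (.leaf 11152691156208971098859605240181547749470659))))) (.node (.node (.node (.node (.leaf 11150478942698874553262952485700520815691306) (.leaf 11150696936831219584935804265277685357355503)) (.node (.leaf 11150714294718588614070460902883037746889206) (.leaf 11152713453532399127974127429281375722677250))) (.node (.node (.leaf 11150697097719261813240737575208878205855670) (.leaf 11152123198470667450561031719806997071160322)) (.node (.leaf 11150723599314541784062914199742090958668013) (.leaf 11152030529895070575686545182266174938412869)))) (.node (.node (.node (.leaf 11152491772597310595457495575993698417124700) (.leaf 11152337658218427931828576698351910775199624))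 (.node (.leaf 11150678328196006647923232863461130798958500) (.leaf 11152994220779733099062879394685530280595464))) (.node (.node (.leaf 11152653637603443931531342515537396580286752) (.leaf 11152196305361583083741059640224306002141216)) (.node (.leaf 11151039955577552754410741675542934437097792) (.leaf 11151661956416681512164297033495924169573708))))))) (.node (.node (.node (.node (.node (.node (.leaf 11151336546086036407137659719263855425656705) (.leaf 11150678952894381305243953577861643950424144)) (.node (.leaf 11151944003219558275160622049546812846109801) (.leaf 11152993842159034631298758288674479337907162))) (.node (.node (.leaf 11151844685907823775682782386441332308103854) (.leaf 11152996878586829629933092243112778333693496)) (.node (.leaf 11151343020097362507944238586712325052498983) (.leaf 11152313438333548813416102126968211316475392)))) (.node (.node (.node (.leaf 11151155897812700926750071674855284031905795) (.leaf 11150697314154147647131537786773974412191013)) (.node (.leaf 11150477774471395206692754866572156314711900) (.leaf 11150699973258991314163290957081490977988736))) (.node (.node (.leaf 11151736393123915897275005762017074916386085) (.leaf 11151155598321377188951604439434255054939429))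 (.node (.leaf 11153056394447146589768108233401901769622784) (.leaf 11151856101566959482376088239359990927786272))))) (.node (.node (.node (.node (.leaf 11150404507228850682347424120664023814440268) (.leaf 11151755001574809634267104635595897774868211)) (.node (.leaf 11150584329835667614873407953425049203634627) (.leaf 11152126017165564594126864521707768562851872))) (.node (.node (.leaf 11152767170136925912965914524969892081866665) (.leaf 11152120701551946430778549852936919561823236)) (.node (.leaf 11152737302361471776626921991544352621527270) (.leaf 11152691156888846415343794150230317076181628)))) (.node (.node (.node (.leaf 11151030950381067805946894474822151162569587) (.leaf 11151680643379699521892273742640911587747766)) (.node (.leaf 11152414753350362157278066215006100579747676) (.leaf 11150460412079563340510743721309440950952180))) (.node (.node (.leaf 11152831754915856660637728171137689726873857) (.leaf 11152063920307757742210417932627193833756617)) (.node (.leaf 11150405131927223719380640269378264010655475) (.leaf 11151343018799604181390479481750554498106460)))))) (.node (.node (.node (.node (.node (.leaf 11150714295255339764892154641112436059472497) (.leaf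 11151180071848800398510298603771602759909885)) (.node (.leaf 11152175037621477805571207643217677445563408) (.leaf 11152994003046781927719230603269783911671354))) (.node (.node (.leaf 11150854036323563298127062364891578900189619) (.leaf 11151546474408593675484612797838569018254629)) (.node (.leaf 11151343019560574704873708358911583229442019) (.leaf 11151063965315270622025556966660490046075885)))) (.node (.node (.node (.leaf 11150951444694693675137070105778870879310549) (.leaf 11150386274803145580182898667049374328053826)) (.node (.leaf 11152225925792573420760753938062436407572176) (.leaf 11151844311180408644225456354075003420448648))) (.node (.node (.leaf 11151546313520530262315357852173940589355074) (.leaf 11152923847764576099455278333629231990870702)) (.node (.leaf 11151096159178551816773859085806128259466467) (.leaf 11150863251310587337853928666815272119764775))))) (.node (.node (.node (.node (.leaf 11152691029353195043328570254980910900965816) (.leaf 11152497088211573267869970461266147882358051)) (.node (.leaf 11151272869319568366946452344213907605942712) (.leaf 11150854411050980331640270901470387878025089))) (.node (.node (.leaf 11152979675340398318948391263504063859839037)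 (.leaf 11151022759227454319301636227618601898632158)) (.node (.leaf 11150972465090308824049982385306837607642217) (.leaf 11152313439053970958890394816848485310656591)))) (.node (.node (.node (.leaf 11150694279024073914803624463702174327662512) (.leaf 11150854411050971242738385258364446409528403)) (.node (.leaf 11153056853528796578690417235121217516204879) (.leaf 11150417959840172281906693216577419271479362))) (.node (.node (.leaf 11150883107210824102059571683911913119482358) (.leaf 11150388717473468178832803566146242779599337)) (.node (.leaf 11151003113218837361924999353565428026770048) (.leaf 11151095866209849698132469667831688616079936)))))))) (.node (.node (.node (.node (.node (.node (.node (.leaf 11150457675143066203305384578800085536613946) (.leaf 11150478943996613559486029816198219809489936)) (.node (.leaf 11151498538475123646804690208045373221568832) (.leaf 11151549050457288220298373994651188216227760))) (.node (.node (.leaf 11150694279024082056138729283488546742130407) (.leaf 11150694356856023664451205151133831784326435)) (.node (.leaf 11151498998317727120256106967361709649033187) (.leaf 11152175038919254757212611589509673253928984)))) (.node (.node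 (.node (.leaf 11150714295255348776443299925622966592336719) (.leaf 11151028292573950325084477444832548085572608)) (.node (.leaf 11152972575220519727549465069473705312190488) (.leaf 11151736393123889384751495940137919325413506))) (.node (.node (.leaf 11152488897057579879838555277835138467112286) (.leaf 11152926506220554832455586519262574230935497)) (.node (.leaf 11150436408700782387766845465227107263119869) (.leaf 11152737301865246146858145568295528122352481))))) (.node (.node (.node (.node (.leaf 11151223765066142388677039675926454907565568) (.leaf 11150395202632890380281729563486377551659978)) (.node (.leaf 11151450986488917103354080415830133326870510) (.leaf 11150388634417004741772765350007968360325188))) (.node (.node (.leaf 11150542745734826648394672628887727541621722) (.leaf 11150383316206594887968949435446599507517441)) (.node (.leaf 11152877324692894225168424952273147946665472) (.leaf 11152653638901194558653030587890590247678577)))) (.node (.node (.node (.leaf 11151543815303414071979481039232986708451821) (.leaf 11150542906622573732551547330198838246907912)) (.node (.leaf 11152225799554674698253467435665010867172543) (.leaf 11150696936831210998824668749567504234341726)))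 (.node (.node (.leaf 11150395201335141457230709201290943811092710) (.leaf 11151736554012002531843329695995617320394818)) (.node (.leaf 11151934825479387931918803095546629318112287) (.leaf 11150564014092141789670735643494962577867792)))))) (.node (.node (.node (.node (.node (.leaf 11152806582640411305407874974629867156472177) (.leaf 11152035630980191671573270407843918564161024)) (.node (.leaf 11151049807505183518940211433885809396220944) (.leaf 11150383238375335735576108138036726597689837))) (.node (.node (.leaf 11152923644313013836395118741877947752830856) (.leaf 11152064008527140375460500079805548033774293)) (.node (.leaf 11150755501323208579685621140640872489678819) (.leaf 11150723598553554046604887478688465452397660)))) (.node (.node (.node (.leaf 11152497088211569380913565448023514346971141) (.leaf 11151844685907859879898630885304521853538666)) (.node (.leaf 11150687710158662278797227721606265260602191) (.leaf 11150854322831616900465616253946784839686015))) (.node (.node (.leaf 11152935893873020063151728826854365887764393) (.leaf 11151022598339042826778249066925096702074916)) (.node (.leaf 11151039956114306551683079322283136234094976) (.leaf 11150478068160520632174708577298984009855552)))))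 (.node (.node (.node (.node (.leaf 11150755500786453748924007815835224487560284) (.leaf 11151736770446850347079497437617090375738718)) (.node (.leaf 11150395827331253351358666330389216685523809) (.leaf 11150548063944536957633315635954102237684299))) (.node (.node (.leaf 11151683384242963918882008348697731291684928) (.leaf 11150383238375339777238174149484904982286400)) (.node (.leaf 11150883565755679688622529770319815292614458) (.leaf 11153071315415777477725909288525658663286130)))) (.node (.node (.node (.leaf 11152935810816562073978182211066417416541638) (.leaf 11152716111339214006393348153491072673683002)) (.node (.leaf 11152313439631316991075875156217320459334106) (.leaf 11152199042298030365530365627173349896512371))) (.node (.node (.leaf 11152035630402851911472463316750991125185594) (.leaf 11152125934109066585462386450816276738118513)) (.node (.leaf 11152470127038093245188606123154957228114064) (.leaf 11150972464410435420359072607887601065128095))))))) (.node (.node (.node (.node (.node (.node (.leaf 11152126234898473264446357584430212486566912) (.leaf 11151944003219588926033526192442971558377285)) (.node (.leaf 11150863251887931158286967368952311476978240)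 (.leaf 11150454313424268688750460715277518315754377))) (.node (.node (.leaf 11150415518467927424453453943509930330329089) (.leaf 11151030573058158327835819084073115276305368)) (.node (.leaf 11151498538475095432530015029073916785717632) (.leaf 11151272869937484201294781220251355780346667)))) (.node (.node (.node (.leaf 11150420834082144592383175647743625337034672) (.leaf 11152063633799743446374227001523971603093257)) (.node (.leaf 11151049807505197829128811391498238304518751) (.leaf 11150418176275006302786332775617427237005025))) (.node (.node (.leaf 11152979758396859370013874543884462999508872) (.leaf 11151284909645776787442212563276319822485375)) (.node (.leaf 11150584330515520764413241342992331607504242) (.leaf 11150798035321317374635294387956719908094799))))) (.node (.node (.node (.node (.leaf 11152035923371573241429396404349341316219424) (.leaf 11152225927090316571290155336684973280850079)) (.node (.leaf 11150957843582329015909547487545722202093381) (.leaf 11150951356475316234086463470466125107074825))) (.node (.node (.leaf 11152935810816541652955118873283771300894593) (.leaf 11152190989747343535520156147148228466335756)) (.node (.leaf 11151203451157822562142909166084686731084033)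 (.leaf 11151223472097446516440576495858633430135542)))) (.node (.node (.node (.leaf 11152547759298259390879987197368329865581816) (.leaf 11152924019040437231586463709338037726533385)) (.node (.leaf 11151272870617325456756741258954032401740227) (.leaf 11152923847764569079729321965238418906076772))) (.node (.node (.leaf 11152691156208982991785467896727299654546590) (.leaf 11151680565548067631008415077494956799042910)) (.node (.leaf 11152846675266595944707442517993028851462780) (.leaf 11152313439053967574723946791969060508730102)))))) (.node (.node (.node (.node (.node (.leaf 11151054953110672212371803949527588006854735) (.leaf 11152832213997500992523890547751880890582708)) (.node (.leaf 11152147124635135938042754994868116901660202) (.leaf 11152547759298230693152552913515185620685907))) (.node (.node (.leaf 11152713453532429720832247106683796094739416) (.leaf 11150460711570888435228716091423907689553930)) (.node (.leaf 11150883105913056159899492788804272594219855) (.leaf 11150863250590148554180019899286046367614812)))) (.node (.node (.node (.leaf 11150379329820996875879696208472415137718859) (.leaf 11152979471888836802861543127901092691088996)) (.node (.leaf 11151049181509048447273719927866747936376362)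 (.leaf 11153022381912096440528478260109542120019881))) (.node (.node (.leaf 11151030733946202746696153402546164206674946) (.leaf 11151027913953276385934110205230409556989498)) (.node (.leaf 11150798495163953599154671421691001107509873) (.leaf 11151223472674762484715481904338921836900721))))) (.node (.node (.node (.node (.leaf 11150714293957589446217412782889062678724872) (.leaf 11152993919990333795201999159422089644511478)) (.node (.leaf 11152877324692905093175992199986555904455130) (.leaf 11151683301186471299849840006747140491584860))) (.node (.node (.leaf 11151284992702263720800310395283434523628425) (.leaf 11150694655049288921945169272885601493868612)) (.node (.leaf 11152972575716724356597608779463385806865962) (.leaf 11151223765066129258111975309067398326321626)))) (.node (.node (.node (.leaf 11150415139847201700809765417513676934489436) (.leaf 11150374011610652748729604875517393779594202)) (.node (.leaf 11151218371589645992087528804081121216820415) (.leaf 11150454142148402123710399615590122919614377))) (.node (.node (.leaf 11151179445852637228257439287603707540209681) (.leaf 11152996579095505836535275728796659419735042)) (.node (.leaf 11151095866787169460005684879218053044306433)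 (.leaf 11151844311180414909767281690184339213045821)))))))))))

def sylPar : Arr :=
  (.node (.node (.node (.node (.node (.node (.node (.node (.node (.node (.leaf 0) (.leaf 747)) (.node (.leaf 322) (.leaf 1319))) (.node (.node (.leaf 144) (.leaf 1049)) (.node (.leaf 513) (.leaf 2066)))) (.node (.node (.node (.leaf 69) (.leaf 938)) (.node (.leaf 400) (.leaf 1539))) (.node (.node (.leaf 225) (.leaf 1181)) (.node (.leaf 605) (.leaf 2469))))) (.node (.node (.node (.node (.leaf 33) (.leaf 849)) (.node (.leaf 361) (.leaf 1435))) (.node (.node (.leaf 182) (.leaf 1128)) (.node (.leaf 559) (.leaf 2316)))) (.node (.node (.node (.leaf 105) (.leaf 989)) (.node (.leaf 450) (.leaf 1680))) (.node (.node (.leaf 277) (.leaf 1238)) (.node (.leaf 659) (.leaf 2717)))))) (.node (.node (.node (.node (.node (.leaf 16) (.leaf 793)) (.node (.leaf 341) (.leaf 1373))) (.node (.node (.leaf 162) (.leaf 1092)) (.node (.leaf 536) (.leaf 2277)))) (.node (.node (.node (.leaf 88) (.leaf 965)) (.node (.leaf 425) (.leaf 1614))) (.node (.node (.leaf 249) (.leaf 1209)) (.node (.leaf 631) (.leaf 2637))))) (.node (.node (.node (.node (.leaf 50) (.leaf 900)) (.node (.leaf 381) (.leaf 1500))) (.node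 (.node (.leaf 202) (.leaf 1155)) (.node (.leaf 579) (.leaf 2401)))) (.node (.node (.node (.leaf 124) (.leaf 1013)) (.node (.leaf 481) (.leaf 1741))) (.node (.node (.leaf 303) (.leaf 1270)) (.node (.leaf 692) (.leaf 2818))))))) (.node (.node (.node (.node (.node (.node (.leaf 7) (.leaf 771)) (.node (.leaf 332) (.leaf 1348))) (.node (.node (.leaf 153) (.leaf 1071)) (.node (.leaf 523) (.leaf 2258)))) (.node (.node (.node (.leaf 78) (.leaf 948)) (.node (.leaf 417) (.leaf 1590))) (.node (.node (.leaf 235) (.leaf 1196)) (.node (.leaf 621) (.leaf 2586))))) (.node (.node (.node (.node (.leaf 41) (.leaf 863)) (.node (.leaf 370) (.leaf 1451))) (.node (.node (.leaf 191) (.leaf 1143)) (.node (.leaf 569) (.leaf 2366)))) (.node (.node (.node (.leaf 116) (.leaf 1001)) (.node (.leaf 464) (.leaf 1713))) (.node (.node (.leaf 294) (.leaf 1248)) (.node (.leaf 674) (.leaf 2746)))))) (.node (.node (.node (.node (.node (.leaf 24) (.leaf 832)) (.node (.leaf 352) (.leaf 1407))) (.node (.node (.leaf 173) (.leaf 1116)) (.node (.leaf 547) (.leaf 2291)))) (.node (.node (.node (.leaf 97) (.leaf 974)) (.node (.leaf 437) (.leaf 1641))) (.node (.node (.leaf 263) (.leaf 1224)) (.node (.leaf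 640) (.leaf 2661))))) (.node (.node (.node (.node (.leaf 60) (.leaf 928)) (.node (.leaf 391) (.leaf 1522))) (.node (.node (.leaf 215) (.leaf 1167)) (.node (.leaf 593) (.leaf 2430)))) (.node (.node (.node (.leaf 133) (.leaf 1035)) (.node (.leaf 504) (.leaf 1821))) (.node (.node (.leaf 312) (.leaf 1289)) (.node (.leaf 719) (.leaf 2913)))))))) (.node (.node (.node (.node (.node (.node (.node (.leaf 3) (.leaf 759)) (.node (.leaf 328) (.leaf 1328))) (.node (.node (.leaf 148) (.leaf 1063)) (.node (.leaf 518) (.leaf 2253)))) (.node (.node (.node (.leaf 73) (.leaf 944)) (.node (.leaf 405) (.leaf 1551))) (.node (.node (.leaf 230) (.leaf 1185)) (.node (.leaf 617) (.leaf 2528))))) (.node (.node (.node (.node (.leaf 37) (.leaf 857)) (.node (.leaf 365) (.leaf 1445))) (.node (.node (.leaf 186) (.leaf 1137)) (.node (.leaf 563) (.leaf 2343)))) (.node (.node (.node (.leaf 110) (.leaf 997)) (.node (.leaf 457) (.leaf 1702))) (.node (.node (.leaf 289) (.leaf 1243)) (.node (.leaf 664) (.leaf 2734)))))) (.node (.node (.node (.node (.node (.leaf 20) (.leaf 815)) (.node (.leaf 346) (.leaf 1383))) (.node (.node (.leaf 168) (.leaf 1112)) (.node (.leaf 542) (.leaf 2282)))) (.node (.node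 (.node (.leaf 93) (.leaf 969)) (.node (.leaf 431) (.leaf 1626))) (.node (.node (.leaf 255) (.leaf 1218)) (.node (.leaf 636) (.leaf 2651))))) (.node (.node (.node (.node (.leaf 56) (.leaf 923)) (.node (.leaf 387) (.leaf 1512))) (.node (.node (.leaf 211) (.leaf 1161)) (.node (.leaf 588) (.leaf 2412)))) (.node (.node (.node (.leaf 129) (.leaf 1029)) (.node (.leaf 489) (.leaf 1756))) (.node (.node (.leaf 308) (.leaf 1284)) (.node (.leaf 705) (.leaf 2843))))))) (.node (.node (.node (.node (.node (.node (.leaf 11) (.leaf 780)) (.node (.leaf 337) (.leaf 1360))) (.node (.node (.leaf 157) (.leaf 1086)) (.node (.leaf 532) (.leaf 2266)))) (.node (.node (.node (.leaf 84) (.leaf 955)) (.node (.leaf 421) (.leaf 1605))) (.node (.node (.leaf 242) (.leaf 1202)) (.node (.leaf 625) (.leaf 2595))))) (.node (.node (.node (.node (.leaf 45) (.leaf 877)) (.node (.leaf 376) (.leaf 1465))) (.node (.node (.leaf 196) (.leaf 1150)) (.node (.leaf 574) (.leaf 2387)))) (.node (.node (.node (.leaf 120) (.leaf 1008)) (.node (.leaf 474) (.leaf 1733))) (.node (.node (.leaf 299) (.leaf 1256)) (.node (.leaf 684) (.leaf 2761)))))) (.node (.node (.node (.node (.node (.leaf 28) (.leaf 840)) (.node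 (.leaf 356) (.leaf 1427))) (.node (.node (.leaf 178) (.leaf 1121)) (.node (.leaf 553) (.leaf 2311)))) (.node (.node (.node (.leaf 101) (.leaf 980)) (.node (.leaf 441) (.leaf 1675))) (.node (.node (.leaf 272) (.leaf 1231)) (.node (.leaf 646) (.leaf 2668))))) (.node (.node (.node (.node (.leaf 64) (.leaf 933)) (.node (.leaf 396) (.leaf 1531))) (.node (.node (.leaf 220) (.leaf 1171)) (.node (.leaf 599) (.leaf 2437)))) (.node (.node (.node (.leaf 138) (.leaf 1040)) (.node (.leaf 508) (.leaf 1926))) (.node (.node (.leaf 317) (.leaf 1301)) (.node (.leaf 725) (.leaf 3038))))))))) (.node (.node (.node (.node (.node (.node (.node (.node (.leaf 1) (.leaf 751)) (.node (.leaf 325) (.leaf 1322))) (.node (.node (.leaf 146) (.leaf 1058)) (.node (.leaf 515) (.leaf 2197)))) (.node (.node (.node (.leaf 71) (.leaf 941)) (.node (.leaf 403) (.leaf 1548))) (.node (.node (.leaf 228) (.leaf 1183)) (.node (.leaf 610) (.leaf 2491))))) (.node (.node (.node (.node (.leaf 35) (.leaf 852)) (.node (.leaf 363) (.leaf 1439))) (.node (.node (.leaf 184) (.leaf 1131)) (.node (.leaf 561) (.leaf 2319)))) (.node (.node (.node (.leaf 108) (.leaf 993)) (.node (.leaf 452) (.leaf 1687))) (.node (.node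 (.leaf 282) (.leaf 1241)) (.node (.leaf 662) (.leaf 2729)))))) (.node (.node (.node (.node (.node (.leaf 18) (.leaf 811)) (.node (.leaf 344) (.leaf 1376))) (.node (.node (.leaf 165) (.leaf 1109)) (.node (.leaf 538) (.leaf 2280)))) (.node (.node (.node (.leaf 91) (.leaf 967)) (.node (.leaf 428) (.leaf 1623))) (.node (.node (.leaf 253) (.leaf 1213)) (.node (.leaf 633) (.leaf 2642))))) (.node (.node (.node (.node (.leaf 53) (.leaf 911)) (.node (.leaf 385) (.leaf 1503))) (.node (.node (.leaf 209) (.leaf 1157)) (.node (.leaf 586) (.leaf 2409)))) (.node (.node (.node (.leaf 126) (.leaf 1017)) (.node (.leaf 484) (.leaf 1748))) (.node (.node (.leaf 306) (.leaf 1275)) (.node (.leaf 699) (.leaf 2823))))))) (.node (.node (.node (.node (.node (.node (.leaf 9) (.leaf 775)) (.node (.leaf 334) (.leaf 1357))) (.node (.node (.leaf 155) (.leaf 1077)) (.node (.leaf 526) (.leaf 2261)))) (.node (.node (.node (.leaf 82) (.leaf 952)) (.node (.leaf 419) (.leaf 1593))) (.node (.node (.leaf 238) (.leaf 1200)) (.node (.leaf 623) (.leaf 2591))))) (.node (.node (.node (.node (.leaf 43) (.leaf 865)) (.node (.leaf 373) (.leaf 1453))) (.node (.node (.leaf 193) (.leaf 1145)) (.node (.leaf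 572) (.leaf 2373)))) (.node (.node (.node (.leaf 118) (.leaf 1003)) (.node (.leaf 469) (.leaf 1724))) (.node (.node (.leaf 296) (.leaf 1252)) (.node (.leaf 681) (.leaf 2751)))))) (.node (.node (.node (.node (.node (.leaf 26) (.leaf 838)) (.node (.leaf 354) (.leaf 1423))) (.node (.node (.leaf 176) (.leaf 1118)) (.node (.leaf 549) (.leaf 2297)))) (.node (.node (.node (.leaf 99) (.leaf 977)) (.node (.leaf 439) (.leaf 1660))) (.node (.node (.leaf 269) (.leaf 1228)) (.node (.leaf 643) (.leaf 2664))))) (.node (.node (.node (.node (.leaf 62) (.leaf 931)) (.node (.leaf 393) (.leaf 1527))) (.node (.node (.leaf 217) (.leaf 1169)) (.node (.leaf 596) (.leaf 2433)))) (.node (.node (.node (.leaf 136) (.leaf 1037)) (.node (.leaf 506) (.leaf 1873))) (.node (.node (.leaf 315) (.leaf 1294)) (.node (.leaf 722) (.leaf 2949)))))))) (.node (.node (.node (.node (.node (.node (.node (.leaf 5) (.leaf 762)) (.node (.leaf 330) (.leaf 1336))) (.node (.node (.leaf 151) (.leaf 1067)) (.node (.leaf 520) (.leaf 2256)))) (.node (.node (.node (.leaf 76) (.leaf 946)) (.node (.leaf 410) (.leaf 1573))) (.node (.node (.leaf 232) (.leaf 1192)) (.node (.leaf 619) (.leaf 2577))))) (.node (.node (.node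 (.node (.leaf 39) (.leaf 861)) (.node (.leaf 367) (.leaf 1449))) (.node (.node (.leaf 189) (.leaf 1141)) (.node (.leaf 567) (.leaf 2357)))) (.node (.node (.node (.leaf 113) (.leaf 999)) (.node (.leaf 461) (.leaf 1710))) (.node (.node (.leaf 292) (.leaf 1245)) (.node (.leaf 669) (.leaf 2743)))))) (.node (.node (.node (.node (.node (.leaf 22) (.leaf 829)) (.node (.leaf 349) (.leaf 1390))) (.node (.node (.leaf 170) (.leaf 1114)) (.node (.leaf 545) (.leaf 2288)))) (.node (.node (.node (.leaf 95) (.leaf 972)) (.node (.leaf 433) (.leaf 1631))) (.node (.node (.leaf 258) (.leaf 1222)) (.node (.leaf 638) (.leaf 2654))))) (.node (.node (.node (.node (.leaf 58) (.leaf 925)) (.node (.leaf 389) (.leaf 1516))) (.node (.node (.leaf 213) (.leaf 1164)) (.node (.leaf 591) (.leaf 2420)))) (.node (.node (.node (.leaf 131) (.leaf 1032)) (.node (.leaf 501) (.leaf 1789))) (.node (.node (.leaf 310) (.leaf 1287)) (.node (.leaf 713) (.leaf 2856))))))) (.node (.node (.node (.node (.node (.node (.leaf 13) (.leaf 787)) (.node (.leaf 339) (.leaf 1366))) (.node (.node (.leaf 159) (.leaf 1089)) (.node (.leaf 534) (.leaf 2273)))) (.node (.node (.node (.leaf 86) (.leaf 960)) (.node (.leaf 423)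 (.leaf 1608))) (.node (.node (.leaf 244) (.leaf 1205)) (.node (.leaf 628) (.leaf 2633))))) (.node (.node (.node (.node (.leaf 48) (.leaf 884)) (.node (.leaf 378) (.leaf 1491))) (.node (.node (.leaf 198) (.leaf 1153)) (.node (.leaf 576) (.leaf 2397)))) (.node (.node (.node (.leaf 122) (.leaf 1010)) (.node (.leaf 478) (.leaf 1737))) (.node (.node (.leaf 301) (.leaf 1266)) (.node (.leaf 689) (.leaf 2780)))))) (.node (.node (.node (.node (.node (.leaf 31) (.leaf 843)) (.node (.leaf 359) (.leaf 1432))) (.node (.node (.leaf 180) (.leaf 1123)) (.node (.leaf 556) (.leaf 2313)))) (.node (.node (.node (.leaf 103) (.leaf 985)) (.node (.leaf 446) (.leaf 1677))) (.node (.node (.leaf 275) (.leaf 1236)) (.node (.leaf 651) (.leaf 2673))))) (.node (.node (.node (.node (.leaf 66) (.leaf 935)) (.node (.leaf 398) (.leaf 1534))) (.node (.node (.leaf 223) (.leaf 1177)) (.node (.leaf 601) (.leaf 2464)))) (.node (.node (.node (.leaf 141) (.leaf 1046)) (.node (.leaf 510) (.leaf 1987))) (.node (.node (.leaf 319) (.leaf 1313)) (.node (.leaf 735) (.leaf 3613)))))))))) (.node (.node (.node (.node (.node (.node (.node (.node (.node (.leaf 0) (.leaf 748)) (.node (.leaf 324) (.leaf 1320)))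 (.node (.node (.leaf 145) (.leaf 1051)) (.node (.leaf 514) (.leaf 2136)))) (.node (.node (.node (.leaf 70) (.leaf 940)) (.node (.leaf 401) (.leaf 1546))) (.node (.node (.leaf 226) (.leaf 1182)) (.node (.leaf 609) (.leaf 2489))))) (.node (.node (.node (.node (.leaf 34) (.leaf 851)) (.node (.leaf 362) (.leaf 1437))) (.node (.node (.leaf 183) (.leaf 1129)) (.node (.leaf 560) (.leaf 2317)))) (.node (.node (.node (.leaf 107) (.leaf 991)) (.node (.leaf 451) (.leaf 1684))) (.node (.node (.leaf 281) (.leaf 1240)) (.node (.leaf 661) (.leaf 2726)))))) (.node (.node (.node (.node (.node (.leaf 17) (.leaf 794)) (.node (.leaf 343) (.leaf 1375))) (.node (.node (.leaf 164) (.leaf 1093)) (.node (.leaf 537) (.leaf 2279)))) (.node (.node (.node (.leaf 89) (.leaf 966)) (.node (.leaf 427) (.leaf 1621))) (.node (.node (.leaf 251) (.leaf 1212)) (.node (.leaf 632) (.leaf 2639))))) (.node (.node (.node (.node (.leaf 51) (.leaf 903)) (.node (.leaf 384) (.leaf 1501))) (.node (.node (.leaf 205) (.leaf 1156)) (.node (.leaf 584) (.leaf 2408)))) (.node (.node (.node (.leaf 125) (.leaf 1016)) (.node (.leaf 483) (.leaf 1746))) (.node (.node (.leaf 305) (.leaf 1273)) (.node (.leaf 697) (.leaf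 2821))))))) (.node (.node (.node (.node (.node (.node (.leaf 8) (.leaf 773)) (.node (.leaf 333) (.leaf 1351))) (.node (.node (.leaf 154) (.leaf 1072)) (.node (.leaf 524) (.leaf 2259)))) (.node (.node (.node (.leaf 81) (.leaf 949)) (.node (.leaf 418) (.leaf 1592))) (.node (.node (.leaf 236) (.leaf 1197)) (.node (.leaf 622) (.leaf 2588))))) (.node (.node (.node (.node (.leaf 42) (.leaf 864)) (.node (.leaf 372) (.leaf 1452))) (.node (.node (.leaf 192) (.leaf 1144)) (.node (.leaf 571) (.leaf 2367)))) (.node (.node (.node (.leaf 117) (.leaf 1002)) (.node (.leaf 466) (.leaf 1715))) (.node (.node (.leaf 295) (.leaf 1250)) (.node (.leaf 680) (.leaf 2749)))))) (.node (.node (.node (.node (.node (.leaf 25) (.leaf 835)) (.node (.leaf 353) (.leaf 1421))) (.node (.node (.leaf 174) (.leaf 1117)) (.node (.leaf 548) (.leaf 2293)))) (.node (.node (.node (.leaf 98) (.leaf 975)) (.node (.leaf 438) (.leaf 1643))) (.node (.node (.leaf 266) (.leaf 1226)) (.node (.leaf 641) (.leaf 2663))))) (.node (.node (.node (.node (.leaf 61) (.leaf 929)) (.node (.leaf 392) (.leaf 1525))) (.node (.node (.leaf 216) (.leaf 1168)) (.node (.leaf 594) (.leaf 2432)))) (.node (.node (.node (.leaf 135)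 (.leaf 1036)) (.node (.leaf 505) (.leaf 1844))) (.node (.node (.leaf 313) (.leaf 1293)) (.node (.leaf 720) (.leaf 2928)))))))) (.node (.node (.node (.node (.node (.node (.node (.leaf 4) (.leaf 760)) (.node (.leaf 329) (.leaf 1335))) (.node (.node (.leaf 149) (.leaf 1065)) (.node (.leaf 519) (.leaf 2255)))) (.node (.node (.node (.leaf 75) (.leaf 945)) (.node (.leaf 406) (.leaf 1572))) (.node (.node (.leaf 231) (.leaf 1187)) (.node (.leaf 618) (.leaf 2539))))) (.node (.node (.node (.node (.leaf 38) (.leaf 859)) (.node (.leaf 366) (.leaf 1447))) (.node (.node (.leaf 188) (.leaf 1140)) (.node (.leaf 565) (.leaf 2348)))) (.node (.node (.node (.leaf 111) (.leaf 998)) (.node (.leaf 459) (.leaf 1708))) (.node (.node (.leaf 291) (.leaf 1244)) (.node (.leaf 666) (.leaf 2741)))))) (.node (.node (.node (.node (.node (.leaf 21) (.leaf 819)) (.node (.leaf 348) (.leaf 1386))) (.node (.node (.leaf 169) (.leaf 1113)) (.node (.leaf 544) (.leaf 2283)))) (.node (.node (.node (.leaf 94) (.leaf 971)) (.node (.leaf 432) (.leaf 1629))) (.node (.node (.leaf 256) (.leaf 1221)) (.node (.leaf 637) (.leaf 2652))))) (.node (.node (.node (.node (.leaf 57) (.leaf 924)) (.node (.leaf 388)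 (.leaf 1515))) (.node (.node (.leaf 212) (.leaf 1162)) (.node (.leaf 589) (.leaf 2413)))) (.node (.node (.node (.leaf 130) (.leaf 1031)) (.node (.leaf 492) (.leaf 1774))) (.node (.node (.leaf 309) (.leaf 1285)) (.node (.leaf 710) (.leaf 2850))))))) (.node (.node (.node (.node (.node (.node (.leaf 12) (.leaf 785)) (.node (.leaf 338) (.leaf 1362))) (.node (.node (.leaf 158) (.leaf 1088)) (.node (.leaf 533) (.leaf 2268)))) (.node (.node (.node (.leaf 85) (.leaf 956)) (.node (.leaf 422) (.leaf 1607))) (.node (.node (.leaf 243) (.leaf 1204)) (.node (.leaf 627) (.leaf 2609))))) (.node (.node (.node (.node (.leaf 47) (.leaf 882)) (.node (.leaf 377) (.leaf 1472))) (.node (.node (.leaf 197) (.leaf 1152)) (.node (.leaf 575) (.leaf 2394)))) (.node (.node (.node (.leaf 121) (.leaf 1009)) (.node (.leaf 477) (.leaf 1735))) (.node (.node (.leaf 300) (.leaf 1265)) (.node (.leaf 685) (.leaf 2763)))))) (.node (.node (.node (.node (.node (.leaf 29) (.leaf 842)) (.node (.leaf 357) (.leaf 1430))) (.node (.node (.leaf 179) (.leaf 1122)) (.node (.leaf 554) (.leaf 2312)))) (.node (.node (.node (.leaf 102) (.leaf 982)) (.node (.leaf 443) (.leaf 1676))) (.node (.node (.leaf 273) (.leaf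 1232)) (.node (.leaf 648) (.leaf 2670))))) (.node (.node (.node (.node (.leaf 65) (.leaf 934)) (.node (.leaf 397) (.leaf 1532))) (.node (.node (.leaf 221) (.leaf 1176)) (.node (.leaf 600) (.leaf 2456)))) (.node (.node (.node (.leaf 140) (.leaf 1041)) (.node (.leaf 509) (.leaf 1970))) (.node (.node (.leaf 318) (.leaf 1303)) (.node (.leaf 728) (.leaf 3382))))))))) (.node (.node (.node (.node (.node (.node (.node (.node (.leaf 2) (.leaf 757)) (.node (.leaf 327) (.leaf 1323))) (.node (.node (.leaf 147) (.leaf 1060)) (.node (.leaf 516) (.leaf 2249)))) (.node (.node (.node (.leaf 72) (.leaf 943)) (.node (.leaf 404) (.leaf 1549))) (.node (.node (.leaf 229) (.leaf 1184)) (.node (.leaf 613) (.leaf 2497))))) (.node (.node (.node (.node (.leaf 36) (.leaf 854)) (.node (.leaf 364) (.leaf 1442))) (.node (.node (.leaf 185) (.leaf 1134)) (.node (.leaf 562) (.leaf 2338)))) (.node (.node (.node (.leaf 109) (.leaf 996)) (.node (.leaf 455) (.leaf 1701))) (.node (.node (.leaf 284) (.leaf 1242)) (.node (.leaf 663) (.leaf 2731)))))) (.node (.node (.node (.node (.node (.leaf 19) (.leaf 813)) (.node (.leaf 345) (.leaf 1381))) (.node (.node (.leaf 167) (.leaf 1111)) (.node (.leaf 539)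 (.leaf 2281)))) (.node (.node (.node (.leaf 92) (.leaf 968)) (.node (.leaf 429) (.leaf 1624))) (.node (.node (.leaf 254) (.leaf 1217)) (.node (.leaf 634) (.leaf 2648))))) (.node (.node (.node (.node (.leaf 54) (.leaf 921)) (.node (.leaf 386) (.leaf 1506))) (.node (.node (.leaf 210) (.leaf 1159)) (.node (.leaf 587) (.leaf 2411)))) (.node (.node (.node (.leaf 128) (.leaf 1022)) (.node (.leaf 485) (.leaf 1749))) (.node (.node (.leaf 307) (.leaf 1278)) (.node (.leaf 701) (.leaf 2841))))))) (.node (.node (.node (.node (.node (.node (.leaf 10) (.leaf 777)) (.node (.leaf 336) (.leaf 1359))) (.node (.node (.leaf 156) (.leaf 1085)) (.node (.leaf 529) (.leaf 2264)))) (.node (.node (.node (.leaf 83) (.leaf 953)) (.node (.leaf 420) (.leaf 1602))) (.node (.node (.leaf 240) (.leaf 1201)) (.node (.leaf 624) (.leaf 2593))))) (.node (.node (.node (.node (.leaf 44) (.leaf 867)) (.node (.leaf 375) (.leaf 1455))) (.node (.node (.leaf 195) (.leaf 1147)) (.node (.leaf 573) (.leaf 2385)))) (.node (.node (.node (.leaf 119) (.leaf 1004)) (.node (.leaf 471) (.leaf 1729))) (.node (.node (.leaf 297) (.leaf 1255)) (.node (.leaf 683) (.leaf 2754)))))) (.node (.node (.node (.node (.node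 (.leaf 27) (.leaf 839)) (.node (.leaf 355) (.leaf 1424))) (.node (.node (.leaf 177) (.leaf 1119)) (.node (.leaf 551) (.leaf 2309)))) (.node (.node (.node (.leaf 100) (.leaf 979)) (.node (.leaf 440) (.leaf 1664))) (.node (.node (.leaf 270) (.leaf 1229)) (.node (.leaf 644) (.leaf 2667))))) (.node (.node (.node (.node (.leaf 63) (.leaf 932)) (.node (.leaf 394) (.leaf 1528))) (.node (.node (.leaf 219) (.leaf 1170)) (.node (.leaf 597) (.leaf 2436)))) (.node (.node (.node (.leaf 137) (.leaf 1039)) (.node (.leaf 507) (.leaf 1924))) (.node (.node (.leaf 316) (.leaf 1296)) (.node (.leaf 723) (.leaf 2998)))))))) (.node (.node (.node (.node (.node (.node (.node (.leaf 6) (.leaf 766)) (.node (.leaf 331) (.leaf 1347))) (.node (.node (.leaf 152) (.leaf 1069)) (.node (.leaf 521) (.leaf 2257)))) (.node (.node (.node (.leaf 77) (.leaf 947)) (.node (.leaf 413) (.leaf 1586))) (.node (.node (.leaf 233) (.leaf 1194)) (.node (.leaf 620) (.leaf 2579))))) (.node (.node (.node (.node (.leaf 40) (.leaf 862)) (.node (.leaf 368) (.leaf 1450))) (.node (.node (.leaf 190) (.leaf 1142)) (.node (.leaf 568) (.leaf 2365)))) (.node (.node (.node (.leaf 114) (.leaf 1000)) (.node (.leaf 463) (.leaf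 1711))) (.node (.node (.leaf 293) (.leaf 1247)) (.node (.leaf 671) (.leaf 2744)))))) (.node (.node (.node (.node (.node (.leaf 23) (.leaf 831)) (.node (.leaf 351) (.leaf 1405))) (.node (.node (.leaf 171) (.leaf 1115)) (.node (.leaf 546) (.leaf 2290)))) (.node (.node (.node (.leaf 96) (.leaf 973)) (.node (.leaf 434) (.leaf 1634))) (.node (.node (.leaf 261) (.leaf 1223)) (.node (.leaf 639) (.leaf 2658))))) (.node (.node (.node (.node (.leaf 59) (.leaf 927)) (.node (.leaf 390) (.leaf 1518))) (.node (.node (.leaf 214) (.leaf 1165)) (.node (.leaf 592) (.leaf 2421)))) (.node (.node (.node (.leaf 132) (.leaf 1033)) (.node (.leaf 503) (.leaf 1816))) (.node (.node (.leaf 311) (.leaf 1288)) (.node (.leaf 715) (.leaf 2885))))))) (.node (.node (.node (.node (.node (.node (.leaf 15) (.leaf 790)) (.node (.leaf 340) (.leaf 1371))) (.node (.node (.leaf 160) (.leaf 1091)) (.node (.leaf 535) (.leaf 2276)))) (.node (.node (.node (.leaf 87) (.leaf 964)) (.node (.leaf 424) (.leaf 1609))) (.node (.node (.leaf 247) (.leaf 1208)) (.node (.leaf 629) (.leaf 2636))))) (.node (.node (.node (.node (.leaf 49) (.leaf 894)) (.node (.leaf 379) (.leaf 1497))) (.node (.node (.leaf 201) (.leaf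 1154)) (.node (.leaf 577) (.leaf 2399)))) (.node (.node (.node (.leaf 123) (.leaf 1011)) (.node (.leaf 480) (.leaf 1739))) (.node (.node (.leaf 302) (.leaf 1267)) (.node (.leaf 690) (.leaf 2795)))))) (.node (.node (.node (.node (.node (.leaf 32) (.leaf 844)) (.node (.leaf 360) (.leaf 1434))) (.node (.node (.leaf 181) (.leaf 1126)) (.node (.leaf 557) (.leaf 2315)))) (.node (.node (.node (.leaf 104) (.leaf 988)) (.node (.leaf 448) (.leaf 1679))) (.node (.node (.leaf 276) (.leaf 1237)) (.node (.leaf 652) (.leaf 2675))))) (.node (.node (.node (.node (.leaf 68) (.leaf 937)) (.node (.leaf 399) (.leaf 1537))) (.node (.node (.leaf 224) (.leaf 1180)) (.node (.leaf 604) (.leaf 2466)))) (.node (.node (.node (.leaf 143) (.leaf 1047)) (.node (.leaf 511) (.leaf 2033))) (.node (.node (.leaf 321) (.leaf 1315)) (.node (.leaf 736) (.leaf 3741)))))))))))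

def sylSucc : Arr :=
  (.node (.node (.node (.node (.node (.node (.node (.node (.node (.node (.leaf 4298115073) (.leaf 605378106225)) (.node (.leaf 625001860672) (.leaf 1061324911541))) (.node (.node (.leaf 414868439281) (.leaf 973379872089)) (.node (.leaf 894175084086) (.leaf 1048514086207)))) (.node (.node (.node (.leaf 185981869269) (.leaf 62522774579)) (.node (.leaf 706047709291) (.leaf 446652907949))) (.node (.node (.leaf 558410235222) (.leaf 508937333270)) (.node (.leaf 19156454518) (.leaf 860732820273))))) (.node (.node (.node (.node (.leaf 126824337523) (.leaf 178017597217)) (.node (.leaf 739455449773) (.leaf 1088222539150))) (.node (.node (.leaf 509001295320) (.leaf 496409011638)) (.node (.leaf 729264425819) (.leaf 102787833405)))) (.node (.node (.node (.leaf 331034708273) (.leaf 347305077689)) (.node (.leaf 239562536671) (.leaf 1046338708403))) (.node (.node (.leaf 479240415487) (.leaf 353585421591)) (.node (.leaf 765772040294) (.leaf 214523126362)))))) (.node (.node (.node (.node (.node (.leaf 21539910716) (.leaf 931163630705)) (.node (.leaf 703916030605) (.leaf 974258165257))) (.node (.node (.leaf 463898852782) (.leaf 568375431431)) (.node (.leaf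 618285517397) (.leaf 693292899087)))) (.node (.node (.node (.leaf 256892992515) (.leaf 370967676263)) (.node (.leaf 832859479732) (.leaf 269931814271))) (.node (.node (.leaf 577146141208) (.leaf 555713756077)) (.node (.leaf 953099847461) (.leaf 1099211558460))))) (.node (.node (.node (.node (.leaf 183622609065) (.leaf 172402250905)) (.node (.leaf 725535641245) (.leaf 38103216634))) (.node (.node (.leaf 333986648135) (.leaf 410147749854)) (.node (.leaf 763209034960) (.leaf 935044444794)))) (.node (.node (.node (.leaf 379400316255) (.leaf 524386504162)) (.node (.leaf 816193382189) (.leaf 319964906454))) (.node (.node (.leaf 17390790222) (.leaf 482442881987)) (.node (.leaf 960565682802) (.leaf 681491165032))))))) (.node (.node (.node (.node (.node (.node (.leaf 36541857823) (.leaf 956540214418)) (.node (.leaf 217569687745) (.leaf 247995058487))) (.node (.node (.leaf 438513850773) (.leaf 1044119498684)) (.node (.leaf 100695340247) (.leaf 815562348326)))) (.node (.node (.node (.leaf 245907034233) (.leaf 376786261335)) (.node (.leaf 823719099128) (.leaf 287105423886))) (.node (.node (.leaf 372976729441) (.leaf 994273741713)) (.node (.leaf 683820461702) (.leaf 120936554257)))))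 (.node (.node (.node (.node (.leaf 121483821199) (.leaf 787709980802)) (.node (.leaf 761380147907) (.leaf 1028538234138))) (.node (.node (.leaf 476179788194) (.leaf 267805518185)) (.node (.leaf 244585143040) (.leaf 940144531608)))) (.node (.node (.node (.leaf 354680119528) (.leaf 595859124158)) (.node (.leaf 197337394386) (.leaf 987782672376))) (.node (.node (.leaf 612109968952) (.leaf 1056513673538)) (.node (.leaf 948290990838) (.leaf 157485780812)))))) (.node (.node (.node (.node (.node (.leaf 96730177623) (.leaf 757910418053)) (.node (.leaf 720109204019) (.leaf 515320103880))) (.node (.node (.leaf 423526598017) (.leaf 26800929684)) (.node (.leaf 736410478399) (.leaf 910254786432)))) (.node (.node (.node (.leaf 304164922648) (.leaf 528536748582)) (.node (.leaf 727539517202) (.leaf 994735718388))) (.node (.node (.leaf 596210395689) (.leaf 1074723283443)) (.node (.leaf 242236992699) (.leaf 636429617988))))) (.node (.node (.node (.node (.leaf 86101917887) (.leaf 970951899165)) (.node (.leaf 740589994728) (.leaf 260244252717))) (.node (.node (.leaf 326854018559) (.leaf 401930050946)) (.node (.leaf 164479647823) (.leaf 165993356472)))) (.node (.node (.node (.leaf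 396491080047) (.leaf 977640760260)) (.node (.leaf 845894406300) (.leaf 345660263395))) (.node (.node (.leaf 644374693902) (.leaf 1035655913371)) (.node (.leaf 890879776446) (.leaf 670955649878)))))))) (.node (.node (.node (.node (.node (.node (.node (.leaf 20419986448) (.leaf 741822091135)) (.node (.leaf 14172157564) (.leaf 1075871460236))) (.node (.node (.leaf 410512665971) (.leaf 1039305480607)) (.node (.leaf 701288906453) (.leaf 685850700424)))) (.node (.node (.node (.leaf 238491497692) (.leaf 30433267227)) (.node (.leaf 652466590459) (.leaf 448758576101))) (.node (.node (.leaf 564848505888) (.leaf 378515255727)) (.node (.leaf 809159608993) (.leaf 156619679543))))) (.node (.node (.node (.node (.leaf 140796626048) (.leaf 87725000884)) (.node (.leaf 752352946873) (.leaf 253328863562))) (.node (.node (.leaf 515444367619) (.leaf 1054767096786)) (.node (.leaf 904885053280) (.leaf 957646476983)))) (.node (.node (.node (.leaf 345773507904) (.leaf 382687614472)) (.node (.leaf 855521326875) (.leaf 473966227760))) (.node (.node (.leaf 497384112629) (.leaf 431589052354)) (.node (.leaf 896317331053) (.leaf 613822852763)))))) (.node (.node (.node (.node (.node (.leaf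 80608306176) (.leaf 840409141021)) (.node (.leaf 122496836834) (.leaf 1057095641038))) (.node (.node (.leaf 444991988151) (.leaf 592657792307)) (.node (.leaf 639018601168) (.leaf 800536239840)))) (.node (.node (.node (.leaf 290192634123) (.leaf 1009710444069)) (.node (.leaf 826527094540) (.leaf 536223202281))) (.node (.node (.leaf 585576776128) (.leaf 1040775562564)) (.node (.leaf 918906857642) (.leaf 191938876267))))) (.node (.node (.node (.node (.leaf 193461405774) (.leaf 972685188998)) (.node (.leaf 143556483805) (.leaf 561999360044))) (.node (.node (.leaf 544918185465) (.leaf 564741552628)) (.node (.leaf 677381337702) (.leaf 83608289063)))) (.node (.node (.node (.leaf 348271181160) (.leaf 587654894065)) (.node (.leaf 874631654576) (.leaf 443392847914))) (.node (.node (.leaf 647618980023) (.leaf 1086516613430)) (.node (.leaf 767249022678) (.leaf 155553947514))))))) (.node (.node (.node (.node (.node (.node (.leaf 52663729198) (.leaf 113365856031)) (.node (.leaf 672367467145) (.leaf 344546650077))) (.node (.node (.leaf 451411347873) (.leaf 1039667246138)) (.node (.leaf 772900851284) (.leaf 854219139970)))) (.node (.node (.node (.leaf 261173265462) (.leaf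 520072618884)) (.node (.leaf 699772444420) (.leaf 329604453371))) (.node (.node (.leaf 572367683026) (.leaf 978493691807)) (.node (.leaf 842005235555) (.leaf 902733626193))))) (.node (.node (.node (.node (.leaf 168741203098) (.leaf 952169780079)) (.node (.leaf 745928339146) (.leaf 1090301975084))) (.node (.node (.leaf 512694401498) (.leaf 538246548917)) (.node (.leaf 937527451803) (.leaf 611694733507)))) (.node (.node (.node (.leaf 251615598933) (.leaf 459000952768)) (.node (.leaf 792545956563) (.leaf 342010853355))) (.node (.node (.leaf 626602350148) (.leaf 294770507118)) (.node (.leaf 202800486561) (.leaf 196161495913)))))) (.node (.node (.node (.node (.node (.leaf 91376162890) (.leaf 659056394356)) (.node (.leaf 715350774417) (.leaf 1068364696872))) (.node (.node (.leaf 495041589707) (.leaf 1064556263464)) (.node (.leaf 867370292837) (.leaf 818883050276)))) (.node (.node (.node (.leaf 284851963175) (.leaf 516924345804)) (.node (.leaf 647077915844) (.leaf 1097295961135))) (.node (.node (.leaf 485915826233) (.leaf 533533870073)) (.node (.leaf 770042527882) (.leaf 790999292685))))) (.node (.node (.node (.node (.leaf 220331184331) (.leaf 988806615958)) (.node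 (.leaf 807167309542) (.leaf 1010930983419))) (.node (.node (.leaf 266749623344) (.leaf 1066162623908)) (.node (.leaf 768534567657) (.leaf 90900093516)))) (.node (.node (.node (.leaf 66607682833) (.leaf 77811954750)) (.node (.leaf 10527927913) (.leaf 356986993650))) (.node (.node (.leaf 669594007148) (.leaf 549699723592)) (.node (.leaf 808281046687) (.leaf 796439309035))))))))) (.node (.node (.node (.node (.node (.node (.node (.node (.leaf 12896446473) (.leaf 906033438589)) (.node (.leaf 678751231606) (.leaf 1069793918945))) (.node (.node (.leaf 420944944518) (.leaf 397561855505)) (.node (.leaf 98584555271) (.leaf 1095121224012)))) (.node (.node (.node (.leaf 178468855937) (.leaf 995664755613)) (.node (.leaf 731820843767) (.leaf 256534364226))) (.node (.node (.leaf 391092120644) (.leaf 458467237831)) (.node (.leaf 857006073005) (.leaf 812640898858))))) (.node (.node (.node (.node (.leaf 89250720890) (.leaf 903780055934)) (.node (.leaf 713691943486) (.leaf 1015196624856))) (.node (.node (.leaf 513306745309) (.leaf 265156608362)) (.node (.leaf 924235678319) (.leaf 864072537781)))) (.node (.node (.node (.leaf 297757108537) (.leaf 563161376680)) (.node (.leaf 717942848073)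 (.leaf 420826456549))) (.node (.node (.leaf 60203434517) (.leaf 427307712043)) (.node (.leaf 936476780136) (.leaf 658022964056)))))) (.node (.node (.node (.node (.node (.leaf 74092449859) (.leaf 943363832942)) (.node (.leaf 207359233665) (.leaf 277970423238))) (.node (.node (.leaf 467532804529) (.leaf 387034594250)) (.node (.leaf 671230017358) (.leaf 112446954138)))) (.node (.node (.node (.leaf 282669094148) (.leaf 299049966886)) (.node (.leaf 610635691108) (.leaf 970598524902))) (.node (.node (.leaf 582535801372) (.leaf 34769766670)) (.node (.leaf 760380855314) (.leaf 698624468537))))) (.node (.node (.node (.node (.leaf 107558911065) (.leaf 839200411339)) (.node (.leaf 224102926040) (.leaf 49890447874))) (.node (.node (.leaf 540565559789) (.leaf 1080111903059)) (.node (.leaf 943973055108) (.leaf 878186383528)))) (.node (.node (.node (.leaf 383358701804) (.leaf 976611086786)) (.node (.leaf 789410546799) (.leaf 305888854462))) (.node (.node (.leaf 641104171603) (.leaf 526093119018)) (.node (.leaf 110377391238) (.leaf 650447214420))))))) (.node (.node (.node (.node (.node (.node (.leaf 45140189223) (.leaf 804075520878)) (.node (.leaf 693724910607) (.leaf 594287276522)))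 (.node (.node (.leaf 408455377150) (.leaf 419310233123)) (.node (.leaf 620760731351) (.leaf 928474071880)))) (.node (.node (.node (.leaf 253424282858) (.leaf 415823858221)) (.node (.leaf 828663124737) (.leaf 598654631204))) (.node (.node (.leaf 569145268258) (.leaf 483507299318)) (.node (.leaf 829758965445) (.leaf 883417038503))))) (.node (.node (.node (.node (.leaf 162292454548) (.leaf 733168185182)) (.node (.leaf 206904050374) (.leaf 437583834599))) (.node (.node (.leaf 527632411113) (.leaf 1069320997182)) (.node (.leaf 849992245916) (.leaf 129723655807)))) (.node (.node (.node (.leaf 361881747791) (.leaf 591055593875)) (.node (.leaf 868430420735) (.leaf 1000201508791))) (.node (.node (.leaf 19931921415) (.leaf 296252322843)) (.node (.leaf 723534908144) (.leaf 171797808985)))))) (.node (.node (.node (.node (.node (.leaf 104159346783) (.leaf 627284486936)) (.node (.leaf 723794953888) (.leaf 44008778670))) (.node (.node (.leaf 487954256250) (.leaf 1060076675034)) (.node (.leaf 920950497469) (.leaf 159761252052)))) (.node (.node (.node (.leaf 311688462623) (.leaf 1017308433329)) (.node (.leaf 836199263998) (.leaf 1011999489458))) (.node (.node (.leaf 462263088493)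 (.leaf 587218685206)) (.node (.leaf 909034464857) (.leaf 96376834618))))) (.node (.node (.node (.node (.leaf 214764297414) (.leaf 985582686098)) (.node (.leaf 111366770412) (.leaf 309748599769))) (.node (.node (.leaf 550170446236) (.leaf 1082270913432)) (.node (.leaf 189785682528) (.leaf 933806075779)))) (.node (.node (.node (.leaf 376956113245) (.leaf 1037167990167)) (.node (.leaf 881674778420) (.leaf 320963129314))) (.node (.node (.leaf 664220050023) (.leaf 332125846868)) (.node (.leaf 910722691915) (.leaf 651759344469)))))))) (.node (.node (.node (.node (.node (.node (.node (.leaf 29018317848) (.leaf 899995483984)) (.node (.leaf 688355147939) (.leaf 315673079764))) (.node (.node (.leaf 433139893648) (.leaf 367161221477)) (.node (.leaf 894609134161) (.leaf 79308074074)))) (.node (.node (.node (.leaf 218206799048) (.leaf 600469714234)) (.node (.leaf 662605820027) (.leaf 351690562040))) (.node (.node (.leaf 275433144839) (.leaf 1087578820496)) (.node (.leaf 719012410231) (.leaf 107214902960))))) (.node (.node (.node (.node (.leaf 148320166023) (.leaf 84630764681)) (.node (.leaf 138125441725) (.leaf 249553048865))) (.node (.node (.leaf 481545330148) (.leaf 70230757740))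 (.node (.leaf 820971828898) (.leaf 964895121626)))) (.node (.node (.node (.leaf 271998559474) (.leaf 306500107197)) (.node (.leaf 859832006430) (.leaf 364446569459))) (.node (.node (.leaf 605830040682) (.leaf 584471578607)) (.node (.leaf 721322544881) (.leaf 146932902714)))))) (.node (.node (.node (.node (.node (.leaf 88052155472) (.leaf 615099464577)) (.node (.leaf 712585664148) (.leaf 463147024623))) (.node (.node (.leaf 302839691709) (.leaf 1052559422419)) (.node (.leaf 764324618067) (.leaf 756707691367)))) (.node (.node (.node (.leaf 254766501138) (.leaf 23535311910)) (.node (.leaf 840859130493) (.leaf 983512799216))) (.node (.node (.leaf 589551931786) (.leaf 384719756624)) (.node (.leaf 749639233672) (.leaf 675005716172))))) (.node (.node (.node (.node (.leaf 200804591801) (.leaf 66450379659)) (.node (.leaf 795344603873) (.leaf 493314597374))) (.node (.node (.leaf 392398114301) (.leaf 69066623001)) (.node (.leaf 873543333672) (.leaf 958453881014)))) (.node (.node (.node (.leaf 340758166809) (.leaf 369885538345)) (.node (.leaf 229332795168) (.leaf 436502684025))) (.node (.node (.leaf 161142634637) (.leaf 1029609887211)) (.node (.leaf 236844630715) (.leaf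 743952769118))))))) (.node (.node (.node (.node (.node (.node (.leaf 59112477748) (.leaf 886507891503)) (.node (.leaf 667020803664) (.leaf 75519766034))) (.node (.node (.leaf 456726585767) (.leaf 533958478216)) (.node (.leaf 696998767433) (.leaf 844761966436)))) (.node (.node (.node (.leaf 268457731320) (.leaf 368580044335)) (.node (.leaf 655712936710) (.leaf 601825443117))) (.node (.node (.leaf 412699986185) (.leaf 1037665509311)) (.node (.leaf 881171688598) (.leaf 687953544332))))) (.node (.node (.node (.node (.leaf 134389861538) (.leaf 188842349194)) (.node (.leaf 636828205775) (.leaf 1095675828648))) (.node (.node (.leaf 534775317915) (.leaf 405849632743)) (.node (.leaf 919340934775) (.leaf 710677258048)))) (.node (.node (.node (.leaf 374767710555) (.leaf 1033204860848)) (.node (.leaf 855897846342) (.leaf 283946048020))) (.node (.node (.leaf 631564217930) (.leaf 1083737885587)) (.node (.leaf 125214775373) (.leaf 1098174564039)))))) (.node (.node (.node (.node (.node (.leaf 119300797548) (.leaf 946764083858)) (.node (.leaf 733522602665) (.leaf 537282272524))) (.node (.node (.leaf 276441811409) (.leaf 262477494651)) (.node (.leaf 630476845066) (.leaf 234812943132))))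 (.node (.node (.node (.leaf 325660751148) (.leaf 367615257004)) (.node (.leaf 235265860694) (.leaf 518590545367))) (.node (.node (.leaf 526539795853) (.leaf 1062284360663)) (.node (.leaf 754432738098) (.leaf 794391457519))))) (.node (.node (.node (.node (.leaf 224429031506) (.leaf 968853711292)) (.node (.leaf 809705916082) (.leaf 434193696239))) (.node (.node (.leaf 542783189509) (.leaf 400934627889)) (.node (.leaf 744909145772) (.leaf 954385388144)))) (.node (.node (.node (.leaf 407344899448) (.leaf 566136184046)) (.node (.leaf 889192037179) (.leaf 330224783424))) (.node (.node (.leaf 642277558897) (.leaf 395007514052)) (.node (.leaf 707185495710) (.leaf 467071927263)))))))))) (.node (.node (.node (.node (.node (.node (.node (.node (.node (.leaf 8597280773) (.leaf 82472218784)) (.node (.leaf 675620179979) (.leaf 31602015132))) (.node (.node (.leaf 418092775811) (.leaf 337714107742)) (.node (.leaf 768934086242) (.leaf 435931319293)))) (.node (.node (.node (.leaf 231946280056) (.leaf 992528460826)) (.node (.leaf 814615353076) (.leaf 1050525261099))) (.node (.node (.leaf 560552485911) (.leaf 1084789605682)) (.node (.leaf 624699186398) (.leaf 823363632991)))))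 (.node (.node (.node (.node (.leaf 129931272311) (.leaf 749303790393)) (.node (.leaf 742050679473) (.leaf 339797308363))) (.node (.node (.leaf 439659928027) (.leaf 74016953690)) (.node (.leaf 629923769108) (.leaf 961913012911)))) (.node (.node (.node (.leaf 335333873973) (.leaf 1018876064699)) (.node (.leaf 700691066899) (.leaf 289827529067))) (.node (.node (.leaf 602639155760) (.leaf 1077987502401)) (.node (.leaf 755776564091) (.leaf 114531312275)))))) (.node (.node (.node (.node (.node (.leaf 70935183423) (.leaf 938658786389)) (.node (.leaf 623389591184) (.leaf 557724277274))) (.node (.node (.leaf 395393221890) (.leaf 469516081202)) (.node (.leaf 907940802727) (.leaf 640718296897)))) (.node (.node (.node (.leaf 278136097025) (.leaf 599401605672)) (.node (.leaf 835067754248) (.leaf 966950524449))) (.node (.node (.leaf 579311004104) (.leaf 1089350917571)) (.node (.leaf 891401969464) (.leaf 106007418633))))) (.node (.node (.node (.node (.leaf 145137775788) (.leaf 959607059270)) (.node (.leaf 781372315286) (.leaf 1063496154364))) (.node (.node (.leaf 336606825801) (.leaf 28912938888)) (.node (.leaf 942305817188) (.leaf 124387932949)))) (.node (.node (.node (.leaf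 381537268066) (.leaf 472978455004)) (.node (.leaf 813045635750) (.leaf 486862704032))) (.node (.node (.leaf 638425055823) (.leaf 540038127553)) (.node (.leaf 945732411570) (.leaf 180226947927))))))) (.node (.node (.node (.node (.node (.node (.leaf 40841023523) (.leaf 648759068439)) (.node (.leaf 692158299779) (.leaf 1067261034492))) (.node (.node (.leaf 441348155801) (.leaf 358084036966)) (.node (.leaf 634814012229) (.leaf 834042220645)))) (.node (.node (.node (.leaf 250425351398) (.leaf 1001184441872)) (.node (.leaf 824743514739) (.leaf 1053857979766))) (.node (.node (.leaf 285867231301) (.leaf 443984335252)) (.node (.leaf 690578628470) (.leaf 168211097163))))) (.node (.node (.node (.node (.leaf 157850683537) (.leaf 117920874127)) (.node (.leaf 702820269634) (.leaf 281287073189))) (.node (.node (.leaf 398621675575) (.leaf 54728361423)) (.node (.leaf 923255278680) (.leaf 607432837783)))) (.node (.node (.node (.leaf 358979285323) (.leaf 511364235731)) (.node (.leaf 864484627107) (.leaf 318389574650))) (.node (.node (.leaf 616929227323) (.leaf 1023604107554)) (.node (.leaf 941248853151) (.leaf 167302559612)))))) (.node (.node (.node (.node (.node (.leaf 101029343323)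 (.leaf 907168003216)) (.node (.leaf 211157202132) (.leaf 51526026648))) (.node (.node (.leaf 431689764167) (.leaf 1058602443706)) (.node (.leaf 12547912280) (.leaf 811373267694)))) (.node (.node (.node (.leaf 307115619612) (.leaf 551372054577)) (.node (.leaf 846223658068) (.leaf 998013570033))) (.node (.node (.leaf 503654604225) (.leaf 567256810487)) (.node (.leaf 896773460828) (.leaf 643962595154))))) (.node (.node (.node (.node (.leaf 211732860098) (.leaf 980851508111)) (.node (.leaf 802198097642) (.leaf 302213525452))) (.node (.node (.leaf 543817086997) (.leaf 68630628879)) (.node (.leaf 656211606136) (.leaf 674079979669)))) (.node (.node (.node (.leaf 279460564338) (.leaf 46671138045)) (.node (.leaf 872514614479) (.leaf 404263273719))) (.node (.node (.leaf 659920884323) (.leaf 288733018343)) (.node (.leaf 15919496821) (.leaf 709481996855)))))))) (.node (.node (.node (.node (.node (.node (.node (.leaf 24719152148) (.leaf 182092711742)) (.node (.leaf 686790236277) (.leaf 428321794985))) (.node (.node (.leaf 428840727948) (.leaf 547092362672)) (.node (.leaf 847792348177) (.leaf 200540352091)))) (.node (.node (.node (.leaf 116092272863) (.leaf 545869112589))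 (.node (.leaf 821519184563) (.leaf 248452982285))) (.node (.node (.leaf 553530167798) (.leaf 460582217060)) (.node (.leaf 225647481018) (.leaf 950994198283))))) (.node (.node (.node (.node (.leaf 143890977924) (.leaf 765261121669)) (.node (.leaf 237392590953) (.leaf 478816942365))) (.node (.node (.leaf 519123207641) (.leaf 468621122000)) (.node (.leaf 930540670817) (.leaf 150054537863)))) (.node (.node (.node (.leaf 308505022787) (.leaf 471634192837)) (.node (.leaf 205920483537) (.leaf 271641213871))) (.node (.node (.leaf 489875253278) (.leaf 400390716753)) (.node (.leaf 868832004853) (.leaf 139363225378)))))) (.node (.node (.node (.node (.node (.leaf 84907471948) (.leaf 848928285255)) (.node (.leaf 708285450246) (.leaf 1070884428768))) (.node (.node (.leaf 477041716666) (.leaf 1045275025763)) (.node (.leaf 912859678543) (.leaf 866215830187)))) (.node (.node (.node (.leaf 293155913999) (.leaf 510343405042)) (.node (.leaf 216642213093) (.leaf 980301006828))) (.node (.node (.leaf 313032762914) (.leaf 1032816888746)) (.node (.leaf 929652661986) (.leaf 784586217221))))) (.node (.node (.node (.node (.leaf 197760571573) (.leaf 422292891981)) (.node (.leaf 620321537758)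 (.leaf 991601521592))) (.node (.node (.leaf 388055429366) (.leaf 338533062619)) (.node (.leaf 838373068658) (.leaf 190774885166)))) (.node (.node (.node (.leaf 389802207504) (.leaf 531895912996)) (.node (.leaf 174570220723) (.leaf 1082797322145))) (.node (.node (.leaf 628773361244) (.leaf 1007610804739)) (.node (.leaf 788312774880) (.leaf 780283904696))))))) (.node (.node (.node (.node (.node (.node (.leaf 35487008790) (.leaf 774850265219)) (.node (.leaf 233090722003) (.leaf 455623485412))) (.node (.node (.leaf 453160375349) (.leaf 450263282949)) (.node (.leaf 209186844889) (.leaf 818035796700)))) (.node (.node (.node (.leaf 265472431348) (.leaf 24179022755)) (.node (.leaf 830113277689) (.leaf 333930882029))) (.node (.node (.leaf 393265307888) (.leaf 350614986130)) (.node (.leaf 778033693561) (.leaf 922014836524))))) (.node (.node (.node (.node (.leaf 173040368798) (.leaf 150554688126)) (.node (.leaf 185310329549) (.leaf 44589905419))) (.node (.node (.leaf 322531855856) (.leaf 1071931954619)) (.node (.leaf 785803604762) (.leaf 142361178825)))) (.node (.node (.node (.leaf 371876782145) (.leaf 1027038171453)) (.node (.leaf 759352213131) (.leaf 975972553704)))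 (.node (.node (.leaf 5609432648) (.leaf 494990210583)) (.node (.leaf 831958826612) (.leaf 203724880748)))))) (.node (.node (.node (.node (.node (.leaf 115001631848) (.leaf 932229008040)) (.node (.leaf 730857118373) (.leaf 64798887434))) (.node (.node (.leaf 498677005774) (.leaf 1022496262030)) (.node (.leaf 176238507836) (.leaf 230579371101)))) (.node (.node (.node (.leaf 321075325225) (.leaf 575783493558)) (.node (.leaf 175707911370) (.leaf 292527818236))) (.node (.node (.leaf 529767219758) (.leaf 1052176771374)) (.node (.leaf 132734077964) (.leaf 735139493626))))) (.node (.node (.node (.node (.leaf 222466035918) (.leaf 349211354427)) (.node (.leaf 776030844070) (.leaf 501868860934))) (.node (.node (.leaf 554547285393) (.leaf 27829235239)) (.node (.leaf 195209847965) (.leaf 880296124563)))) (.node (.node (.node (.leaf 403042588674) (.leaf 488831390131)) (.node (.leaf 887565903566) (.leaf 507322510814))) (.node (.node (.leaf 186914554020) (.leaf 274826771742)) (.node (.leaf 916802329181) (.leaf 966180746944))))))))) (.node (.node (.node (.node (.node (.node (.node (.node (.leaf 16106141709) (.leaf 776967196514)) (.node (.leaf 682475776633) (.leaf 981865908130)))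 (.node (.node (.leaf 361190737289) (.leaf 1004928934973)) (.node (.leaf 897881804610) (.leaf 449783960455)))) (.node (.node (.node (.leaf 79686756556) (.leaf 999170148256)) (.node (.leaf 801811195623) (.leaf 986276950560))) (.node (.node (.leaf 425483298316) (.leaf 1078410065822)) (.node (.leaf 898909408071) (.leaf 925226546954))))) (.node (.node (.node (.node (.leaf 136450275453) (.leaf 726073501917)) (.node (.leaf 747931098806) (.leaf 406252373360))) (.node (.node (.leaf 55249832415) (.leaf 57205120541)) (.node (.leaf 926786878301) (.leaf 704987230998)))) (.node (.node (.node (.leaf 342857413948) (.leaf 581376052619)) (.node (.leaf 853293164249) (.leaf 1073214387445))) (.node (.node (.leaf 603741042036) (.leaf 1016085794080)) (.node (.leaf 797615824665) (.leaf 662296963942)))))) (.node (.node (.node (.node (.node (.leaf 33361566790) (.leaf 154222254864)) (.node (.leaf 653431243953) (.leaf 1025972845851))) (.node (.node (.leaf 470558365108) (.leaf 1050015646671)) (.node (.leaf 888874520750) (.leaf 870674378611)))) (.node (.node (.node (.leaf 1352934664) (.leaf 499681454560)) (.node (.leaf 837223721642) (.leaf 491742820833))) (.node (.node (.leaf 452111800863)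 (.leaf 62224657777)) (.node (.leaf 192365659263) (.leaf 231580328032))))) (.node (.node (.node (.node (.leaf 118125413479) (.leaf 967901581737)) (.node (.leaf 786080427738) (.leaf 389089176825))) (.node (.node (.leaf 541220866374) (.leaf 997468745621)) (.node (.leaf 782298366144) (.leaf 876007872188)))) (.node (.node (.node (.leaf 385544984924) (.leaf 983815212307)) (.node (.leaf 773225793087) (.leaf 1091978634137))) (.node (.node (.leaf 645948595798) (.leaf 502846092776)) (.node (.leaf 684666664641) (.leaf 668699784056))))))) (.node (.node (.node (.node (.node (.node (.leaf 48320524331) (.leaf 722380441379)) (.node (.leaf 695911194240) (.leaf 1014051090948))) (.node (.node (.leaf 446947556766) (.leaf 1020426376102)) (.node (.leaf 883884704563) (.leaf 804977884891)))) (.node (.node (.node (.leaf 257948891373) (.leaf 990351596453)) (.node (.leaf 210107569327) (.leaf 58401759607))) (.node (.node (.leaf 571503823876) (.leaf 76590120169)) (.node (.leaf 695352303742) (.leaf 666496792387))))) (.node (.node (.node (.node (.leaf 147263217745) (.leaf 728887894827)) (.node (.leaf 140181710536) (.leaf 1009289966037))) (.node (.node (.leaf 429763573228) (.leaf 1059754822981))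 (.node (.leaf 936142153573) (.leaf 126358856920)))) (.node (.node (.node (.leaf 365400771922) (.leaf 556470828472)) (.node (.leaf 871422012201) (.leaf 328445348174))) (.node (.node (.leaf 621788334657) (.leaf 1019956454353)) (.node (.leaf 792001697523) (.leaf 183257706317)))))) (.node (.node (.node (.node (.node (.leaf 108552883298) (.leaf 133928519794)) (.node (.leaf 135999388814) (.leaf 465514193354))) (.node (.node (.leaf 492253422023) (.leaf 1047936298972)) (.node (.leaf 680548030058) (.leaf 862853955324)))) (.node (.node (.node (.leaf 315987628323) (.leaf 301091182516)) (.node (.leaf 619303877390) (.leaf 42879675904))) (.node (.node (.leaf 577743925510) (.leaf 570505580928)) (.node (.leaf 885621836971) (.leaf 947855921923))))) (.node (.node (.node (.node (.leaf 127987186889) (.leaf 360039411250)) (.node (.leaf 240621040195) (.leaf 40266430714))) (.node (.node (.leaf 552391300609) (.leaf 522145209735)) (.node (.leaf 852406069987) (.leaf 955401463959)))) (.node (.node (.node (.leaf 323456646517) (.leaf 588912301469)) (.node (.leaf 95352351542) (.leaf 264128159126))) (.node (.node (.leaf 198819650155) (.leaf 580775217050)) (.node (.leaf 661006740091) (.leaf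 678317122413)))))))) (.node (.node (.node (.node (.node (.node (.node (.leaf 32213333020) (.leaf 633708072588)) (.node (.leaf 632649474172) (.leaf 39682350069))) (.node (.node (.leaf 2571112691) (.leaf 1042006599625)) (.node (.leaf 227316828357) (.leaf 963862592153)))) (.node (.node (.node (.leaf 160087301347) (.leaf 72310893844)) (.node (.leaf 664784788705) (.leaf 1092411701551))) (.node (.node (.leaf 313917741445) (.leaf 597313481636)) (.node (.leaf 915529392734) (.leaf 99703946238))))) (.node (.node (.node (.node (.leaf 152619331723) (.leaf 901095698002)) (.node (.leaf 758801695423) (.leaf 480343197573))) (.node (.node (.leaf 522962049434) (.leaf 1002100982302)) (.node (.leaf 11450462995) (.leaf 914518703196)))) (.node (.node (.node (.leaf 281350053120) (.leaf 56330044798)) (.node (.leaf 861828581074) (.leaf 1043578434512))) (.node (.node (.leaf 608995695157) (.leaf 475555986313)) (.node (.leaf 806173272804) (.leaf 783653017325)))))) (.node (.node (.node (.node (.node (.leaf 92431011923) (.leaf 608653860526)) (.node (.leaf 716884829848) (.leaf 317235090963))) (.node (.node (.leaf 454537183679) (.leaf 259801731029)) (.node (.leaf 917118998126) (.leaf 926166122357))))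 (.node (.node (.node (.leaf 299820669205) (.leaf 1012959983997)) (.node (.leaf 843001380939) (.leaf 989344372714))) (.node (.node (.leaf 593283815927) (.leaf 1005595833743)) (.node (.leaf 738501305074) (.leaf 245509624929))))) (.node (.node (.node (.node (.leaf 204181009596) (.leaf 484571499405)) (.node (.leaf 797892647653) (.leaf 352585066937))) (.node (.node (.leaf 547664373230) (.leaf 381060960238)) (.node (.leaf 819430472564) (.leaf 690173333188)))) (.node (.node (.node (.leaf 3605378400) (.leaf 1003321580057)) (.node (.leaf 878981203760) (.leaf 48238736728))) (.node (.node (.leaf 654063534687) (.leaf 363995231544)) (.node (.leaf 711498365582) (.leaf 737422262933))))))) (.node (.node (.node (.node (.node (.node (.leaf 63411643448) (.leaf 911814249290)) (.node (.leaf 8200531586) (.leaf 1093472857386))) (.node (.node (.leaf 461084470698) (.leaf 1034390315947)) (.node (.leaf 103956972758) (.leaf 858685894308)))) (.node (.node (.node (.leaf 272995971323) (.leaf 1007078513700)) (.node (.leaf 827016780873) (.leaf 574368538070))) (.node (.node (.leaf 574903310793) (.leaf 356438147380)) (.node (.leaf 799502155517) (.leaf 94217814786))))) (.node (.node (.node (.node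 (.leaf 180563908773) (.leaf 212834903245)) (.node (.leaf 753352264401) (.leaf 374133323658))) (.node (.node (.leaf 324512763173) (.leaf 1076192323479)) (.node (.leaf 219866600298) (.leaf 714970132479)))) (.node (.node (.node (.leaf 291351289928) (.leaf 1024864882610)) (.node (.leaf 778672233581) (.leaf 1080747354061))) (.node (.node (.leaf 242744512077) (.leaf 1031846458310)) (.node (.leaf 169832189118) (.leaf 893206200419)))))) (.node (.node (.node (.node (.node (.leaf 119653488) (.leaf 751217442373)) (.node (.leaf 7159685684) (.leaf 413766407084))) (.node (.node (.leaf 506225710548) (.leaf 583336839587)) (.node (.leaf 221833134938) (.leaf 164019447664)))) (.node (.node (.node (.leaf 310386147563) (.leaf 531427194317)) (.node (.leaf 851012508680) (.leaf 417183862246))) (.node (.node (.leaf 500950107195) (.leaf 1021458276385)) (.node (.leaf 131663997147) (.leaf 747136279234))))) (.node (.node (.node (.node (.leaf 227854731463) (.leaf 52127062053)) (.node (.leaf 771738481338) (.leaf 505702480355))) (.node (.node (.leaf 296897021194) (.leaf 560391007143)) (.node (.leaf 949898566241) (.leaf 962719482455)))) (.node (.node (.node (.leaf 411644065148) (.leaf 521317324164))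 (.node (.leaf 877044385597) (.leaf 441226522565))) (.node (.node (.leaf 615911617764) (.leaf 425106733478)) (.node (.leaf 152329950005) (.leaf 1030769613227)))))))))))

def sylOrd : Arr :=
  (.node (.node (.node (.node (.node (.node (.node (.node (.node (.node (.leaf 114) (.leaf 800)) (.node (.leaf 155) (.leaf 720))) (.node (.node (.leaf 33) (.leaf 21)) (.node (.leaf 17) (.leaf 877)))) (.node (.node (.node (.leaf 625) (.leaf 825)) (.node (.leaf 735) (.leaf 842))) (.node (.node (.leaf 345) (.leaf 549)) (.node (.leaf 806) (.leaf 540))))) (.node (.node (.node (.node (.leaf 685) (.leaf 751)) (.node (.leaf 905) (.leaf 3))) (.node (.node (.leaf 823) (.leaf 1005)) (.node (.leaf 493) (.leaf 531)))) (.node (.node (.node (.leaf 132) (.leaf 406)) (.node (.leaf 230) (.leaf 182))) (.node (.node (.leaf 63) (.leaf 20)) (.node (.leaf 38) (.leaf 102)))))) (.node (.node (.node (.node (.node (.leaf 201) (.leaf 83)) (.node (.leaf 942) (.leaf 556))) (.node (.node (.leaf 630) (.leaf 438)) (.node (.leaf 73) (.leaf 547)))) (.node (.node (.node (.leaf 644) (.leaf 149)) (.node (.leaf 910) (.leaf 373))) (.node (.node (.leaf 871) (.leaf 681)) (.node (.leaf 441) (.leaf 669))))) (.node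 (.node (.node (.node (.leaf 366) (.leaf 851)) (.node (.leaf 410) (.leaf 131))) (.node (.node (.leaf 260) (.leaf 514)) (.node (.leaf 380) (.leaf 658)))) (.node (.node (.node (.leaf 780) (.leaf 297)) (.node (.leaf 958) (.leaf 854))) (.node (.node (.leaf 1008) (.leaf 687)) (.node (.leaf 486) (.leaf 481))))))) (.node (.node (.node (.node (.node (.node (.leaf 197) (.leaf 781)) (.node (.leaf 927) (.leaf 359))) (.node (.node (.leaf 51) (.leaf 321)) (.node (.leaf 894) (.leaf 972)))) (.node (.node (.node (.leaf 897) (.leaf 839)) (.node (.leaf 581) (.leaf 220))) (.node (.node (.leaf 123) (.leaf 636)) (.node (.leaf 597) (.leaf 607))))) (.node (.node (.node (.node (.leaf 838) (.leaf 818)) (.node (.leaf 54) (.leaf 29))) (.node (.node (.leaf 244) (.leaf 988)) (.node (.leaf 429) (.leaf 151)))) (.node (.node (.node (.leaf 7) (.leaf 323)) (.node (.leaf 488) (.leaf 141))) (.node (.node (.leaf 919) (.leaf 283)) (.node (.leaf 399) (.leaf 771)))))) (.node (.node (.node (.node (.node (.leaf 791) (.leaf 492)) (.node (.leaf 641) (.leaf 19))) (.node (.node (.leaf 856) (.leaf 267)) (.node (.leaf 255) (.leaf 445)))) (.node (.node (.node (.leaf 413) (.leaf 555)) (.node (.leaf 351) (.leaf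 59))) (.node (.node (.leaf 812) (.leaf 80)) (.node (.leaf 516) (.leaf 803))))) (.node (.node (.node (.node (.leaf 536) (.leaf 329)) (.node (.leaf 656) (.leaf 177))) (.node (.node (.leaf 356) (.leaf 198)) (.node (.leaf 273) (.leaf 217)))) (.node (.node (.node (.leaf 204) (.leaf 859)) (.node (.leaf 945) (.leaf 414))) (.node (.node (.leaf 996) (.leaf 680)) (.node (.leaf 836) (.leaf 67)))))))) (.node (.node (.node (.node (.node (.node (.node (.leaf 570) (.leaf 770)) (.node (.leaf 855) (.leaf 672))) (.node (.node (.leaf 392) (.leaf 355)) (.node (.leaf 837) (.leaf 870)))) (.node (.node (.node (.leaf 718) (.leaf 94)) (.node (.leaf 104) (.leaf 213))) (.node (.node (.leaf 277) (.leaf 913)) (.node (.leaf 130) (.leaf 316))))) (.node (.node (.node (.node (.leaf 702) (.leaf 858)) (.node (.leaf 484) (.leaf 552))) (.node (.node (.leaf 892) (.leaf 249)) (.node (.leaf 980) (.leaf 402)))) (.node (.node (.node (.leaf 750) (.leaf 474)) (.node (.leaf 526) (.leaf 632))) (.node (.node (.leaf 27) (.leaf 264)) (.node (.leaf 295) (.leaf 868)))))) (.node (.node (.node (.node (.node (.leaf 216) (.leaf 574)) (.node (.leaf 518) (.leaf 375))) (.node (.node (.leaf 828) (.leaf 344)) (.node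 (.leaf 694) (.leaf 305)))) (.node (.node (.node (.leaf 688) (.leaf 721)) (.node (.leaf 471) (.leaf 528))) (.node (.node (.leaf 598) (.leaf 82)) (.node (.leaf 489) (.leaf 600))))) (.node (.node (.node (.node (.leaf 70) (.leaf 670)) (.node (.leaf 1009) (.leaf 592))) (.node (.node (.leaf 357) (.leaf 377)) (.node (.leaf 991) (.leaf 846)))) (.node (.node (.node (.leaf 18) (.leaf 524)) (.node (.leaf 511) (.leaf 890))) (.node (.node (.leaf 407) (.leaf 78)) (.node (.leaf 437) (.leaf 477))))))) (.node (.node (.node (.node (.node (.node (.leaf 124) (.leaf 841)) (.node (.leaf 385) (.leaf 313))) (.node (.node (.leaf 519) (.leaf 422)) (.node (.leaf 697) (.leaf 290)))) (.node (.node (.node (.leaf 604) (.leaf 608)) (.node (.leaf 223) (.leaf 799))) (.node (.node (.leaf 88) (.leaf 683)) (.node (.leaf 682) (.leaf 686))))) (.node (.node (.node (.node (.leaf 739) (.leaf 860)) (.node (.leaf 1015) (.leaf 272))) (.node (.node (.leaf 408) (.leaf 417)) (.node (.leaf 440) (.leaf 153)))) (.node (.node (.node (.leaf 753) (.leaf 448)) (.node (.leaf 923) (.leaf 824))) (.node (.node (.leaf 962) (.leaf 970)) (.node (.leaf 978) (.leaf 610)))))) (.node (.node (.node (.node (.node (.leaf 896)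 (.leaf 430)) (.node (.leaf 586) (.leaf 834))) (.node (.node (.leaf 150) (.leaf 233)) (.node (.leaf 938) (.leaf 378)))) (.node (.node (.node (.leaf 1004) (.leaf 322)) (.node (.leaf 350) (.leaf 979))) (.node (.node (.leaf 168) (.leaf 865)) (.node (.leaf 921) (.leaf 795))))) (.node (.node (.node (.node (.leaf 43) (.leaf 387)) (.node (.leaf 109) (.leaf 565))) (.node (.node (.leaf 505) (.leaf 747)) (.node (.leaf 30) (.leaf 215)))) (.node (.node (.node (.leaf 762) (.leaf 706)) (.node (.leaf 949) (.leaf 512))) (.node (.node (.leaf 420) (.leaf 772)) (.node (.leaf 773) (.leaf 334))))))))) (.node (.node (.node (.node (.node (.node (.node (.node (.leaf 194) (.leaf 864)) (.node (.leaf 189) (.leaf 887))) (.node (.node (.leaf 397) (.leaf 901)) (.node (.leaf 660) (.leaf 624)))) (.node (.node (.node (.leaf 881) (.leaf 626)) (.node (.leaf 222) (.leaf 726))) (.node (.node (.leaf 336) (.leaf 515)) (.node (.leaf 719) (.leaf 506))))) (.node (.node (.node (.node (.leaf 729) (.leaf 848)) (.node (.leaf 909) (.leaf 904))) (.node (.node (.leaf 633) (.leaf 403)) (.node (.leaf 963) (.leaf 542)))) (.node (.node (.node (.leaf 895) (.leaf 470)) (.node (.leaf 268) (.leaf 819))) (.node (.node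 (.leaf 530) (.leaf 444)) (.node (.leaf 933) (.leaf 767)))))) (.node (.node (.node (.node (.node (.leaf 95) (.leaf 648)) (.node (.leaf 412) (.leaf 1007))) (.node (.node (.leaf 873) (.leaf 342)) (.node (.leaf 798) (.leaf 235)))) (.node (.node (.node (.leaf 620) (.leaf 732)) (.node (.leaf 499) (.leaf 969))) (.node (.node (.leaf 113) (.leaf 833)) (.node (.leaf 411) (.leaf 728))))) (.node (.node (.node (.node (.leaf 32) (.leaf 136)) (.node (.leaf 428) (.leaf 98))) (.node (.node (.leaf 364) (.leaf 483)) (.node (.leaf 416) (.leaf 711)))) (.node (.node (.node (.leaf 874) (.leaf 388)) (.node (.leaf 537) (.leaf 190))) (.node (.node (.leaf 517) (.leaf 637)) (.node (.leaf 936) (.leaf 459))))))) (.node (.node (.node (.node (.node (.node (.leaf 569) (.leaf 775)) (.node (.leaf 446) (.leaf 278))) (.node (.node (.leaf 424) (.leaf 306)) (.node (.leaf 6) (.leaf 23)))) (.node (.node (.node (.leaf 12) (.leaf 118)) (.node (.leaf 790) (.leaf 580))) (.node (.node (.leaf 850) (.leaf 757)) (.node (.leaf 758) (.leaf 187))))) (.node (.node (.node (.node (.leaf 801) (.leaf 831)) (.node (.leaf 544) (.leaf 503))) (.node (.node (.leaf 457) (.leaf 968)) (.node (.leaf 453) (.leaf 879)))) (.node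 (.node (.node (.leaf 693) (.leaf 532)) (.node (.leaf 400) (.leaf 844))) (.node (.node (.leaf 435) (.leaf 2)) (.node (.leaf 928) (.leaf 74)))))) (.node (.node (.node (.node (.node (.leaf 679) (.leaf 1011)) (.node (.leaf 736) (.leaf 627))) (.node (.node (.leaf 154) (.leaf 237)) (.node (.leaf 940) (.leaf 48)))) (.node (.node (.node (.leaf 1002) (.leaf 390)) (.node (.leaf 906) (.leaf 26))) (.node (.node (.leaf 742) (.leaf 759)) (.node (.leaf 548) (.leaf 575))))) (.node (.node (.node (.node (.leaf 318) (.leaf 353)) (.node (.leaf 579) (.leaf 594))) (.node (.node (.leaf 915) (.leaf 802)) (.node (.leaf 315) (.leaf 175)))) (.node (.node (.node (.leaf 861) (.leaf 138)) (.node (.leaf 241) (.leaf 967))) (.node (.node (.leaf 1013) (.leaf 134)) (.node (.leaf 128) (.leaf 490)))))))) (.node (.node (.node (.node (.node (.node (.node (.leaf 121) (.leaf 696)) (.node (.leaf 635) (.leaf 796))) (.node (.node (.leaf 232) (.leaf 922)) (.node (.leaf 176) (.leaf 158)))) (.node (.node (.node (.leaf 1022) (.leaf 745)) (.node (.leaf 583) (.leaf 87))) (.node (.node (.leaf 349) (.leaf 325)) (.node (.leaf 809) (.leaf 384))))) (.node (.node (.node (.node (.leaf 835) (.leaf 817)) (.node (.leaf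 303) (.leaf 363))) (.node (.node (.leaf 611) (.leaf 1001)) (.node (.leaf 924) (.leaf 423)))) (.node (.node (.node (.leaf 709) (.leaf 1021)) (.node (.leaf 25) (.leaf 618))) (.node (.node (.leaf 240) (.leaf 956)) (.node (.leaf 976) (.leaf 705)))))) (.node (.node (.node (.node (.node (.leaf 589) (.leaf 5)) (.node (.leaf 439) (.leaf 418))) (.node (.node (.leaf 857) (.leaf 52)) (.node (.leaf 840) (.leaf 553)))) (.node (.node (.node (.leaf 829) (.leaf 621)) (.node (.leaf 550) (.leaf 280))) (.node (.node (.leaf 826) (.leaf 678)) (.node (.leaf 1010) (.leaf 674))))) (.node (.node (.node (.node (.leaf 311) (.leaf 601)) (.node (.leaf 507) (.leaf 110))) (.node (.node (.leaf 917) (.leaf 494)) (.node (.leaf 959) (.leaf 787)))) (.node (.node (.node (.leaf 778) (.leaf 501)) (.node (.leaf 45) (.leaf 820))) (.node (.node (.leaf 520) (.leaf 786)) (.node (.leaf 982) (.leaf 379))))))) (.node (.node (.node (.node (.node (.node (.leaf 573) (.leaf 700)) (.node (.leaf 961) (.leaf 559))) (.node (.node (.leaf 984) (.leaf 242)) (.node (.leaf 692) (.leaf 300)))) (.node (.node (.node (.leaf 847) (.leaf 797)) (.node (.leaf 107) (.leaf 666))) (.node (.node (.leaf 585) (.leaf 209)) (.node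 (.leaf 898) (.leaf 77))))) (.node (.node (.node (.node (.leaf 206) (.leaf 886)) (.node (.leaf 324) (.leaf 352))) (.node (.node (.leaf 513) (.leaf 262)) (.node (.leaf 42) (.leaf 210)))) (.node (.node (.node (.leaf 85) (.leaf 60)) (.node (.leaf 432) (.leaf 184))) (.node (.node (.leaf 404) (.leaf 932)) (.node (.leaf 391) (.leaf 863)))))) (.node (.node (.node (.node (.node (.leaf 9) (.leaf 482)) (.node (.leaf 112) (.leaf 761))) (.node (.node (.leaf 188) (.leaf 64)) (.node (.leaf 925) (.leaf 1012)))) (.node (.node (.node (.leaf 401) (.leaf 22)) (.node (.leaf 279) (.leaf 269))) (.node (.node (.leaf 843) (.leaf 15)) (.node (.leaf 458) (.leaf 883))))) (.node (.node (.node (.node (.leaf 491) (.leaf 314)) (.node (.leaf 108) (.leaf 115))) (.node (.node (.leaf 965) (.leaf 663)) (.node (.leaf 367) (.leaf 568)))) (.node (.node (.node (.leaf 708) (.leaf 139)) (.node (.leaf 256) (.leaf 254))) (.node (.node (.leaf 479) (.leaf 760)) (.node (.leaf 768) (.leaf 989)))))))))) (.node (.node (.node (.node (.node (.node (.node (.node (.node (.leaf 93) (.leaf 219)) (.node (.leaf 853) (.leaf 14))) (.node (.node (.leaf 331) (.leaf 504)) (.node (.leaf 722) (.leaf 144)))) (.node (.node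 (.node (.leaf 127) (.leaf 588)) (.node (.leaf 105) (.leaf 640))) (.node (.node (.leaf 292) (.leaf 62)) (.node (.leaf 744) (.leaf 946))))) (.node (.node (.node (.node (.leaf 724) (.leaf 884)) (.node (.leaf 953) (.leaf 302))) (.node (.node (.leaf 876) (.leaf 964)) (.node (.leaf 466) (.leaf 1006)))) (.node (.node (.node (.leaf 180) (.leaf 460)) (.node (.leaf 916) (.leaf 852))) (.node (.node (.leaf 270) (.leaf 1014)) (.node (.leaf 326) (.leaf 137)))))) (.node (.node (.node (.node (.node (.leaf 650) (.leaf 173)) (.node (.leaf 415) (.leaf 907))) (.node (.node (.leaf 167) (.leaf 929)) (.node (.leaf 664) (.leaf 69)))) (.node (.node (.node (.leaf 794) (.leaf 101)) (.node (.leaf 310) (.leaf 243))) (.node (.node (.leaf 563) (.leaf 691)) (.node (.leaf 1003) (.leaf 756))))) (.node (.node (.node (.node (.leaf 231) (.leaf 867)) (.node (.leaf 41) (.leaf 590))) (.node (.node (.leaf 396) (.leaf 472)) (.node (.leaf 476) (.leaf 899)))) (.node (.node (.node (.leaf 804) (.leaf 236)) (.node (.leaf 53) (.leaf 157))) (.node (.node (.leaf 462) (.leaf 808)) (.node (.leaf 346) (.leaf 245))))))) (.node (.node (.node (.node (.node (.node (.leaf 120) (.leaf 659)) (.node (.leaf 28) (.leaf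 389))) (.node (.node (.leaf 981) (.leaf 304)) (.node (.leaf 202) (.leaf 900)))) (.node (.node (.node (.leaf 822) (.leaf 203)) (.node (.leaf 655) (.leaf 725))) (.node (.node (.leaf 135) (.leaf 596)) (.node (.leaf 11) (.leaf 793))))) (.node (.node (.node (.node (.leaf 185) (.leaf 160)) (.node (.leaf 561) (.leaf 309))) (.node (.node (.leaf 473) (.leaf 993)) (.node (.leaf 434) (.leaf 99)))) (.node (.node (.node (.leaf 716) (.leaf 442)) (.node (.leaf 361) (.leaf 616))) (.node (.node (.leaf 282) (.leaf 920)) (.node (.leaf 263) (.leaf 684)))))) (.node (.node (.node (.node (.node (.leaf 695) (.leaf 465)) (.node (.leaf 649) (.leaf 701))) (.node (.node (.leaf 146) (.leaf 527)) (.node (.leaf 986) (.leaf 1016)))) (.node (.node (.node (.leaf 250) (.leaf 421)) (.node (.leaf 291) (.leaf 558))) (.node (.node (.leaf 566) (.leaf 733)) (.node (.leaf 368) (.leaf 779))))) (.node (.node (.node (.node (.leaf 332) (.leaf 337)) (.node (.leaf 727) (.leaf 741))) (.node (.node (.leaf 298) (.leaf 591)) (.node (.leaf 394) (.leaf 117)))) (.node (.node (.node (.leaf 178) (.leaf 1023)) (.node (.leaf 997) (.leaf 381))) (.node (.node (.leaf 975) (.leaf 755)) (.node (.leaf 602) (.leaf 497))))))))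 (.node (.node (.node (.node (.node (.node (.node (.leaf 228) (.leaf 667)) (.node (.leaf 614) (.leaf 885))) (.node (.node (.leaf 276) (.leaf 265)) (.node (.leaf 205) (.leaf 821)))) (.node (.node (.node (.leaf 10) (.leaf 0)) (.node (.leaf 734) (.leaf 122))) (.node (.node (.leaf 562) (.leaf 456)) (.node (.leaf 191) (.leaf 447))))) (.node (.node (.node (.node (.leaf 76) (.leaf 832)) (.node (.leaf 281) (.leaf 56))) (.node (.node (.leaf 605) (.leaf 468)) (.node (.leaf 431) (.leaf 35)))) (.node (.node (.node (.leaf 677) (.leaf 46)) (.node (.leaf 238) (.leaf 845))) (.node (.node (.leaf 71) (.leaf 496)) (.node (.leaf 354) (.leaf 737)))))) (.node (.node (.node (.node (.node (.leaf 211) (.leaf 90)) (.node (.leaf 251) (.leaf 560))) (.node (.node (.leaf 615) (.leaf 487)) (.node (.leaf 8) (.leaf 931)))) (.node (.node (.node (.leaf 148) (.leaf 16)) (.node (.leaf 362) (.leaf 935))) (.node (.node (.leaf 179) (.leaf 133)) (.node (.leaf 395) (.leaf 595))))) (.node (.node (.node (.node (.leaf 551) (.leaf 704)) (.node (.leaf 436) (.leaf 199))) (.node (.node (.leaf 299) (.leaf 535)) (.node (.leaf 426) (.leaf 125)))) (.node (.node (.node (.leaf 628) (.leaf 370)) (.node (.leaf 995)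 (.leaf 612))) (.node (.node (.leaf 44) (.leaf 713)) (.node (.leaf 930) (.leaf 49))))))) (.node (.node (.node (.node (.node (.node (.leaf 214) (.leaf 163)) (.node (.leaf 271) (.leaf 372))) (.node (.node (.leaf 36) (.leaf 554)) (.node (.leaf 84) (.leaf 902)))) (.node (.node (.node (.leaf 891) (.leaf 743)) (.node (.leaf 221) (.leaf 111))) (.node (.node (.leaf 572) (.leaf 765)) (.node (.leaf 764) (.leaf 207))))) (.node (.node (.node (.node (.leaf 763) (.leaf 183)) (.node (.leaf 61) (.leaf 449))) (.node (.node (.leaf 461) (.leaf 947)) (.node (.leaf 383) (.leaf 816)))) (.node (.node (.node (.leaf 766) (.leaf 317)) (.node (.leaf 339) (.leaf 161))) (.node (.node (.leaf 454) (.leaf 903)) (.node (.leaf 341) (.leaf 642)))))) (.node (.node (.node (.node (.node (.leaf 142) (.leaf 1000)) (.node (.leaf 815) (.leaf 196))) (.node (.node (.leaf 872) (.leaf 24)) (.node (.leaf 57) (.leaf 944)))) (.node (.node (.node (.leaf 455) (.leaf 289)) (.node (.leaf 358) (.leaf 239))) (.node (.node (.leaf 116) (.leaf 811)) (.node (.leaf 285) (.leaf 710))))) (.node (.node (.node (.node (.leaf 498) (.leaf 348)) (.node (.leaf 699) (.leaf 582))) (.node (.node (.leaf 371) (.leaf 814)) (.node (.leaf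 911) (.leaf 226)))) (.node (.node (.node (.leaf 769) (.leaf 668)) (.node (.leaf 1020) (.leaf 427))) (.node (.node (.leaf 974) (.leaf 645)) (.node (.leaf 103) (.leaf 951))))))))) (.node (.node (.node (.node (.node (.node (.node (.node (.leaf 639) (.leaf 140)) (.node (.leaf 145) (.leaf 810))) (.node (.node (.leaf 261) (.leaf 971)) (.node (.leaf 782) (.leaf 181)))) (.node (.node (.node (.leaf 869) (.leaf 193)) (.node (.leaf 653) (.leaf 584))) (.node (.node (.leaf 343) (.leaf 369)) (.node (.leaf 13) (.leaf 327))))) (.node (.node (.node (.node (.leaf 643) (.leaf 619)) (.node (.leaf 522) (.leaf 312))) (.node (.node (.leaf 174) (.leaf 259)) (.node (.leaf 508) (.leaf 954)))) (.node (.node (.node (.leaf 813) (.leaf 376)) (.node (.leaf 274) (.leaf 159))) (.node (.node (.leaf 307) (.leaf 287)) (.node (.leaf 985) (.leaf 754)))))) (.node (.node (.node (.node (.node (.leaf 100) (.leaf 849)) (.node (.leaf 960) (.leaf 955))) (.node (.node (.leaf 606) (.leaf 296)) (.node (.leaf 86) (.leaf 320)))) (.node (.node (.node (.leaf 186) (.leaf 878)) (.node (.leaf 365) (.leaf 998))) (.node (.node (.leaf 92) (.leaf 646)) (.node (.leaf 253) (.leaf 218))))) (.node (.node (.node (.node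 (.leaf 66) (.leaf 156)) (.node (.leaf 1018) (.leaf 227))) (.node (.node (.leaf 485) (.leaf 247)) (.node (.leaf 943) (.leaf 784)))) (.node (.node (.node (.leaf 875) (.leaf 68)) (.node (.leaf 1019) (.leaf 169))) (.node (.node (.leaf 55) (.leaf 707)) (.node (.leaf 529) (.leaf 405))))))) (.node (.node (.node (.node (.node (.node (.leaf 229) (.leaf 785)) (.node (.leaf 987) (.leaf 347))) (.node (.node (.leaf 977) (.leaf 934)) (.node (.leaf 715) (.leaf 450)))) (.node (.node (.node (.leaf 172) (.leaf 166)) (.node (.leaf 662) (.leaf 578))) (.node (.node (.leaf 647) (.leaf 723)) (.node (.leaf 675) (.leaf 893))))) (.node (.node (.node (.node (.leaf 807) (.leaf 889)) (.node (.leaf 948) (.leaf 533))) (.node (.node (.leaf 999) (.leaf 386)) (.node (.leaf 252) (.leaf 731)))) (.node (.node (.node (.leaf 882) (.leaf 1017)) (.node (.leaf 257) (.leaf 631))) (.node (.node (.leaf 926) (.leaf 301)) (.node (.leaf 50) (.leaf 880)))))) (.node (.node (.node (.node (.node (.leaf 665) (.leaf 952)) (.node (.leaf 106) (.leaf 776))) (.node (.node (.leaf 622) (.leaf 500)) (.node (.leaf 72) (.leaf 495)))) (.node (.node (.node (.leaf 957) (.leaf 266)) (.node (.leaf 557) (.leaf 338))) (.node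 (.node (.leaf 609) (.leaf 689)) (.node (.leaf 37) (.leaf 629))))) (.node (.node (.node (.node (.leaf 328) (.leaf 294)) (.node (.leaf 657) (.leaf 200))) (.node (.node (.leaf 464) (.leaf 789)) (.node (.leaf 284) (.leaf 119)))) (.node (.node (.node (.leaf 752) (.leaf 617)) (.node (.leaf 58) (.leaf 40))) (.node (.node (.leaf 538) (.leaf 81)) (.node (.leaf 652) (.leaf 419)))))))) (.node (.node (.node (.node (.node (.node (.node (.leaf 195) (.leaf 792)) (.node (.leaf 827) (.leaf 192))) (.node (.node (.leaf 983) (.leaf 288)) (.node (.leaf 746) (.leaf 171)))) (.node (.node (.node (.leaf 143) (.leaf 564)) (.node (.leaf 654) (.leaf 571))) (.node (.node (.leaf 546) (.leaf 286)) (.node (.leaf 738) (.leaf 973))))) (.node (.node (.node (.node (.leaf 603) (.leaf 613)) (.node (.leaf 4) (.leaf 469))) (.node (.node (.leaf 170) (.leaf 509)) (.node (.leaf 340) (.leaf 319)))) (.node (.node (.node (.leaf 783) (.leaf 510)) (.node (.leaf 31) (.leaf 164))) (.node (.node (.leaf 525) (.leaf 545)) (.node (.leaf 425) (.leaf 651)))))) (.node (.node (.node (.node (.node (.leaf 96) (.leaf 714)) (.node (.leaf 990) (.leaf 360))) (.node (.node (.leaf 147) (.leaf 941)) (.node (.leaf 638) (.leaf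 543)))) (.node (.node (.node (.leaf 79) (.leaf 212)) (.node (.leaf 480) (.leaf 918))) (.node (.node (.leaf 587) (.leaf 866)) (.node (.leaf 950) (.leaf 862))))) (.node (.node (.node (.node (.leaf 275) (.leaf 162)) (.node (.leaf 382) (.leaf 730))) (.node (.node (.leaf 463) (.leaf 47)) (.node (.leaf 39) (.leaf 698)))) (.node (.node (.node (.leaf 671) (.leaf 914)) (.node (.leaf 475) (.leaf 634))) (.node (.node (.leaf 994) (.leaf 740)) (.node (.leaf 234) (.leaf 534))))))) (.node (.node (.node (.node (.node (.node (.leaf 89) (.leaf 788)) (.node (.leaf 452) (.leaf 393))) (.node (.node (.leaf 992) (.leaf 409)) (.node (.leaf 75) (.leaf 1)))) (.node (.node (.node (.leaf 126) (.leaf 567)) (.node (.leaf 577) (.leaf 224))) (.node (.node (.leaf 703) (.leaf 712)) (.node (.leaf 208) (.leaf 165))))) (.node (.node (.node (.node (.leaf 661) (.leaf 749)) (.node (.leaf 443) (.leaf 293))) (.node (.node (.leaf 478) (.leaf 398)) (.node (.leaf 966) (.leaf 623)))) (.node (.node (.node (.leaf 152) (.leaf 451)) (.node (.leaf 908) (.leaf 888))) (.node (.node (.leaf 248) (.leaf 521)) (.node (.leaf 65) (.leaf 673)))))) (.node (.node (.node (.node (.node (.leaf 717) (.leaf 246)) (.node (.leaf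 91) (.leaf 748))) (.node (.node (.leaf 830) (.leaf 34)) (.node (.leaf 539) (.leaf 433)))) (.node (.node (.node (.leaf 258) (.leaf 308)) (.node (.leaf 335) (.leaf 939))) (.node (.node (.leaf 225) (.leaf 593)) (.node (.leaf 912) (.leaf 805))))) (.node (.node (.node (.node (.leaf 541) (.leaf 333)) (.node (.leaf 676) (.leaf 129))) (.node (.node (.leaf 523) (.leaf 576)) (.node (.leaf 502) (.leaf 97)))) (.node (.node (.node (.leaf 774) (.leaf 599)) (.node (.leaf 937) (.leaf 467))) (.node (.node (.leaf 374) (.leaf 690)) (.node (.leaf 777) (.leaf 330)))))))))))

def sylRank : Arr :=
  (.node (.node (.node (.node (.node (.node (.node (.node (.node (.node (.leaf 581) (.leaf 892)) (.node (.leaf 382) (.leaf 510))) (.node (.node (.leaf 506) (.leaf 833)) (.node (.leaf 966) (.leaf 28)))) (.node (.node (.node (.leaf 670) (.leaf 703)) (.node (.leaf 915) (.leaf 549))) (.node (.node (.leaf 775) (.leaf 565)) (.node (.leaf 620) (.leaf 275))))) (.node (.node (.node (.node (.leaf 50) (.leaf 298)) (.node (.leaf 647) (.leaf 512))) (.node (.node (.leaf 553) (.leaf 772)) (.node (.leaf 434) (.leaf 490)))) (.node (.node (.node (.leaf 23) (.leaf 588)) (.node (.leaf 814) (.leaf 514))) (.node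 (.node (.leaf 847) (.leaf 282)) (.node (.leaf 343) (.leaf 143)))))) (.node (.node (.node (.node (.node (.leaf 597) (.leaf 852)) (.node (.leaf 812) (.leaf 947))) (.node (.node (.leaf 897) (.leaf 312)) (.node (.leaf 362) (.leaf 479)))) (.node (.node (.node (.leaf 728) (.leaf 820)) (.node (.leaf 194) (.leaf 546))) (.node (.node (.leaf 463) (.leaf 768)) (.node (.leaf 187) (.leaf 486))))) (.node (.node (.node (.node (.leaf 922) (.leaf 789)) (.node (.leaf 649) (.leaf 941))) (.node (.node (.leaf 390) (.leaf 84)) (.node (.leaf 366) (.leaf 925)))) (.node (.node (.node (.leaf 286) (.leaf 898)) (.node (.leaf 473) (.leaf 1003))) (.node (.node (.leaf 230) (.leaf 123)) (.node (.leaf 741) (.leaf 240))))))) (.node (.node (.node (.node (.node (.node (.leaf 405) (.leaf 246)) (.node (.leaf 740) (.leaf 795))) (.node (.node (.leaf 562) (.leaf 530)) (.node (.leaf 132) (.leaf 802)))) (.node (.node (.node (.leaf 411) (.leaf 835)) (.node (.leaf 59) (.leaf 406))) (.node (.node (.leaf 827) (.leaf 719)) (.node (.leaf 709) (.leaf 682))))) (.node (.node (.node (.node (.leaf 891) (.leaf 804)) (.node (.leaf 659) (.leaf 753))) (.node (.node (.leaf 220) (.leaf 760)) (.node (.leaf 138) (.leaf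 498)))) (.node (.node (.node (.leaf 324) (.leaf 873)) (.node (.leaf 791) (.leaf 157))) (.node (.node (.leaf 134) (.leaf 449)) (.node (.leaf 360) (.leaf 541)))))) (.node (.node (.node (.node (.node (.leaf 669) (.leaf 56)) (.node (.leaf 854) (.leaf 519))) (.node (.node (.leaf 111) (.leaf 401)) (.node (.leaf 172) (.leaf 745)))) (.node (.node (.node (.leaf 204) (.leaf 980)) (.node (.leaf 660) (.leaf 152))) (.node (.node (.leaf 20) (.leaf 978)) (.node (.leaf 689) (.leaf 142))))) (.node (.node (.node (.node (.leaf 805) (.leaf 958)) (.node (.leaf 803) (.leaf 876))) (.node (.node (.leaf 878) (.leaf 518)) (.node (.leaf 428) (.leaf 539)))) (.node (.node (.node (.leaf 9) (.leaf 868)) (.node (.leaf 611) (.leaf 879))) (.node (.node (.leaf 239) (.leaf 766)) (.node (.leaf 641) (.leaf 921)))))))) (.node (.node (.node (.node (.node (.node (.node (.leaf 295) (.leaf 472)) (.node (.leaf 176) (.leaf 764))) (.node (.node (.leaf 96) (.leaf 80)) (.node (.leaf 626) (.leaf 905)))) (.node (.node (.node (.leaf 627) (.leaf 842)) (.node (.leaf 302) (.leaf 504))) (.node (.node (.leaf 797) (.leaf 126)) (.node (.leaf 271) (.leaf 673))))) (.node (.node (.node (.node (.leaf 141) (.leaf 474))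 (.node (.leaf 193) (.leaf 113))) (.node (.node (.leaf 871) (.leaf 319)) (.node (.leaf 252) (.leaf 750)))) (.node (.node (.node (.leaf 19) (.leaf 885)) (.node (.leaf 184) (.leaf 996))) (.node (.node (.leaf 5) (.leaf 759)) (.node (.leaf 292) (.leaf 248)))))) (.node (.node (.node (.node (.node (.leaf 736) (.leaf 618)) (.node (.leaf 133) (.leaf 527))) (.node (.node (.leaf 85) (.leaf 386)) (.node (.leaf 238) (.leaf 353)))) (.node (.node (.node (.leaf 397) (.leaf 713)) (.node (.leaf 423) (.leaf 865))) (.node (.node (.leaf 599) (.leaf 33)) (.node (.leaf 677) (.leaf 420))))) (.node (.node (.node (.node (.leaf 662) (.leaf 583)) (.node (.leaf 607) (.leaf 886))) (.node (.node (.leaf 97) (.leaf 398)) (.node (.leaf 309) (.leaf 299)))) (.node (.node (.node (.leaf 221) (.leaf 117)) (.node (.leaf 781) (.leaf 545))) (.node (.node (.leaf 168) (.leaf 977)) (.node (.leaf 667) (.leaf 926))))))) (.node (.node (.node (.node (.node (.node (.leaf 74) (.leaf 628)) (.node (.leaf 354) (.leaf 112))) (.node (.node (.leaf 515) (.leaf 507)) (.node (.leaf 177) (.leaf 367)))) (.node (.node (.node (.leaf 37) (.leaf 577)) (.node (.leaf 57) (.leaf 874))) (.node (.node (.leaf 120) (.leaf 105))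 (.node (.leaf 609) (.leaf 904))))) (.node (.node (.node (.node (.leaf 245) (.leaf 784)) (.node (.leaf 910) (.leaf 216))) (.node (.node (.leaf 75) (.leaf 1001)) (.node (.leaf 306) (.leaf 410)))) (.node (.node (.node (.leaf 318) (.leaf 82)) (.node (.leaf 178) (.leaf 161))) (.node (.node (.leaf 625) (.leaf 799)) (.node (.leaf 536) (.leaf 92)))))) (.node (.node (.node (.node (.node (.leaf 265) (.leaf 960)) (.node (.leaf 443) (.leaf 774))) (.node (.node (.leaf 563) (.leaf 637)) (.node (.leaf 274) (.leaf 422)))) (.node (.node (.node (.leaf 211) (.leaf 76)) (.node (.leaf 573) (.leaf 556))) (.node (.node (.leaf 840) (.leaf 594)) (.node (.leaf 433) (.leaf 680))))) (.node (.node (.node (.node (.leaf 622) (.leaf 205)) (.node (.leaf 964) (.leaf 148))) (.node (.node (.leaf 158) (.leaf 526)) (.node (.leaf 738) (.leaf 742)))) (.node (.node (.node (.leaf 12) (.leaf 712)) (.node (.leaf 432) (.leaf 164))) (.node (.node (.leaf 427) (.leaf 461)) (.node (.leaf 419) (.leaf 381))))))))) (.node (.node (.node (.node (.node (.node (.node (.node (.leaf 746) (.leaf 688)) (.node (.leaf 95) (.leaf 516))) (.node (.node (.leaf 452) (.leaf 1005)) (.node (.leaf 683) (.leaf 462)))) (.node (.node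 (.node (.leaf 51) (.leaf 843)) (.node (.leaf 604) (.leaf 796))) (.node (.node (.leaf 2) (.leaf 636)) (.node (.leaf 907) (.leaf 236))))) (.node (.node (.node (.node (.leaf 671) (.leaf 199)) (.node (.leaf 908) (.leaf 698))) (.node (.node (.leaf 567) (.leaf 982)) (.node (.leaf 790) (.leaf 501)))) (.node (.node (.node (.leaf 818) (.leaf 1004)) (.node (.leaf 485) (.leaf 727))) (.node (.node (.leaf 957) (.leaf 455)) (.node (.leaf 542) (.leaf 247)))))) (.node (.node (.node (.node (.node (.leaf 116) (.leaf 226)) (.node (.leaf 355) (.leaf 758))) (.node (.node (.leaf 153) (.leaf 944)) (.node (.leaf 932) (.leaf 631)))) (.node (.node (.node (.leaf 724) (.leaf 826)) (.node (.leaf 859) (.leaf 202))) (.node (.node (.leaf 942) (.leaf 385)) (.node (.leaf 417) (.leaf 492))))) (.node (.node (.node (.node (.leaf 491) (.leaf 197)) (.node (.leaf 650) (.leaf 552))) (.node (.node (.leaf 121) (.leaf 767)) (.node (.leaf 425) (.leaf 961)))) (.node (.node (.node (.leaf 0) (.leaf 578)) (.node (.leaf 629) (.leaf 107))) (.node (.node (.leaf 654) (.leaf 995)) (.node (.leaf 61) (.leaf 470))))))) (.node (.node (.node (.node (.node (.node (.leaf 69) (.leaf 291)) (.node (.leaf 603) (.leaf 118)))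 (.node (.node (.leaf 634) (.leaf 17)) (.node (.leaf 441) (.leaf 346)))) (.node (.node (.node (.leaf 1002) (.leaf 284)) (.node (.leaf 1023) (.leaf 832))) (.node (.node (.leaf 393) (.leaf 535)) (.node (.leaf 478) (.leaf 748))))) (.node (.node (.node (.node (.leaf 430) (.leaf 653)) (.node (.leaf 185) (.leaf 771))) (.node (.node (.leaf 167) (.leaf 460)) (.node (.leaf 437) (.leaf 412)))) (.node (.node (.node (.leaf 283) (.leaf 870)) (.node (.leaf 341) (.leaf 114))) (.node (.node (.leaf 503) (.leaf 391)) (.node (.leaf 1018) (.leaf 90)))))) (.node (.node (.node (.node (.node (.leaf 858) (.leaf 251)) (.node (.leaf 233) (.leaf 81))) (.node (.node (.leaf 154) (.leaf 846)) (.node (.leaf 304) (.leaf 646)))) (.node (.node (.node (.leaf 533) (.leaf 505)) (.node (.leaf 497) (.leaf 548))) (.node (.node (.leaf 979) (.leaf 823)) (.node (.leaf 612) (.leaf 409))))) (.node (.node (.node (.node (.leaf 379) (.leaf 4)) (.node (.leaf 574) (.leaf 214))) (.node (.node (.leaf 83) (.leaf 951)) (.node (.leaf 617) (.leaf 931)))) (.node (.node (.node (.leaf 837) (.leaf 887)) (.node (.leaf 924) (.leaf 884))) (.node (.node (.leaf 89) (.leaf 124)) (.node (.leaf 962) (.leaf 307)))))))) (.node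 (.node (.node (.node (.node (.node (.node (.leaf 394) (.leaf 276)) (.node (.leaf 686) (.leaf 127))) (.node (.node (.leaf 762) (.leaf 723)) (.node (.leaf 602) (.leaf 909)))) (.node (.node (.node (.leaf 52) (.leaf 829)) (.node (.leaf 481) (.leaf 40))) (.node (.node (.leaf 696) (.leaf 989)) (.node (.leaf 237) (.leaf 431))))) (.node (.node (.node (.node (.leaf 480) (.leaf 342)) (.node (.leaf 571) (.leaf 448))) (.node (.node (.leaf 587) (.leaf 726)) (.node (.leaf 652) (.leaf 651)))) (.node (.node (.node (.leaf 992) (.leaf 261)) (.node (.leaf 349) (.leaf 900))) (.node (.node (.leaf 352) (.leaf 218)) (.node (.leaf 496) (.leaf 851)))))) (.node (.node (.node (.node (.node (.leaf 606) (.leaf 1015)) (.node (.leaf 778) (.leaf 330))) (.node (.node (.leaf 156) (.leaf 331)) (.node (.leaf 608) (.leaf 855)))) (.node (.node (.node (.leaf 403) (.leaf 212)) (.node (.leaf 658) (.leaf 880))) (.node (.node (.leaf 13) (.leaf 834)) (.node (.leaf 610) (.leaf 502))))) (.node (.node (.node (.node (.leaf 296) (.leaf 217)) (.node (.leaf 337) (.leaf 73))) (.node (.node (.leaf 864) (.leaf 404)) (.node (.leaf 656) (.leaf 471)))) (.node (.node (.node (.leaf 586) (.leaf 144)) (.node (.leaf 255)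 (.leaf 558))) (.node (.node (.leaf 543) (.leaf 458)) (.node (.leaf 447) (.leaf 737))))))) (.node (.node (.node (.node (.node (.node (.leaf 769) (.leaf 356)) (.node (.leaf 225) (.leaf 387))) (.node (.node (.leaf 29) (.leaf 327)) (.node (.leaf 687) (.leaf 336)))) (.node (.node (.node (.leaf 756) (.leaf 817)) (.node (.leaf 1020) (.leaf 948))) (.node (.node (.leaf 46) (.leaf 68)) (.node (.leaf 241) (.leaf 253))))) (.node (.node (.node (.node (.leaf 613) (.leaf 857)) (.node (.leaf 801) (.leaf 701))) (.node (.node (.leaf 163) (.leaf 972)) (.node (.leaf 540) (.leaf 272)))) (.node (.node (.node (.leaf 822) (.leaf 155)) (.node (.leaf 48) (.leaf 595))) (.node (.node (.leaf 357) (.leaf 100)) (.node (.leaf 694) (.leaf 929)))))) (.node (.node (.node (.node (.node (.leaf 444) (.leaf 930)) (.node (.leaf 711) (.leaf 402))) (.node (.node (.leaf 902) (.leaf 564)) (.node (.leaf 888) (.leaf 235)))) (.node (.node (.node (.leaf 580) (.leaf 147)) (.node (.leaf 348) (.leaf 983))) (.node (.node (.leaf 322) (.leaf 325)) (.node (.leaf 175) (.leaf 279))))) (.node (.node (.node (.node (.leaf 705) (.leaf 532)) (.node (.leaf 58) (.leaf 159))) (.node (.node (.leaf 882) (.leaf 36)) (.node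 (.leaf 266) (.leaf 368)))) (.node (.node (.node (.leaf 79) (.leaf 407)) (.node (.leaf 311) (.leaf 392))) (.node (.node (.leaf 894) (.leaf 109)) (.node (.leaf 615) (.leaf 70)))))))))) (.node (.node (.node (.node (.node (.node (.node (.node (.node (.leaf 911) (.leaf 174)) (.node (.leaf 363) (.leaf 125))) (.node (.node (.leaf 831) (.leaf 280)) (.node (.leaf 268) (.leaf 72)))) (.node (.node (.node (.leaf 495) (.leaf 335)) (.node (.leaf 648) (.leaf 722))) (.node (.node (.leaf 579) (.leaf 998)) (.node (.leaf 813) (.leaf 270))))) (.node (.node (.node (.node (.leaf 128) (.leaf 743)) (.node (.leaf 605) (.leaf 42))) (.node (.node (.leaf 877) (.leaf 1007)) (.node (.leaf 684) (.leaf 657)))) (.node (.node (.node (.leaf 959) (.leaf 219)) (.node (.leaf 570) (.leaf 732))) (.node (.node (.leaf 223) (.leaf 997)) (.node (.leaf 1008) (.leaf 681)))))) (.node (.node (.node (.node (.node (.leaf 384) (.leaf 499)) (.node (.leaf 440) (.leaf 523))) (.node (.node (.leaf 259) (.leaf 315)) (.node (.leaf 94) (.leaf 708)))) (.node (.node (.node (.leaf 763) (.leaf 735)) (.node (.leaf 569) (.leaf 531))) (.node (.node (.leaf 718) (.leaf 596)) (.node (.leaf 537) (.leaf 139))))) (.node (.node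 (.node (.node (.leaf 1013) (.leaf 297)) (.node (.leaf 916) (.leaf 550))) (.node (.node (.leaf 824) (.leaf 731)) (.node (.leaf 927) (.leaf 376)))) (.node (.node (.node (.leaf 210) (.leaf 64)) (.node (.leaf 707) (.leaf 66))) (.node (.node (.leaf 378) (.leaf 108)) (.node (.leaf 1017) (.leaf 308))))))) (.node (.node (.node (.node (.node (.node (.leaf 30) (.leaf 751)) (.node (.leaf 645) (.leaf 511))) (.node (.node (.leaf 993) (.leaf 281)) (.node (.leaf 783) (.leaf 288)))) (.node (.node (.node (.leaf 400) (.leaf 206)) (.node (.leaf 568) (.leaf 524))) (.node (.node (.leaf 16) (.leaf 757)) (.node (.leaf 170) (.leaf 850))))) (.node (.node (.node (.node (.leaf 305) (.leaf 918)) (.node (.leaf 624) (.leaf 454))) (.node (.node (.leaf 883) (.leaf 720)) (.node (.leaf 487) (.leaf 383)))) (.node (.node (.node (.leaf 321) (.leaf 635)) (.node (.leaf 361) (.leaf 146))) (.node (.node (.leaf 668) (.leaf 582)) (.node (.leaf 468) (.leaf 678)))))) (.node (.node (.node (.node (.node (.leaf 358) (.leaf 370)) (.node (.leaf 293) (.leaf 969))) (.node (.node (.leaf 940) (.leaf 27)) (.node (.leaf 655) (.leaf 476)))) (.node (.node (.node (.leaf 15) (.leaf 566)) (.node (.leaf 192) (.leaf 150)))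 (.node (.node (.leaf 952) (.leaf 34)) (.node (.leaf 169) (.leaf 483))))) (.node (.node (.node (.node (.leaf 413) (.leaf 10)) (.node (.leaf 780) (.leaf 576))) (.node (.node (.leaf 41) (.leaf 396)) (.node (.leaf 464) (.leaf 289)))) (.node (.node (.node (.leaf 6) (.leaf 162)) (.node (.leaf 692) (.leaf 555))) (.node (.node (.leaf 676) (.leaf 798)) (.node (.leaf 188) (.leaf 619)))))))) (.node (.node (.node (.node (.node (.node (.node (.leaf 534) (.leaf 242)) (.node (.leaf 131) (.leaf 508))) (.node (.node (.leaf 725) (.leaf 765)) (.node (.leaf 777) (.leaf 642)))) (.node (.node (.node (.leaf 913) (.leaf 328)) (.node (.leaf 710) (.leaf 388))) (.node (.node (.leaf 8) (.leaf 102)) (.node (.leaf 426) (.leaf 190))))) (.node (.node (.node (.node (.leaf 475) (.leaf 704)) (.node (.leaf 815) (.leaf 991))) (.node (.node (.leaf 975) (.leaf 101)) (.node (.leaf 601) (.leaf 482)))) (.node (.node (.node (.leaf 593) (.leaf 551)) (.node (.leaf 180) (.leaf 67))) (.node (.node (.leaf 11) (.leaf 825)) (.node (.leaf 179) (.leaf 377)))))) (.node (.node (.node (.node (.node (.leaf 640) (.leaf 811)) (.node (.leaf 196) (.leaf 699))) (.node (.node (.leaf 592) (.leaf 47)) (.node (.leaf 1011)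 (.leaf 182)))) (.node (.node (.node (.leaf 110) (.leaf 456)) (.node (.leaf 493) (.leaf 257))) (.node (.node (.leaf 836) (.leaf 841)) (.node (.leaf 807) (.leaf 137))))) (.node (.node (.node (.node (.leaf 369) (.leaf 828)) (.node (.leaf 809) (.leaf 901))) (.node (.node (.leaf 899) (.leaf 106)) (.node (.leaf 500) (.leaf 380)))) (.node (.node (.node (.leaf 953) (.leaf 987)) (.node (.leaf 848) (.leaf 773))) (.node (.node (.leaf 1009) (.leaf 714)) (.node (.leaf 630) (.leaf 250))))))) (.node (.node (.node (.node (.node (.node (.leaf 451) (.leaf 231)) (.node (.leaf 862) (.leaf 520))) (.node (.node (.leaf 872) (.leaf 323)) (.node (.leaf 130) (.leaf 290)))) (.node (.node (.node (.leaf 974) (.leaf 22)) (.node (.leaf 575) (.leaf 869))) (.node (.node (.leaf 389) (.leaf 31)) (.node (.leaf 173) (.leaf 967))))) (.node (.node (.node (.node (.leaf 374) (.leaf 347)) (.node (.leaf 747) (.leaf 99))) (.node (.node (.leaf 529) (.leaf 32)) (.node (.leaf 424) (.leaf 663)))) (.node (.node (.node (.leaf 316) (.leaf 598)) (.node (.leaf 339) (.leaf 896))) (.node (.node (.leaf 666) (.leaf 559)) (.node (.leaf 416) (.leaf 672)))))) (.node (.node (.node (.node (.node (.leaf 808) (.leaf 63))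 (.node (.leaf 477) (.leaf 590))) (.node (.node (.leaf 881) (.leaf 976)) (.node (.leaf 88) (.leaf 414)))) (.node (.node (.node (.leaf 1) (.leaf 165)) (.node (.leaf 198) (.leaf 122))) (.node (.node (.leaf 333) (.leaf 729)) (.node (.leaf 1012) (.leaf 1022))))) (.node (.node (.node (.node (.leaf 301) (.leaf 14)) (.node (.leaf 621) (.leaf 86))) (.node (.node (.leaf 258) (.leaf 793)) (.node (.leaf 920) (.leaf 91)))) (.node (.node (.node (.leaf 949) (.leaf 754)) (.node (.leaf 889) (.leaf 971))) (.node (.node (.leaf 467) (.leaf 717)) (.node (.leaf 679) (.leaf 614))))))))) (.node (.node (.node (.node (.node (.node (.node (.node (.leaf 800) (.leaf 706)) (.node (.leaf 675) (.leaf 1000))) (.node (.node (.leaf 816) (.leaf 35)) (.node (.leaf 572) (.leaf 945)))) (.node (.node (.node (.leaf 1016) (.leaf 314)) (.node (.leaf 616) (.leaf 38))) (.node (.node (.leaf 7) (.leaf 755)) (.node (.leaf 623) (.leaf 418))))) (.node (.node (.node (.node (.leaf 933) (.leaf 912)) (.node (.leaf 345) (.leaf 984))) (.node (.node (.leaf 525) (.leaf 459)) (.node (.leaf 1019) (.leaf 917)))) (.node (.node (.node (.leaf 937) (.leaf 166)) (.node (.leaf 644) (.leaf 561))) (.node (.node (.leaf 819) (.leaf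 44)) (.node (.leaf 690) (.leaf 373)))))) (.node (.node (.node (.node (.node (.leaf 792) (.leaf 928)) (.node (.leaf 55) (.leaf 950))) (.node (.node (.leaf 151) (.leaf 521)) (.node (.leaf 674) (.leaf 186)))) (.node (.node (.node (.leaf 528) (.leaf 981)) (.node (.leaf 365) (.leaf 560))) (.node (.node (.leaf 21) (.leaf 715)) (.node (.leaf 895) (.leaf 860))))) (.node (.node (.node (.node (.leaf 136) (.leaf 209)) (.node (.leaf 227) (.leaf 866))) (.node (.node (.leaf 213) (.leaf 721)) (.node (.leaf 234) (.leaf 685)))) (.node (.node (.node (.leaf 830) (.leaf 794)) (.node (.leaf 189) (.leaf 990))) (.node (.node (.leaf 849) (.leaf 761)) (.node (.leaf 338) (.leaf 538))))))) (.node (.node (.node (.node (.node (.node (.leaf 457) (.leaf 191)) (.node (.leaf 664) (.leaf 985))) (.node (.node (.leaf 638) (.leaf 999)) (.node (.leaf 469) (.leaf 785)))) (.node (.node (.node (.leaf 399) (.leaf 215)) (.node (.leaf 129) (.leaf 222))) (.node (.node (.leaf 585) (.leaf 395)) (.node (.leaf 1010) (.leaf 643))))) (.node (.node (.node (.node (.leaf 60) (.leaf 600)) (.node (.leaf 181) (.leaf 733))) (.node (.node (.leaf 903) (.leaf 716)) (.node (.leaf 893) (.leaf 863)))) (.node (.node (.node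 (.leaf 334) (.leaf 547)) (.node (.leaf 806) (.leaf 115))) (.node (.node (.leaf 914) (.leaf 700)) (.node (.leaf 62) (.leaf 465)))))) (.node (.node (.node (.node (.node (.leaf 228) (.leaf 415)) (.node (.leaf 744) (.leaf 988))) (.node (.node (.leaf 256) (.leaf 517)) (.node (.leaf 466) (.leaf 364)))) (.node (.node (.node (.leaf 287) (.leaf 39)) (.node (.leaf 779) (.leaf 632))) (.node (.node (.leaf 513) (.leaf 939)) (.node (.leaf 375) (.leaf 267))))) (.node (.node (.node (.node (.leaf 856) (.leaf 839)) (.node (.leaf 442) (.leaf 263))) (.node (.node (.leaf 970) (.leaf 317)) (.node (.leaf 303) (.leaf 787)))) (.node (.node (.node (.leaf 200) (.leaf 262)) (.node (.leaf 1014) (.leaf 77))) (.node (.node (.leaf 277) (.leaf 45)) (.node (.leaf 310) (.leaf 371)))))))) (.node (.node (.node (.node (.node (.node (.node (.leaf 104) (.leaf 140)) (.node (.leaf 489) (.leaf 522))) (.node (.node (.leaf 201) (.leaf 203)) (.node (.leaf 494) (.leaf 749)))) (.node (.node (.node (.leaf 229) (.leaf 326)) (.node (.leaf 963) (.leaf 584))) (.node (.node (.leaf 821) (.leaf 946)) (.node (.leaf 93) (.leaf 890))))) (.node (.node (.node (.node (.leaf 439) (.leaf 53)) (.node (.leaf 484) (.leaf 43)))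 (.node (.node (.leaf 145) (.leaf 26)) (.node (.leaf 934) (.leaf 853)))) (.node (.node (.node (.leaf 509) (.leaf 149)) (.node (.leaf 776) (.leaf 208))) (.node (.node (.leaf 49) (.leaf 589)) (.node (.leaf 661) (.leaf 171)))))) (.node (.node (.node (.node (.node (.leaf 906) (.leaf 693)) (.node (.leaf 350) (.leaf 24))) (.node (.node (.leaf 936) (.leaf 702)) (.node (.leaf 244) (.leaf 232)))) (.node (.node (.node (.leaf 838) (.leaf 639)) (.node (.leaf 195) (.leaf 260))) (.node (.node (.leaf 956) (.leaf 313)) (.node (.leaf 340) (.leaf 135))))) (.node (.node (.node (.node (.leaf 243) (.leaf 591)) (.node (.leaf 54) (.leaf 160))) (.node (.node (.leaf 557) (.leaf 25)) (.node (.leaf 278) (.leaf 1021)))) (.node (.node (.node (.leaf 955) (.leaf 875)) (.node (.leaf 788) (.leaf 770))) (.node (.node (.leaf 691) (.leaf 730)) (.node (.leaf 810) (.leaf 300))))))) (.node (.node (.node (.node (.node (.node (.leaf 734) (.leaf 665)) (.node (.leaf 269) (.leaf 103))) (.node (.node (.leaf 71) (.leaf 329)) (.node (.leaf 488) (.leaf 445)))) (.node (.node (.node (.leaf 87) (.leaf 697)) (.node (.leaf 351) (.leaf 78))) (.node (.node (.leaf 973) (.leaf 450)) (.node (.leaf 183) (.leaf 249)))))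 (.node (.node (.node (.node (.leaf 695) (.leaf 782)) (.node (.leaf 294) (.leaf 285))) (.node (.node (.leaf 954) (.leaf 752)) (.node (.leaf 421) (.leaf 435)))) (.node (.node (.node (.leaf 845) (.leaf 943)) (.node (.leaf 446) (.leaf 938))) (.node (.node (.leaf 861) (.leaf 544)) (.node (.leaf 923) (.leaf 786)))))) (.node (.node (.node (.node (.node (.leaf 359) (.leaf 919)) (.node (.leaf 739) (.leaf 844))) (.node (.node (.leaf 867) (.leaf 119)) (.node (.leaf 273) (.leaf 264)))) (.node (.node (.node (.leaf 18) (.leaf 968)) (.node (.leaf 344) (.leaf 1006))) (.node (.node (.leaf 332) (.leaf 320)) (.node (.leaf 254) (.leaf 436))))) (.node (.node (.node (.node (.leaf 224) (.leaf 986)) (.node (.leaf 935) (.leaf 554))) (.node (.node (.leaf 453) (.leaf 207)) (.node (.leaf 965) (.leaf 438)))) (.node (.node (.node (.leaf 65) (.leaf 3)) (.node (.leaf 429) (.leaf 98))) (.node (.node (.leaf 408) (.leaf 994)) (.node (.leaf 372) (.leaf 633)))))))))))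

def sylInv : List ℕ := [3, 5, 8, 10, 16, 19, 22, 28, 33, 67, 88, 90, 94, 103, 107, 111, 113, 128, 135, 148, 149, 151, 156, 163, 164, 166, 168, 173, 183, 186, 188, 193, 201, 202, 206, 208, 209, 226, 233, 234, 236, 246, 249, 251, 258, 260, 266, 297, 302, 305, 313, 317, 318, 321, 331, 337, 341, 357, 361, 362, 368, 378, 394, 407, 410, 420, 431, 445, 454, 456, 467, 477, 484, 489, 503, 513, 521, 529, 531, 556, 558, 563, 564, 565, 570, 573, 576, 582, 584, 585, 590, 591, 598, 608, 609, 615, 621, 623, 626, 641, 643, 645, 646, 652, 656, 658, 659, 660, 670, 679, 694, 698, 700, 702, 708, 709, 717, 721, 724, 726, 732, 734, 738, 740, 751, 753, 754, 763, 768, 770, 773, 775, 782, 784, 785, 791, 792, 793, 795, 797, 800, 801, 802, 810, 811, 812, 814, 816, 824, 825, 826, 835, 836, 838, 839, 841, 843, 846, 849, 850, 854, 855, 862, 863, 864, 870, 874, 876, 878, 879, 881, 889, 896, 897, 913, 915, 916, 927, 929, 931, 940, 947, 951, 952, 957, 958, 964, 973, 978, 980, 1023]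

def sylEA : List (List ℕ) := [[0], [0, 103], [0, 103, 168, 896], [0, 103, 785, 878], [0, 103, 801, 850], [0, 10, 103, 168, 183, 565, 694, 896], [0, 103, 156, 168, 186, 660, 726, 896], [0, 103, 168, 785, 801, 850, 878, 896], [0, 5, 103, 576, 785, 792, 797, 878], [0, 103, 623, 698, 785, 826, 835, 878], [0, 10, 103, 156, 168, 183, 186, 565, 660, 694, 726, 785, 801, 850, 878, 896], [0, 10, 103, 168, 183, 565, 570, 615, 645, 694, 734, 753, 795, 811, 824, 896], [0, 103, 107, 156, 164, 168, 186, 188, 208, 573, 660, 709, 726, 738, 863, 896], [0, 5, 103, 168, 576, 623, 698, 785, 792, 797, 801, 826, 835, 850, 878, 896], [0, 19, 103, 168, 202, 590, 641, 751, 785, 793, 801, 850, 878, 896, 897, 1023], [0, 88, 103, 128, 168, 609, 626, 679, 721, 763, 785, 801, 841, 850, 878, 896], [0, 103, 151, 168, 173, 563, 591, 658, 724, 785, 800, 801, 839, 850, 878, 896], [0, 3, 5, 22, 28, 103, 234, 357, 431, 456, 576, 785, 792, 797, 878, 951], [0, 103, 246, 249, 258, 297, 305, 331, 378, 623, 698, 785, 826, 835, 878, 978], [0, 10, 19, 103, 151, 156, 168, 173, 183, 186, 202, 563, 565, 590, 591, 641, 658, 660, 694, 724, 726, 751, 785, 793, 800, 801, 839, 850, 878, 896, 897, 1023], [0,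 5, 88, 103, 128, 151, 168, 173, 563, 576, 591, 609, 623, 626, 658, 679, 698, 721, 724, 763, 785, 792, 797, 800, 801, 826, 835, 839, 841, 850, 878, 896], [0, 10, 19, 33, 67, 103, 151, 156, 168, 173, 183, 186, 202, 236, 260, 266, 302, 318, 321, 341, 361, 362, 368, 394, 407, 410, 445, 454, 489, 503, 529, 558, 563, 565, 590, 591, 641, 658, 660, 694, 724, 726, 751, 785, 793, 800, 801, 839, 850, 878, 896, 897, 913, 915, 927, 929, 931, 940, 952, 957, 958, 964, 980, 1023], [0, 5, 88, 90, 103, 113, 128, 135, 149, 151, 166, 168, 173, 206, 563, 564, 576, 585, 591, 598, 608, 609, 621, 623, 626, 643, 658, 659, 679, 698, 700, 702, 717, 721, 724, 763, 768, 770, 784, 785, 791, 792, 797, 800, 801, 802, 812, 814, 816, 825, 826, 835, 836, 838, 839, 841, 843, 846, 849, 850, 864, 878, 879, 896]]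

end Cfsg.Agent.Lib.J4Out38
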